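import Cfsg.Agent.E8A.Fix.Bor_m3
import Cfsg.Agent.BpExc.AsmN_m3
import Cfsg.Agent.FP3.Aff.Scott
import Cfsg.Agent.Lib.FinFast
import Mathlib
import Cfsg.Agent.BpExc.LangFr
import Cfsg.Agent.FastGrp
import Cfsg.Agent.Prune
set_option linter.all false

-- part: E8A/Reg5/ClsKac
section
set_option linter.all false
open scoped Cfsg.Agent.FastGrp

/-!
# Kac coordinates of the semisimple elements of `E₈(k)` and the dimensions of their fixed spaces (helper93)

* `kac` : `g ^ N = 1`, `N` prime to `p`, `ζ` a primitive `N`-th root of unity: `g` is conjugate to `dz ζ y`, `θ y ≤ N`;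
* `dfx_of_conj` : the dimension of the fixed space is `248 - mv N y`;
* `tab2`, `tab3`, `tab5` : the tables; `dim_two`, `dim_three`, `dim_five`.
-/

set_option autoImplicit false
set_option maxRecDepth 100000

namespace Cfsg.Agent.E8A.Reg5.Cls

open CoxeterSystem Cfsg Cfsg.Lie Matrix Module
open Cfsg.Agent.ChevalleyStructure Cfsg.Agent.ChevalleyStructure.Elts Cfsg.Agent.ChevalleyStructure.CoxeterGeom
  Cfsg.Agent.ChevalleyStructure.CoxeterGeomTypes Cfsg.Agent.ChevalleyStructure.RootVec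
  Cfsg.Agent.ChevalleyStructure.RootVecTab
open Cfsg.Agent.Tits.Roots Cfsg.Agent.Nodes.Reps Cfsg.Agent.Nodes.BNOf Cfsg.Agent.Nodes.RGDChev
open Cfsg.Agent.KFacts.RgdChevCoord Cfsg.Agent.H129.TorusChar
open Cfsg.Agent.H942.E8Tab (e8T theta8 pos8)
open Cfsg.Agent.H942.CB (W8 cs8)
open Cfsg.Agent.H288.E8L (Q8 wt act8 wt_inl wt_inr)
open Cfsg.Agent.H944.Kac (srefl srefl_cast rv_srefl exists_alcove)
open Cfsg.Agent.FP3 (dfx fixSp comSp mem_fixSp finrank_comSp_add_dfx)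

universe u

variable {K : Type u} [Field K]

/-- the value of the coweight `y` on `a` -/
def ex (y a : Q8) : ℤ := ∑ i, a i * y i

/-- the torus element with coordinates `y` -/
def dz (ζ : K) (y : Q8) : Matrix chevE8.Idx chevE8.Idx K := Matrix.diagonal fun j => ζ ^ ex y (wt j)

/-- the number of roots not in the kernel -/
def mv (N : ℕ) (y : Q8) : ℕ := (Finset.univ.filter fun j : chevE8.Idx => ex y (wt j) % N ≠ 0).card

/-- `g` is conjugate to `dz ζ y` -/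
def Cj (g : G8 K) (ζ : K) (y : Q8) : Prop := ∃ c : G8 K, mx g * mx c = mx c * dz ζ y

theorem ex_zero (y : Q8) : ex y 0 = 0 := by simp [ex]

theorem ex_refl (y : Q8) (i : Fin 8) (b : chevE8.Idx) :
    ex y (act8 (cs8.simple i) (wt b)) = ex (srefl chevE8 8 i y) (wt b) := by
  rcases b with b | b
  · rw [wt_inl, act8_zero, ex_zero, ex_zero]
  · have e2 : act8 (cs8.simple i) (vec chevE8 8 b) = vec chevE8 8 (chevE8.reflectRoot i b) := rep_vec e8T cs8 i b.2
    rw [wt_inr, e2]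
    exact (rv_srefl e8T i y b.2).symm

theorem Cj.refl {g : G8 K} {ζ : K} {y : Q8} (h : Cj g ζ y) (i : Fin 8) : Cj g ζ (srefl chevE8 8 i y) := by
  obtain ⟨c, hc⟩ := h
  refine ⟨c * nc e8T K i, ?_⟩
  have h1 : dz ζ y * mx (nc e8T K i) = mx (nc e8T K i) * dz ζ (srefl chevE8 8 i y) := by
    ext a b
    rw [dz, dz, Matrix.diagonal_mul, Matrix.mul_diagonal]
    by_cases h0 : mx (nc e8T K i) a b = 0
    · rw [h0, mul_zero, zero_mul]
    · rw [nc_wt i h0, ex_refl, mul_comm]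
  rw [mx_mul, ← Matrix.mul_assoc, hc, Matrix.mul_assoc, h1, Matrix.mul_assoc]

theorem dz_congr {ζ : K} {N : ℕ} (hζ : IsPrimitiveRoot ζ N) (hN : N ≠ 0) {y y' : Q8}
    (h : ∀ i, ((y i : ℤ) : ZMod N) = ((y' i : ℤ) : ZMod N)) : dz ζ y = dz ζ y' := by
  unfold dz
  congr 1
  funext j
  have h1 : (N : ℤ) ∣ ex y (wt j) - ex y' (wt j) := by
    rw [← ZMod.intCast_zmod_eq_zero_iff_dvd]
    unfold ex
    push_cast
    simp only [h, sub_self]
  have h2 := (hζ.zpow_eq_one_iff_dvd _).2 h1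
  have h0 := hζ.ne_zero hN
  rwa [zpow_sub₀ h0, div_eq_one_iff_eq (zpow_ne_zero _ h0)] at h2

theorem zpow_sum' {ζ : K} (h : ζ ≠ 0) {ι : Type*} (s : Finset ι) (f : ι → ℤ) :
    ζ ^ (∑ i ∈ s, f i) = ∏ i ∈ s, ζ ^ f i := by
  classical
  induction s using Finset.induction_on with
  | empty => simp
  | insert a s ha ih => rw [Finset.sum_insert ha, Finset.prod_insert ha, zpow_add₀ h, ih]

theorem cj_of_TT {ζ : K} {N : ℕ} (hζ : IsPrimitiveRoot ζ N) (hN : N ≠ 0) {g x : G8 K} (hg : g ^ N = 1)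
    (ht : x * g * x⁻¹ ∈ TT chevE8 K) : ∃ y, Cj g ζ y := by
  have : NeZero N := ⟨hN⟩
  have h1 : ∀ i, ∃ m : ℕ, ζ ^ m = cX e8T (x * g * x⁻¹) (sr i) := by
    intro i
    have h2 : cX e8T (x * g * x⁻¹) (sr i) ^ N = 1 := by
      rw [← cX_pow e8T ht, conj_pow, hg, mul_one, mul_inv_cancel, cX_one]
    obtain ⟨m, -, hm⟩ := hζ.eq_pow_of_pow_eq_one h2
    exact ⟨m, hm⟩
  choose m hm using h1
  refine ⟨fun i => m i, x⁻¹, ?_⟩
  have h2 : mx (x * g * x⁻¹) = dz ζ fun i => m i := by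
    rw [mx_TT ht, dz]
    congr 1
    funext j
    rw [(isMC_cX e8T ht).eq_prod, ex, zpow_sum' (hζ.ne_zero hN)]
    refine Finset.prod_congr rfl fun i _ => ?_
    rw [← hm, ← _root_.zpow_natCast, ← _root_.zpow_mul, mul_comm]
  rw [← h2, ← mx_mul, ← mx_mul]
  congr 1
  group

/-- moving the coordinates into the alcove -/
theorem Cj.alcove {ζ : K} {N : ℕ} (hζ : IsPrimitiveRoot ζ N) (hN : N ≠ 0) {g : G8 K} {y₀ : Q8} (h : Cj g ζ y₀) :
    ∃ y : Fin 8 → ℕ, 2 * y 0 + 3 * y 1 + 4 * y 2 + 6 * y 3 + 5 * y 4 + 4 * y 5 + 3 * y 6 + 2 * y 7 ≤ N ∧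
      Cj g ζ fun i => y i := by
  obtain ⟨y, ⟨y', hy', c, hc⟩, hθ⟩ := exists_alcove e8T (N := N) (Nat.pos_of_ne_zero hN) _ _ 60 (by norm_num) theta8
    (by decide) _ pos8 (fun v => ∃ y : Q8, (fun i => ((y i : ℤ) : ZMod N)) = v ∧ Cj g ζ y)
    (by
      rintro _ j ⟨y, rfl, hy⟩
      exact ⟨_, (srefl_cast y j).symm, hy.refl j⟩) ⟨y₀, rfl, h⟩
  refine ⟨y, ?_, c, ?_⟩
  · simp only [Fin.sum_univ_eight, Matrix.cons_val] at hθ
    omega
  · rw [hc, dz_congr hζ hN (y' := fun i => y i) fun i => by rw [congrFun hy' i, Int.cast_natCast]]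

/-- **Kac coordinates** -/
theorem kac {F : Type u} [Field F] [Finite F] (p : ℕ) [Fact p.Prime] [CharP F p] {N : ℕ} (hN : N ≠ 0)
    (hp : N.Coprime p) {ζ : Kb F} (hζ : IsPrimitiveRoot ζ N) {g : G8 (Kb F)} (hg : g ^ N = 1) :
    ∃ y : Fin 8 → ℕ, 2 * y 0 + 3 * y 1 + 4 * y 2 + 6 * y 3 + 5 * y 4 + 4 * y 5 + 3 * y 6 + 2 * y 7 ≤ N ∧
      Cj g ζ fun i => y i := by
  have : CharP (Kb F) p := charP_of_injective_algebraMap (algebraMap F (Kb F)).injective p
  obtain ⟨x, hx⟩ := Cfsg.Agent.H944.TorAnyChev.exists_conj_mem_TT e8T p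
    (Cfsg.Agent.H944.RootVals.hAlg_closure p F) hN hp hg
  obtain ⟨y, hy⟩ := cj_of_TT hζ hN hg hx
  exact hy.alcove hζ hN

/-! ### dimensions -/

theorem dfx_le_of_semi {V : Type*} [AddCommGroup V] [Module K V] [FiniteDimensional K V] {u v e : Module.End K V}
    (he : Function.Injective e) (h : u * e = e * v) : dfx v ≤ dfx u := by
  have h1 : ∀ w ∈ fixSp v, e w ∈ fixSp u := by
    intro w hw
    rw [mem_fixSp] at hw ⊢
    rw [← Module.End.mul_apply, h, Module.End.mul_apply, hw]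
  refine LinearMap.finrank_le_finrank_of_injective (f := e.restrict h1) fun a b hab => ?_
  exact Subtype.ext (he (congrArg Subtype.val hab))

theorem dfx_dz {ζ : K} {N : ℕ} (hζ : IsPrimitiveRoot ζ N) (y : Q8) : dfx (Matrix.toLin' (dz ζ y)) + mv N y = 248 := by
  classical
  have h1 := finrank_comSp_add_dfx (Matrix.toLin' (dz ζ y))
  have h2 : Matrix.toLin' (dz ζ y) - 1 = (Matrix.diagonal fun j => ζ ^ ex y (wt j) - 1).mulVecLin := by
    refine LinearMap.ext fun v => funext fun j => ?_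
    rw [LinearMap.sub_apply, Matrix.toLin'_apply, Matrix.mulVecLin_apply, Pi.sub_apply, dz, Matrix.mulVec_diagonal,
      Matrix.mulVec_diagonal, Module.End.one_apply, sub_mul, one_mul]
  have h3 : finrank K (comSp (Matrix.toLin' (dz ζ y))) = mv N y := by
    rw [comSp, h2]
    change (Matrix.diagonal fun j => ζ ^ ex y (wt j) - 1).rank = _
    rw [Matrix.rank_diagonal, Fintype.card_subtype, mv]
    congr 1
    refine Finset.filter_congr fun j _ => ?_
    rw [Ne, Ne, sub_eq_zero, hζ.zpow_eq_one_iff_dvd, Int.dvd_iff_emod_eq_zero]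
  have h4 : finrank K (chevE8.Idx → K) = 248 := by
    rw [Module.finrank_fintype_fun_eq_card, Fintype.card_sum, Fintype.card_fin, Fintype.card_fin]
    rfl
  omega

theorem LK_eq (g : G8 K) : LK K g = Matrix.toLin' (mx g) := LinearMap.ext fun _ => rfl

theorem dfx_of_cj {ζ : K} {N : ℕ} (hζ : IsPrimitiveRoot ζ N) {g : G8 K} {y : Q8} (h : Cj g ζ y) :
    dfx (LK K g) + mv N y = 248 := by
  obtain ⟨c, hc⟩ := h
  have h1 : LK K g * LK K c = LK K c * Matrix.toLin' (dz ζ y) := by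
    rw [LK_eq, LK_eq, Module.End.mul_eq_comp, Module.End.mul_eq_comp, ← Matrix.toLin'_mul, ← Matrix.toLin'_mul, hc]
  have h2 : Matrix.toLin' (dz ζ y) * LK K c⁻¹ = LK K c⁻¹ * LK K g := by
    calc Matrix.toLin' (dz ζ y) * LK K c⁻¹ = LK K c⁻¹ * (LK K c * Matrix.toLin' (dz ζ y)) * LK K c⁻¹ := by
          rw [← mul_assoc, ← map_mul, inv_mul_cancel, map_one, one_mul]
      _ = LK K c⁻¹ * LK K g := by rw [← h1, mul_assoc, mul_assoc, ← map_mul, mul_inv_cancel, map_one, mul_one]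
  have h3 := dfx_le_of_semi (act_injective c) h1
  have h4 := dfx_le_of_semi (act_injective c⁻¹) h2
  have h5 := dfx_dz hζ y
  omega

theorem ev_eq_dfx {V : Type*} [AddCommGroup V] [Module K V] (u : Module.End K V) :
    Cfsg.Agent.H952.F4.ev u 1 = dfx u := by
  rw [Cfsg.Agent.H952.F4.ev, Module.End.eigenspace_def, one_smul]
  rfl

/-! ### the tables -/

/-- the points of the alcove and the codimensions of the fixed spaces, `N = 2, 3, 5` -/
def tb : ℕ → List (List ℕ × ℕ)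
  | 2 => [([0, 0, 0, 0, 0, 0, 0, 0], 248), ([0, 0, 0, 0, 0, 0, 0, 1], 136), ([1, 0, 0, 0, 0, 0, 0, 0], 120)]
  | 3 => [([0, 0, 0, 0, 0, 0, 0, 0], 248), ([0, 0, 0, 0, 0, 0, 0, 1], 134), ([0, 0, 0, 0, 0, 0, 1, 0], 86),
      ([0, 1, 0, 0, 0, 0, 0, 0], 80), ([1, 0, 0, 0, 0, 0, 0, 0], 92)]
  | _ => [([0, 0, 0, 0, 0, 0, 0, 0], 248), ([0, 0, 0, 0, 0, 0, 0, 1], 134), ([0, 0, 0, 0, 0, 0, 0, 2], 134),
      ([0, 0, 0, 0, 0, 0, 1, 0], 82), ([0, 0, 0, 0, 0, 0, 1, 1], 82), ([0, 0, 0, 0, 0, 1, 0, 0], 54),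
      ([0, 0, 0, 0, 1, 0, 0, 0], 48), ([0, 0, 1, 0, 0, 0, 0, 0], 52), ([0, 1, 0, 0, 0, 0, 0, 0], 64),
      ([0, 1, 0, 0, 0, 0, 0, 1], 52), ([1, 0, 0, 0, 0, 0, 0, 0], 92), ([1, 0, 0, 0, 0, 0, 0, 1], 68),
      ([1, 0, 0, 0, 0, 0, 1, 0], 54), ([1, 1, 0, 0, 0, 0, 0, 0], 64), ([2, 0, 0, 0, 0, 0, 0, 0], 92)]

private noncomputable def _root_.Cfsg.Agent.LsF.f312019_0 : {f // @Cfsg.Agent.E8A.Reg5.Cls.tb = f} := ⟨_, by first | (delta Cfsg.Agent.E8A.Reg5.Cls.tb; (try delta Cfsg.Agent.E8A.Reg5.Cls.tb.match_1); (try rewrite [Cfsg.Agent.LsF.instDecEq_eq, Cfsg.Agent.LsF.dite_eq]); exact rfl) | exact rfl⟩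
private noncomputable def _root_.Cfsg.Agent.LsF.f312019_1 : {f // @Cfsg.Agent.E8A.Reg5.Cls.ex = f} := ⟨_, by first | (delta Cfsg.Agent.E8A.Reg5.Cls.ex; rewrite [Cfsg.Agent.LsF.sumF_pat, Cfsg.Agent.LsF.iadd_pat, Cfsg.Agent.LsF.imul_pat, Cfsg.Agent.LsF.iACM_eq]; exact rfl) | exact rfl⟩
private noncomputable def _root_.Cfsg.Agent.LsF.f312019_2 : {f // @Cfsg.Agent.ChevalleyStructure.RootVecTab.dig = f} := ⟨_, by first | (delta Cfsg.Agent.ChevalleyStructure.RootVecTab.dig; rewrite [Cfsg.Agent.LsF.nmul_pat]; exact rfl) | exact rfl⟩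
private noncomputable def _root_.Cfsg.Agent.LsF.f312019_3 : {f // @Cfsg.Agent.ChevalleyStructure.RootVecTab.packTab = f} := ⟨_, by first | (delta Cfsg.Agent.ChevalleyStructure.RootVecTab.packTab; rewrite [Cfsg.Agent.LsF.instDecEq_eq, Cfsg.Agent.LsF.ite_eq]; exact rfl) | exact rfl⟩
private noncomputable def _root_.Cfsg.Agent.LsF.f312019_4 : {f // @Cfsg.Agent.ChevalleyStructure.RootVecTab.code = f} := ⟨_, by first | (delta Cfsg.Agent.ChevalleyStructure.RootVecTab.code; rewrite [Cfsg.Agent.LsF.f312019_3.2, Cfsg.Agent.LsF.nmul_pat, Cfsg.Agent.LsF.npow_pat]; exact rfl) | exact rfl⟩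
private noncomputable def _root_.Cfsg.Agent.LsF.f312019_5 : {f // @Cfsg.Agent.ChevalleyStructure.RootVec.rt = f} := ⟨_, by first | (delta Cfsg.Agent.ChevalleyStructure.RootVec.rt; rewrite [Cfsg.Agent.LsF.f312019_2.2, Cfsg.Agent.LsF.f312019_4.2, Cfsg.Agent.LsF.nsub_pat, Cfsg.Agent.LsF.isub_pat, Cfsg.Agent.LsF.icast_pat, Cfsg.Agent.LsF.decLt_eq, Cfsg.Agent.LsF.dAnd_eq, Cfsg.Agent.LsF.ite_eq]; exact rfl) | exact rfl⟩
private noncomputable def _root_.Cfsg.Agent.LsF.f312019_6 : {f // @Cfsg.Agent.Nodes.RGDChev.vec = f} := ⟨_, by first | (delta Cfsg.Agent.Nodes.RGDChev.vec; rewrite [Cfsg.Agent.LsF.f312019_5.2]; exact rfl) | exact rfl⟩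
private noncomputable def _root_.Cfsg.Agent.LsF.f312019_7 : {f // @Cfsg.Agent.H288.E8L.wt = f} := ⟨_, by first | (delta Cfsg.Agent.H288.E8L.wt; rewrite [Cfsg.Agent.LsF.f312019_6.2]; exact rfl) | exact rfl⟩
private noncomputable def _root_.Cfsg.Agent.LsF.f312019_8 : {f // @Cfsg.Agent.E8A.Reg5.Cls.mv = f} := ⟨_, by first | (delta Cfsg.Agent.E8A.Reg5.Cls.mv; rewrite [Cfsg.Agent.LsF.f312019_1.2, Cfsg.Agent.LsF.f312019_7.2, Cfsg.Agent.LsF.imod_pat, Cfsg.Agent.LsF.icast_pat, Cfsg.Agent.LsF.finFintype_eq, Cfsg.Agent.LsF.fcard_eq, Cfsg.Agent.LsF.ffilter_eq, Cfsg.Agent.LsF.instIDecEq_eq, Cfsg.Agent.LsF.dNot_eq]; exact rfl) | exact rfl⟩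
theorem tb_mv : ∀ N ∈ [2, 3, 5], ∀ e ∈ tb N, e.2 + mv N (fun i => (e.1.getD i 0 : ℕ)) = 248 := by (refine of_decide_eq_true ?_; (try (rewrite [Cfsg.Agent.LsF.f312019_0.2, Cfsg.Agent.LsF.f312019_8.2, Cfsg.Agent.LsF.nadd_pat, Cfsg.Agent.LsF.icast_pat, Cfsg.Agent.LsF.instDecEq_eq, Cfsg.Agent.LsF.getD_eq, Cfsg.Agent.LsF.dBAll_eq, Cfsg.Agent.LsF.decide_eq])); decide +kernel)

theorem tb_all : ∀ N ∈ [2, 3, 5], ∀ a b c d e f g h : Fin 3,
    2 * a.val + 3 * b.val + 4 * c.val + 6 * d.val + 5 * e.val + 4 * f.val + 3 * g.val + 2 * h.val ≤ N →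
      ∃ x ∈ tb N, x.1 = [a.val, b.val, c.val, d.val, e.val, f.val, g.val, h.val] := by (refine of_decide_eq_true ?_; (try (rewrite [Cfsg.Agent.LsF.f312019_0.2, Cfsg.Agent.LsF.nadd_pat, Cfsg.Agent.LsF.nmul_pat, Cfsg.Agent.LsF.instDecEq_eq, Cfsg.Agent.LsF.decLe_eq, Cfsg.Agent.LsF.dBAll_eq, Cfsg.Agent.LsF.dBEx_eq, Cfsg.Agent.LsF.dListEq_eq, Cfsg.Agent.LsF.dForallFin_eq, Cfsg.Agent.LsF.dAllP_eq, Cfsg.Agent.LsF.decide_eq])); decide +kernel)

/-- the classes of the elements of order 2, 3, 5 -/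
theorem exists_tb {F : Type u} [Field F] [Finite F] (p : ℕ) [Fact p.Prime] [CharP F p] {N : ℕ} (hN : N ∈ [2, 3, 5])
    (hp : N.Coprime p) {ζ : Kb F} (hζ : IsPrimitiveRoot ζ N) {g : G8 (Kb F)} (hg : g ^ N = 1) :
    ∃ x ∈ tb N, Cj g ζ (fun i => (x.1.getD i 0 : ℕ)) ∧ dfx (LK (Kb F) g) = x.2 := by
  have h5 : N ≠ 0 ∧ N ≤ 5 := by
    simp only [List.mem_cons, List.not_mem_nil, or_false] at hN
    omega
  obtain ⟨y, hy, hc⟩ := kac p h5.1 hp hζ hg
  obtain ⟨x, hx, e⟩ := tb_all N hN ⟨y 0, by omega⟩ ⟨y 1, by omega⟩ ⟨y 2, by omega⟩ ⟨y 3, by omega⟩ ⟨y 4, by omega⟩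
    ⟨y 5, by omega⟩ ⟨y 6, by omega⟩ ⟨y 7, by omega⟩ hy
  have e1 : (fun i : Fin 8 => ((x.1.getD i 0 : ℕ) : ℤ)) = fun i => (y i : ℤ) := by
    rw [e]
    funext i
    fin_cases i <;> rfl
  have h1 := tb_mv N hN x hx
  have h2 := dfx_of_cj hζ hc
  rw [e1] at h1
  exact ⟨x, hx, by rw [e1]; exact hc, by omega⟩

theorem exists_prim {F : Type u} [Field F] (p : ℕ) [Fact p.Prime] [CharP F p] {N : ℕ} (hp : N.Coprime p) :
    ∃ ζ : Kb F, IsPrimitiveRoot ζ N := by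
  have : CharP (Kb F) p := charP_of_injective_algebraMap (algebraMap F (Kb F)).injective p
  have : NeZero (N : Kb F) := ⟨fun h => by
    rw [CharP.cast_eq_zero_iff (Kb F) p] at h
    exact (Fact.out : p.Prime).ne_one (Nat.Coprime.eq_one_of_dvd hp.symm h)⟩
  exact HasEnoughRootsOfUnity.exists_primitiveRoot (Kb F) N

end Cfsg.Agent.E8A.Reg5.Cls

private theorem dce_18deda89cc6c : _root_.True := by
  try have : _root_.True := by simp only [_root_.Cfsg.Agent.E8A.Reg5.Cls.dz.eq_1]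
  try have : _root_.True := by simp only [_root_.Cfsg.Agent.H952.F4.ev.eq_1]
  try have : _root_.True := by simp only [_root_.Cfsg.Agent.E8A.Reg5.Cls.ex.eq_1]
  try have : _root_.True := by simp only [_root_.Cfsg.Agent.E8A.Reg5.Cls.mv.eq_1]
  exact _root_.True.intro
end

-- part: E8A/Reg5/Iface
section
set_option linter.all false

-- part: E8A/Reg5/Ico
section
/-!
# The icosahedral group on the projective line: the data (helper42)

`Ico k Γ P π` : a finite group `Γ` (the binary icosahedral group) with a map `π` onto `A₅` and a map `ρ` to `SL₂(k)`; `P` is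
a finite set of points of the projective line, the union of four orbits of sizes 30, 20, 12 (classes `some 0`,
`some 1`, `some 2`) and 60 (class `none`).
-/

set_option autoImplicit false

namespace Cfsg.Agent.E8A.Reg5

open Matrix

universe u

/-- the alternating group of degree five -/
abbrev A5 : Type := ↥(alternatingGroup (Fin 5))

/-- the three orders -/
def mm : Fin 3 → ℕ := ![2, 3, 5]

/-- the orders of the stabilizers in `A₅` of the points of the four classes -/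
def mo : Option (Fin 3) → ℕ := fun c => c.elim 1 mm

/-- the determinant of two vectors -/
def dt {R : Type*} [CommRing R] (v w : Fin 2 → R) : R := v 0 * w 1 - v 1 * w 0

/-- The binary icosahedral group and four of its orbits on the projective line. -/
structure Ico (k : Type u) [Field k] (Γ P : Type) [Group Γ] [Fintype Γ] [Fintype P] (π : Γ →* A5) where
  /-- the representation of degree two -/
  ρ : Γ →* SpecialLinearGroup (Fin 2) k
  surj : Function.Surjective π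
  card : (Fintype.card Γ : k) ≠ 0
  perf : ∀ χ : Γ →* kˣ, χ = 1
  /-- the class of a point -/
  cl : P → Option (Fin 3)
  /-- a vector on the line -/
  v : P → Fin 2 → k
  indep : ∀ x y, x ≠ y → dt (v x) (v y) ≠ 0
  cnt : ∀ c, (Finset.univ.filter fun x => cl x = c).card * mo c = 60
  /-- the action on the points -/
  mv : Γ → P → P
  /-- the scalars -/
  sc : Γ → P → k
  sc_ne : ∀ γ x, sc γ x ≠ 0
  mv_cl : ∀ γ x, cl (mv γ x) = cl x
  mv_inj : ∀ γ, Function.Injective (mv γ)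
  mv_v : ∀ γ x, (ρ γ).1 *ᵥ v x = sc γ x • v (mv γ x)
  /-- base points -/
  b : Option (Fin 3) → P
  b_cl : ∀ c, cl (b c) = c
  trans : ∀ x, ∃ γ, mv γ (b (cl x)) = x
  /-- generators of the stabilizers -/
  g : Fin 3 → Γ
  /-- their eigenvalues -/
  η : Fin 3 → k
  /-- the second eigenvectors -/
  w : Fin 3 → Fin 2 → k
  g_v : ∀ i, (ρ (g i)).1 *ᵥ v (b (some i)) = η i • v (b (some i))
  g_w : ∀ i, (ρ (g i)).1 *ᵥ w i = (η i)⁻¹ • w i
  dt_vw : ∀ i, dt (v (b (some i))) (w i) = 1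
  prim : ∀ i, IsPrimitiveRoot (η i ^ 2) (mm i)
  ord : ∀ i, orderOf (π (g i)) = mm i
  /-- the central involution -/
  z : Γ
  z_ne : z ≠ 1
  ρ_z : (ρ z).1 = -1
  π_z : π z = 1
  free : ∀ γ, mv γ (b none) = b none → γ = 1 ∨ γ = z

/-- **ICO**: the data exist over an algebraically closed field of characteristic at least 7. -/
def ICO : Prop := ∀ (k : Type u) [Field k] [IsAlgClosed k] (p : ℕ) [CharP k p], 7 ≤ p →
  ∃ (Γ P : Type) (_ : Group Γ) (_ : Fintype Γ) (_ : Fintype P) (π : Γ →* A5), Nonempty (Ico k Γ P π)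

end Cfsg.Agent.E8A.Reg5
end

-- part: E8A/Reg5/Iface
section
/-!
# `A₅` without fixed vectors on the adjoint module of `E₈`, characteristic at least 7: the boxes (helper42)

See `notes/E8A/reg5.md`.
-/

set_option autoImplicit false

namespace Cfsg.Agent.E8A.Reg5

open Cfsg Cfsg.Lie Matrix
open Cfsg.Agent.H952.F4 (MaxAlt)
open Cfsg.Agent.H288.E8L (wt)
open Cfsg.Agent.LangThm (van rk)
open Cfsg.Agent.ChevalleyStructure.LieAut (adR)

universe u

/-- the nodes with marks 2, 3, 5 (centralizers `D₈`, `A₈`, `A₄ A₄`) -/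
def nd : Fin 3 → Fin 8 := ![0, 1, 4]

/-- the three gradings -/
def lam (i : Fin 3) (j : chevE8.Idx) : ℤ := wt j (nd i)

/-- the coordinates of three matrices -/
def co3 {ι R : Type*} (γ : Fin 3 → Matrix ι ι R) : Fin 3 × ι × ι → R := fun t => γ t.1 t.2.1 t.2.2

/-- no fixed vectors -/
def NoFix {K : Type u} [Field K] (φ : A5 →* G8 K) : Prop := ∀ v : L8 K, (∀ a, act (φ a) v = v) → v = 0

/-- **AUT**: the automorphisms of the algebra. -/
def AUT : Prop := ∀ (K : Type u) [Field K] [IsAlgClosed K] (p : ℕ) [CharP K p], 7 ≤ p →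
  ∀ a a' : Matrix chevE8.Idx chevE8.Idx K, a * a' = 1 → (∀ x : L8 K, a * adm x = adm (a *ᵥ x) * a) →
    ∃ g : G8 K, mx g = a

/-- **KIL**: the trace form is nondegenerate. -/
def KIL : Prop := ∀ (K : Type u) [Field K] (p : ℕ) [CharP K p], 7 ≤ p →
  (Matrix.of fun i j : chevE8.Idx => Matrix.trace (adR chevE8 K i * adR chevE8 K j)).det ≠ 0

/-- **N3**: there is no grading with three terms. -/
def N3 : Prop := ∀ (K : Type u) [Field K] (p : ℕ) [CharP K p], 7 ≤ p →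
  ∀ h : L8 K, adm h * adm h * adm h = adm h → h = 0

/-- **CLS**: the classes of the elements of an `A₅` without fixed vectors. -/
def CLS : Prop := ∀ (F : Type u) [Field F] [Finite F] (p : ℕ) [CharP F p], 7 ≤ p →
  ∀ φ : A5 →* G8 (Kb F), NoFix φ → ∀ (i : Fin 3) (a : A5) (ζ : Kb F), orderOf a = mm i → IsPrimitiveRoot ζ (mm i) →
    ∃ c : G8 (Kb F), mx (φ a) * mx c = mx c * Matrix.diagonal fun j => ζ ^ lam i j

/-- **GEN**: two points of `G³` of rank `3 * 248` have the same vanishing ideal. -/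
def GEN : Prop := ∀ (k : Type u) [Field k] [IsAlgClosed k] (Ω Ω' : Type u) [Field Ω] [Field Ω'] [Algebra k Ω]
  [Algebra k Ω'] (γ : Fin 3 → G8 Ω) (γ' : Fin 3 → G8 Ω'), 744 ≤ rk k (co3 fun i => mx (γ i)) →
    744 ≤ rk k (co3 fun i => mx (γ' i)) → van k (co3 fun i => mx (γ i)) = van k (co3 fun i => mx (γ' i))

/-- **RHO**: a rational `A₅` without fixed vectors with a rational centralizing element. -/
def RHO : Prop := ∀ (F : Type u) [Field F] [Finite F] (p : ℕ) [CharP F p], 7 ≤ p →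
  ∃ ρ : A5 →* G8 F, NoFix ρ ∧ ∃ z : G8 F, z ≠ 1 ∧ ∀ a, z * ρ a = ρ a * z

/-- **UNIQ**: uniqueness over the algebraic closure. -/
def UNIQ : Prop := ∀ (F : Type u) [Field F] [Finite F] (p : ℕ) [CharP F p], 7 ≤ p →
  ∀ φ φ' : A5 →* G8 (Kb F), NoFix φ → NoFix φ' → ∃ g : G8 (Kb F), ∀ a, g * φ a = φ' a * g

/-- **REG5**: the result. -/
def REG5 : Prop := ∀ (F : Type u) [Field F] [Finite F] (p : ℕ) [CharP F p], 7 ≤ p →
  ∀ (H : Subgroup (G8 F)) (φ : A5 →* G8 F), MaxAlt H 5 φ → NoFix φ → False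

/-- **END5**: the end of the proof. -/
def END5 : Prop := UNIQ.{u} → RHO.{u} → REG5.{u}

end Cfsg.Agent.E8A.Reg5
end
end
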