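import Cfsg.Agent.E8A.Fix.Main_m3
import Cfsg.Agent.E8A.Fix.Bor_m3
import Cfsg.Agent.ChevFast.E8
import Cfsg.Agent.ChevFast.Lin
import Cfsg.Agent.Prune
set_option linter.all false
open scoped Cfsg.Agent.FastGrp

/-!
# Automorphisms of the root system of type `E₈` (helper44)

* `exists_weyl` : an automorphism of the root lattice preserving the roots lies in the Weyl group;
* `sepK` : short vectors are separated by the toral vectors in characteristic at least 7;
* `root_ind` : induction over the roots;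
* `adA_ne` : the structure constants for the simple roots.
-/

set_option autoImplicit false
set_option linter.unusedSectionVars false
set_option maxRecDepth 100000

namespace Cfsg.Agent.E8A.Reg5.Aut

open Cfsg Cfsg.Lie CoxeterSystem
open Cfsg.Agent.ChevalleyStructure Cfsg.Agent.ChevalleyStructure.JacMain
open Cfsg.Agent.ChevalleyStructure.CoxeterGeom Cfsg.Agent.ChevalleyStructure.CoxeterGeomTypes
open Cfsg.Agent.Tits.Roots Cfsg.Agent.Nodes.Reps Cfsg.Agent.Nodes.BNOf Cfsg.Agent.Nodes.RGDChev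
open Cfsg.Agent.H897.T5Lat (Frm bf bf_apply)
open Cfsg.Agent.H942.E8Tab (e8T)
open Cfsg.Agent.E8A.Frm (B0 fm8 finW8 hom_ext)
open Cfsg.Agent.H288.E8L (Ncf adA_chain)

universe u

theorem B0_sr (i : Fin 8) (x : Q8) : B0 (sr i) x = pairing (cartanOf chevE8 8) i x := by
  rw [bf_apply, Finset.sum_eq_single i]
  · unfold pairing
    exact Finset.sum_congr rfl fun j _ => by rw [sr_self, one_mul]
  · intro j _ hj
    exact Finset.sum_eq_zero fun k _ => by rw [sr_ne hj, zero_mul, zero_mul]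
  · intro h
    exact absurd (Finset.mem_univ i) h

theorem pairing_sr' (i j : Fin 8) : pairing (cartanOf chevE8 8) i (sr j) = cartanOf chevE8 8 i j := by
  unfold pairing
  rw [Finset.sum_eq_single j]
  · rw [sr_self, mul_one]
  · intro k _ hk
    rw [sr_ne hk, mul_zero]
  · intro h
    exact absurd (Finset.mem_univ j) h

theorem rt_sr (i : Fin 8) : Rt (sr i) := isRoot_sr cs8 e8T.isCartan i

theorem norm_sub_le (x y : Q8) : B0 (x - y) (x - y) ≤ 2 * B0 x x + 2 * B0 y y := by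
  have h1 := fm8.norm_sub_smul x y 1
  have h2 := fm8.norm_add x y
  have h3 := fm8.nonneg (x + y)
  rw [one_smul] at h1
  linarith

/-- the pairing of a root with a simple root -/
theorem pairing_cases {a : Q8} (ha : Rt a) (i : Fin 8) :
    a = sr i ∨ a = -sr i ∨ pairing (cartanOf chevE8 8) i a = 0 ∨ pairing (cartanOf chevE8 8) i a = 1 ∨
      pairing (cartanOf chevE8 8) i a = -1 := by
  by_cases h1 : a = sr i
  · exact Or.inl h1
  by_cases h2 : a = -sr i
  · exact Or.inr (Or.inl h2)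
  have h3 := fm8.sl a (sr i) ha (rt_sr i) h1 h2
  rw [← fm8.cpr a (sr i) (rt_sr i), fm8.symm, B0_sr, abs_le] at h3
  omega

/-- induction over the roots -/
theorem root_ind {P : Q8 → Prop} (h0 : ∀ i, P (sr i)) (hs : ∀ i a, Rt a → P a → P (rp8 (cs8.simple i) a)) {a : Q8}
    (ha : Rt a) : P a := by
  obtain ⟨w, i, rfl⟩ := ha
  induction w using cs8.simple_induction_left with
  | one => rw [map_one, Module.End.one_apply]; exact h0 i
  | mul_simple_left w j ih =>
    rw [map_mul, Module.End.mul_apply]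
    exact hs j _ ((rt_sr i).act w) ih

set_option synthInstance.maxSize 100000 in
set_option synthInstance.maxHeartbeats 400000 in
theorem diag8 : ∀ x3 x1 : Fin 8, cartanOf chevE8 8 x3 x1 = -1 → ∀ x2, cartanOf chevE8 8 x3 x2 = -1 → x2 ≠ x1 →
    ∀ x4, cartanOf chevE8 8 x3 x4 = -1 → x4 ≠ x1 → x4 ≠ x2 → ∀ x0, cartanOf chevE8 8 x2 x0 = -1 → x0 ≠ x3 →
    ∀ x5, cartanOf chevE8 8 x4 x5 = -1 → x5 ≠ x3 → ∀ x6, cartanOf chevE8 8 x5 x6 = -1 → x6 ≠ x4 →
    ∀ x7, cartanOf chevE8 8 x6 x7 = -1 → x7 ≠ x5 →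
    x0 = 0 ∧ x1 = 1 ∧ x2 = 2 ∧ x3 = 3 ∧ x4 = 4 ∧ x5 = 5 ∧ x6 = 6 ∧ x7 = 7 := by
  (delta Cfsg.Agent.ChevalleyStructure.CoxeterGeomTypes.cartanOf; rewrite [Cfsg.Agent.ChevFast.E8.cartan]; decide +kernel)

theorem ht_sr (i : Fin 8) : ht (sr i : Q8) = 1 := by
  unfold ht
  rw [Finset.sum_eq_single i]
  · exact sr_self i
  · intro j _ hj
    exact sr_ne hj
  · intro h
    exact absurd (Finset.mem_univ i) h

theorem eq_of_pos {G : Q8 ≃+ Q8} (h1 : ∀ a, Rt a → Rt (G a)) (h2 : ∀ a, Rt a → Rt (G.symm a))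
    (h3 : ∀ a, Rt a → 0 ≤ a → 0 ≤ G a) (x : Q8) : G x = x := by
  have := finW8
  have := Fintype.ofFinite W8
  have h4 : ∀ a, Rt a → 0 ≤ a → 0 ≤ G.symm a := by
    intro a ha h0
    rcases (h2 a ha).pos_or_neg with h5 | h5
    · exact h5
    · have h6 := h3 _ (h2 a ha).neg (neg_nonneg.2 h5)
      rw [map_neg, AddEquiv.apply_symm_apply] at h6
      exact absurd (neg_nonneg.1 h6) (ha.not_pos_neg h0)
  have h5 : ∀ i, ∃ j, G (sr i) = sr j := by
    intro i
    have hr := h1 _ (rt_sr i)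
    have hp := h3 _ (rt_sr i) (sr_nonneg i)
    obtain ⟨j, -, hj⟩ := exists_pairing_pos cs8 e8T.isCartan hp hr.ne_zero
    refine ⟨j, ?_⟩
    by_contra hne
    have h6 : pairing (cartanOf chevE8 8) j (G (sr i)) = 1 := by
      rcases pairing_cases hr j with h | h | h | h | h
      · exact absurd h hne
      · rw [h] at hp
        exact absurd (neg_nonneg.1 hp) ((rt_sr j).not_pos_neg (sr_nonneg j))
      · omega
      · exact h
      · omega
    have h7 := hr.act (cs8.simple j)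
    have h8 := hr.simple_nonneg hp j hne
    rw [rep_simple_eq, h6, one_smul] at h7 h8
    have h9 := RGD.ht_pos (h2 _ h7) (h4 _ h7 h8)
    have h10 := RGD.ht_pos (h2 _ (rt_sr j)) (h4 _ (rt_sr j) (sr_nonneg j))
    have h11 : G.symm (G (sr i) - sr j) + G.symm (sr j) = sr i := by
      rw [← map_add, sub_add_cancel, AddEquiv.symm_apply_apply]
    have h12 := congrArg ht h11
    rw [RGD.ht_add, ht_sr] at h12
    omega
  choose σ hσ using h5
  have hinj : ∀ i j, i ≠ j → σ i ≠ σ j := by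
    intro i j hij h
    have h6 : (sr i : Q8) = sr j := G.injective (by rw [hσ, hσ, h])
    have h7 := congrFun h6 i
    rw [sr_self, sr_ne hij] at h7
    exact one_ne_zero h7
  have hadj : ∀ i j, cartanOf chevE8 8 i j = -1 → cartanOf chevE8 8 (σ i) (σ j) = -1 := by
    intro i j hij
    have h6 := (rt_sr j).act (cs8.simple i)
    rw [rep_simple_eq, pairing_sr', hij, neg_smul, one_smul, sub_neg_eq_add] at h6
    have h7 := fm8.self (h1 _ h6)
    rw [map_add G, hσ, hσ, fm8.norm_add, fm8.self (rt_sr _), fm8.self (rt_sr _), fm8.symm, B0_sr, pairing_sr'] at h7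
    omega
  obtain ⟨e0, e1, e2, e3, e4, e5, e6, e7⟩ := diag8 (σ 3) (σ 1) (hadj 3 1 (by decide +kernel)) (σ 2)
    (hadj 3 2 (by decide +kernel)) (hinj _ _ (by decide)) (σ 4) (hadj 3 4 (by decide +kernel)) (hinj _ _ (by decide))
    (hinj _ _ (by decide)) (σ 0) (hadj 2 0 (by decide +kernel)) (hinj _ _ (by decide)) (σ 5)
    (hadj 4 5 (by decide +kernel)) (hinj _ _ (by decide)) (σ 6) (hadj 5 6 (by decide +kernel)) (hinj _ _ (by decide))
    (σ 7) (hadj 6 7 (by decide +kernel)) (hinj _ _ (by decide))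
  have h6 : ∀ i, σ i = i := by
    intro i
    fin_cases i
    exacts [e0, e1, e2, e3, e4, e5, e6, e7]
  exact DFunLike.congr_fun (hom_ext (f := G.toAddMonoidHom) (g := AddMonoidHom.id Q8) fun i => by
    show G (sr i) = sr i
    rw [hσ, h6]) x

/-- **The automorphisms of the root system.** -/
theorem exists_weyl {G : Q8 ≃+ Q8} (h1 : ∀ a, Rt a → Rt (G a)) (h2 : ∀ a, Rt a → Rt (G.symm a)) :
    ∃ v : W8, ∀ x, G (rp8 v x) = x := by
  obtain ⟨v, -, hv⟩ := BpExc.Fr.exists_adjust (cs := cs8) (h := e8T.isCartan) {a | Rt a} ⊤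
    (fun a ha => by
      obtain ⟨w, i, e⟩ := ha
      exact ⟨w, i, e, Subgroup.mem_top _⟩) G h1
  refine ⟨v, eq_of_pos (G := (BpExc.Fr.repAut cs8 e8T.isCartan v).trans G) (fun a ha => h1 _ (ha.act v))
    (fun a ha => (h2 a ha).act v⁻¹) (fun a ha h0 => hv a ha h0)⟩

/-- separation -/
theorem sepK {K : Type u} [Field K] (p : ℕ) [CharP K p] (hp : 7 ≤ p) {a : Q8} (ha : B0 a a < 49)
    (h : ∀ h : L8 K, InT h → rl h a = 0) : a = 0 := by
  have h1 : ∀ i, (p : ℤ) ∣ a i := by
    intro i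
    obtain ⟨x, hx, e⟩ := exists_rl (K := K) (AddMonoidHom.mk' (fun y : Q8 => ((y i : ℤ) : K)) fun y z => by
      rw [Pi.add_apply, Int.cast_add])
    have h2 := h x hx
    rw [e] at h2
    exact (CharP.intCast_eq_zero_iff K p _).1 h2
  choose y hy using h1
  have h2 : a = (p : ℤ) • (y : Q8) := funext fun i => hy i
  by_cases h3 : (y : Q8) = 0
  · rw [h2, h3, smul_zero]
  · exfalso
    have h4 := fm8.pos y h3
    rw [h2, map_smul, map_smul, LinearMap.smul_apply, smul_eq_mul, smul_eq_mul] at ha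
    have h5 : (7 : ℤ) ≤ p := by exact_mod_cast hp
    nlinarith [mul_le_mul h5 h5 (by norm_num) (by omega)]

theorem tabN : ∀ (j : Fin 8) (r : Fin chevE8.nroots), chevE8.cartan j r = -1 →
    (Ncf (chevE8.simple j) r (chevE8.reflectRoot j r)).natAbs = 1 := by
  (delta Cfsg.Agent.H288.E8L.Ncf Cfsg.Lie.ChevalleyDatum.chainRoot Cfsg.Lie.ChevalleyDatum.reflectRoot; rewrite [Cfsg.Agent.ChevFast.E8.cartan, Cfsg.Agent.ChevFast.E8.chainCoeff, Cfsg.Agent.ChevFast.E8.chainEntry, Cfsg.Agent.ChevFast.E8.neg]; open scoped Cfsg.Agent.ChevFast.Lin in decide +kernel)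

/-- the index of a simple root -/
def si (j : Fin 8) : Fin chevE8.nroots := ⟨chevE8.simple j, NPerm.simple_lt e8T.inList (lt_rank e8T j)⟩

theorem vec_si (j : Fin 8) : vec chevE8 8 (si j) = sr j := vec_simple e8T j

/-- the structure constants -/
theorem adA_ne {K : Type u} [Field K] (j : Fin 8) {r u : Fin chevE8.nroots}
    (h : vec chevE8 8 u = sr j + vec chevE8 8 r) :
    ((adA chevE8 (Sum.inr (si j)) (Sum.inr u) (Sum.inr r) : ℤ) : K) ≠ 0 := by
  have h1 := fm8.self (Frm.rt_vec u)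
  rw [h, fm8.norm_add, fm8.self (rt_sr _), fm8.self (Frm.rt_vec r), B0_sr] at h1
  have h2 : pairing (cartanOf chevE8 8) j (vec chevE8 8 r) = -1 := by omega
  have h3 : r ≠ si j := by
    rintro rfl
    rw [vec_si, ← B0_sr, fm8.self (rt_sr j)] at h2
    omega
  have h4 : r.val ≠ chevE8.negIdx.getD (si j).val 0 := by
    intro e
    have h5 : vec chevE8 8 r = -vec chevE8 8 (si j) := by
      rw [e]; exact vec_neg e8T (si j).2
    rw [h5, vec_si, ← B0_sr, map_neg, fm8.self (rt_sr j)] at h2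
    omega
  have h5 := rep_vec e8T cs8 j r.2
  rw [rep_simple_eq, h2, neg_smul, one_smul, sub_neg_eq_add, add_comm, ← h] at h5
  have h6 : chevE8.reflectRoot j r < chevE8.nroots :=
    (RootComb.good_of_mem e8T.inList).reflect_lt (lt_rank e8T j) r.2
  have h7 : u.val = chevE8.reflectRoot j r := vec_inj e8T u.2 h6 h5
  rw [adA_chain h3 h4 (by rw [vec_si]; exact h), h7]
  rw [pairing_vec e8T j r.2] at h2
  have h8 := tabN j r h2
  rcases Int.natAbs_eq_iff.1 h8 with h9 | h9
  · rw [show (si j).val = chevE8.simple j from rfl, h9]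
    simp
  · rw [show (si j).val = chevE8.simple j from rfl, h9]
    simp

/-- the index of the negative of a root -/
def ng (r : Fin chevE8.nroots) : Fin chevE8.nroots := ⟨chevE8.neg r, NPerm.neg_lt e8T.inList r.2⟩

theorem vec_ng (r : Fin chevE8.nroots) : vec chevE8 8 (ng r) = -vec chevE8 8 r := vec_neg e8T r.2

theorem ng_ne (r : Fin chevE8.nroots) : ng r ≠ r := by
  intro h
  have h1 := vec_ng r
  rw [h] at h1
  have h2 := fm8.self (Frm.rt_vec r)
  nth_rewrite 1 [h1] at h2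
  rw [map_neg, LinearMap.neg_apply, fm8.self (Frm.rt_vec r)] at h2
  omega

theorem exists_adA_ng {K : Type u} [Field K] (r : Fin chevE8.nroots) :
    ∃ i : Fin chevE8.rank, ((adA chevE8 (Sum.inr r) (Sum.inl i) (Sum.inr (ng r)) : ℤ) : K) ≠ 0 := by
  obtain ⟨i, hi⟩ := CorootGcd.exists_coroot_ne_zero (F := K) (D := chevE8) (by simp) r.2
  refine ⟨i, ?_⟩
  rw [adA_inr, Ring.coefE_entry chevE8 r 1 r.2]
  have h1 : (ng r).val ≠ r.val := fun h => ng_ne r (Fin.ext h)
  have h2 : (ng r).val = chevE8.negIdx.getD r.val 0 := rfl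
  simp only [if_neg h1, if_pos h2, if_true]
  exact hi

end Cfsg.Agent.E8A.Reg5.Aut
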