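import Cfsg.Agent.FP3.Aff.Scott
import Cfsg.Agent.Lib.VonDyck
import Cfsg.Agent.E8A.Reg5.ClsKac_m3
import Cfsg.Agent.E8A.Fix.Bor_m3
import Cfsg.Agent.S1054
import Cfsg.Agent.E8A.Reg5.AutLat
import Cfsg.Agent.E8A.Fix.Main_m3
import Cfsg.Agent.H405.UE.NegSymm
import Cfsg.Agent.H934.E83.Hom
import Cfsg.Agent.H238.E8.Frame
import Cfsg.Agent.H482.Ore.Fix
import Cfsg.Agent.H514.DP.SLRes
import Cfsg.Agent.S0248
import Cfsg.Agent.S0249
import Cfsg.Agent.FastGrp
import Cfsg.Agent.Prune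
set_option linter.all false

section
prune_inst 0x7fffacfafbfcfddfdfff7e7ffe9cdffdb9b93fffa6dffd433fe021ef2bdf6b808fe57baf8be002fe1fc3e29490ba7843ffffffffea6fd87ffffd1ff41ffbee0ff5f7b508519e8cb40f380ff603f067886f3fffffffffffffffffffffffffffbeffffffffffff

-- part: E8A/Reg5/RhoCoh
section
prune_inst 0x43050403022020000180012220004646800050200088c004ce10d020941660128010041bfd00403409284c44039800000000010023000002a000600411d008000a912061110ad0872009e000900610000000000000000000000000000000000000000000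
set_option linter.all false
open scoped Cfsg.Agent.FastGrp

/-!
# Fixed vectors of `A₅` in characteristic prime to 60 (helper8)

`dim V + dim V^G ≤ dim V^x + dim V^y + dim V^(xy)` for the generators `x, y` of orders 2, 3 with `xy` of order 5.
-/

set_option autoImplicit false

namespace Cfsg.Agent.E8A.Reg5.Rho

open Module
open Cfsg.Agent.FP3 (dfx fixSp mem_fixSp)
open Cfsg.Agent.Lib.VonDyck

variable {K V G : Type*} [Field K] [AddCommGroup V] [Module K V] [Group G]

theorem rep_mul (ρ : Representation K G V) (g h : G) (w : V) : ρ (g * h) w = ρ g (ρ h w) := by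
  rw [map_mul]; rfl

theorem rep_one (ρ : Representation K G V) (w : V) : ρ 1 w = w := by
  rw [map_one]; rfl

/-- the affine map `w ↦ g w + u` -/
def aff (ρ : Representation K G V) (g : G) (u : V) : Equiv.Perm V where
  toFun w := ρ g w + u
  invFun w := ρ g⁻¹ (w - u)
  left_inv w := by
    show ρ g⁻¹ (ρ g w + u - u) = w
    rw [add_sub_cancel_right, ← rep_mul, inv_mul_cancel, rep_one]
  right_inv w := by
    show ρ g (ρ g⁻¹ (w - u)) + u = w
    rw [← rep_mul, mul_inv_cancel, rep_one, sub_add_cancel]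

theorem aff_apply (ρ : Representation K G V) (g : G) (u w : V) : aff ρ g u w = ρ g w + u := rfl

theorem aff_mul (ρ : Representation K G V) (g h : G) (u v : V) : aff ρ g u * aff ρ h v = aff ρ (g * h) (ρ g v + u) := by
  ext w
  rw [Equiv.Perm.mul_apply, aff_apply, aff_apply, aff_apply, map_add, rep_mul, add_assoc]

/-- the norm map -/
def nrm (ρ : Representation K G V) (g : G) (n : ℕ) : V →ₗ[K] V := ∑ i ∈ Finset.range n, ρ (g ^ i)

theorem nrm_apply (ρ : Representation K G V) (g : G) (n : ℕ) (u : V) :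
    nrm ρ g n u = ∑ i ∈ Finset.range n, ρ (g ^ i) u := by
  rw [nrm, LinearMap.sum_apply]

theorem aff_pow (ρ : Representation K G V) (g : G) (u : V) (n : ℕ) : aff ρ g u ^ n = aff ρ (g ^ n) (nrm ρ g n u) := by
  induction n with
  | zero =>
    ext w
    rw [pow_zero, pow_zero, aff_apply, nrm_apply, rep_one, Finset.sum_range_zero, add_zero, Equiv.Perm.one_apply]
  | succ n ih => rw [pow_succ, ih, aff_mul, ← pow_succ, nrm_apply, nrm_apply, Finset.sum_range_succ, add_comm (ρ _ u)]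

theorem aff_pow_eq_one (ρ : Representation K G V) {g : G} {u : V} {n : ℕ} (hg : g ^ n = 1) (hu : nrm ρ g n u = 0) :
    aff ρ g u ^ n = 1 := by
  ext w
  rw [aff_pow, hg, hu, aff_apply, rep_one, add_zero, Equiv.Perm.one_apply]

theorem nrm_mem (ρ : Representation K G V) {g : G} {n : ℕ} (hg : g ^ n = 1) (u : V) : nrm ρ g n u ∈ fixSp (ρ g) := by
  rw [mem_fixSp, nrm_apply, map_sum]
  have h1 := Finset.sum_range_succ (fun i => ρ (g ^ i) u) n
  rw [Finset.sum_range_succ', hg, pow_zero, add_left_inj] at h1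
  rw [← h1]
  exact Finset.sum_congr rfl fun i _ => by rw [← rep_mul, ← pow_succ']

theorem exists_cob (ρ : Representation K (alternatingGroup (Fin 5)) V) (h60 : ((60 : ℕ) : K) ≠ 0) {u v : V}
    (h1 : nrm ρ a5 2 u = 0) (h2 : nrm ρ b5 3 v = 0) (h3 : nrm ρ (a5 * b5) 5 (ρ a5 v + u) = 0) :
    ∃ w, w - ρ a5 w = u ∧ w - ρ b5 w = v := by
  obtain ⟨φ, φ1, φ2⟩ := exists_hom_alternatingFive (aff_pow_eq_one ρ a5_sq h1) (aff_pow_eq_one ρ b5_pow h2)
    (by rw [aff_mul]; exact aff_pow_eq_one ρ ab5_pow h3)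
  have key : ∀ g u, φ g = aff ρ g u → ((60 : ℕ) : K)⁻¹ • ∑ a, φ a 0 - ρ g (((60 : ℕ) : K)⁻¹ • ∑ a, φ a 0) = u := by
    intro g u hg
    have e1 : ∑ a, φ a 0 = ρ g (∑ a, φ a 0) + ((60 : ℕ) : K) • u := by
      conv_lhs => rw [← Equiv.sum_comp (Equiv.mulLeft g)]
      simp only [Equiv.coe_mulLeft, map_mul, Equiv.Perm.mul_apply, hg, aff_apply]
      rw [Finset.sum_add_distrib, map_sum, Finset.sum_const, Finset.card_univ, ← Nat.card_eq_fintype_card,
        card_alternating5, Nat.cast_smul_eq_nsmul]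
    rw [map_smul, ← smul_sub]
    nth_rewrite 1 [e1]
    rw [add_sub_cancel_left, smul_smul, inv_mul_cancel₀ h60, one_smul]
  exact ⟨_, key _ _ φ1, key _ _ φ2⟩

theorem eq_zero_of_dfx [FiniteDimensional K V] (ρ : Representation K (alternatingGroup (Fin 5)) V)
    (h60 : ((60 : ℕ) : K) ≠ 0) (h : dfx (ρ a5) + dfx (ρ b5) + dfx (ρ (a5 * b5)) ≤ finrank K V) {v : V}
    (ha : ρ a5 v = v) (hb : ρ b5 v = v) : v = 0 := by
  let Φ : V × V →ₗ[K] fixSp (ρ a5) × fixSp (ρ b5) × fixSp (ρ (a5 * b5)) :=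
    (((nrm ρ a5 2).codRestrict _ (nrm_mem ρ a5_sq)).comp (LinearMap.fst K V V)).prod
      ((((nrm ρ b5 3).codRestrict _ (nrm_mem ρ b5_pow)).comp (LinearMap.snd K V V)).prod
        (((nrm ρ (a5 * b5) 5).codRestrict _ (nrm_mem ρ ab5_pow)).comp
          ((ρ a5).comp (LinearMap.snd K V V) + LinearMap.fst K V V)))
  let B : V →ₗ[K] V × V := (LinearMap.id - ρ a5).prod (LinearMap.id - ρ b5)
  have h1 : LinearMap.ker Φ ≤ LinearMap.range B := by
    rintro ⟨u, w⟩ hu
    have e := LinearMap.mem_ker.1 hu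
    obtain ⟨x, e1, e2⟩ := exists_cob ρ h60 (u := u) (v := w) (congrArg (fun t => (t.1 : V)) e)
      (congrArg (fun t => (t.2.1 : V)) e) (congrArg (fun t => (t.2.2 : V)) e)
    exact ⟨x, Prod.ext e1 e2⟩
  have h2 := Submodule.finrank_mono h1
  have h3 := Φ.finrank_range_add_finrank_ker
  have h4 := B.finrank_range_add_finrank_ker
  have h5 := (LinearMap.range Φ).finrank_le
  rw [finrank_prod] at h3
  rw [finrank_prod, finrank_prod] at h5
  have h6 : finrank K (LinearMap.ker B) = 0 := by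
    unfold dfx at h
    omega
  have h7 : v ∈ LinearMap.ker B := by
    rw [LinearMap.mem_ker]
    exact Prod.ext (sub_eq_zero.2 ha.symm) (sub_eq_zero.2 hb.symm)
  rwa [Submodule.finrank_eq_zero.1 h6] at h7

end Cfsg.Agent.E8A.Reg5.Rho

private theorem dce_9bf57b6c392b : _root_.True := by
  try have : _root_.True := by simp only [_root_.Cfsg.Agent.E8A.Reg5.Rho.nrm.eq_1]
  exact _root_.True.intro
end

-- part: E8A/Reg5/End
section
prune_inst 0x510104000000200001800063000244468000502002b8800d16009000146f50128050701f8401a020112a46400388000000000590068000004000c00411d00a0808252061200a10c660009808900610000000000000000000000000000041000000000000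
set_option linter.all false
open scoped Cfsg.Agent.FastGrp

/-!
# The box END5 (helper8)
-/

set_option autoImplicit false
set_option maxRecDepth 100000

namespace Cfsg.Agent.E8A.Reg5.End

open Cfsg Cfsg.Lie Matrix
open Cfsg.Agent.H952.F4 (MaxAlt)
open Cfsg.Agent.Lib.VonDyck (a5 b5)

universe u

variable {F : Type u} [Field F]

theorem noFix_emb0 {φ : A5 →* G8 F} (h : NoFix φ) : NoFix ((emb0 (F := F)).comp φ) := by
  intro v hv
  funext i
  refine (Module.forall_dual_apply_eq_zero_iff F (v i)).1 fun l => ?_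
  refine congrFun (h (fun j => l (v j)) fun a => funext fun j => ?_) i
  have h1 := congrFun (hv a) j
  rw [act_apply] at h1 ⊢
  rw [← h1, map_sum]
  refine Finset.sum_congr rfl fun k _ => ?_
  rw [← smul_eq_mul, ← map_smul, Algebra.smul_def]
  rfl

theorem noFix_of_emb0 {φ : A5 →* G8 F} (h : NoFix ((emb0 (F := F)).comp φ)) : NoFix φ := by
  intro v hv
  apply mp0_injective
  rw [h (mp0 v) fun a => by rw [MonoidHom.comp_apply, act_emb0, hv]]
  exact (mp_zero _).symm

/-- the elements with entries in a subfield -/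
def ent {K : Type u} [Field K] (E : Subfield K) : Subgroup (G8 K) where
  carrier := {g | (∀ i j, mx g i j ∈ E) ∧ ∀ i j, mx g⁻¹ i j ∈ E}
  mul_mem' := by
    rintro a b ⟨h1, h2⟩ ⟨h3, h4⟩
    refine ⟨fun i j => ?_, fun i j => ?_⟩
    · rw [mx_mul, Matrix.mul_apply]
      exact sum_mem fun k _ => mul_mem (h1 _ _) (h3 _ _)
    · rw [_root_.mul_inv_rev, mx_mul, Matrix.mul_apply]
      exact sum_mem fun k _ => mul_mem (h4 _ _) (h2 _ _)
  one_mem' := by
    have h : ∀ i j, mx (1 : G8 K) i j ∈ E := fun i j => by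
      rw [mx_one, Matrix.one_apply]
      split_ifs
      · exact one_mem _
      · exact zero_mem _
    exact ⟨h, by rw [inv_one]; exact h⟩
  inv_mem' := by
    rintro a ⟨h1, h2⟩
    exact ⟨h2, by rw [inv_inv]; exact h1⟩

theorem finite_ent {K : Type u} [Field K] (E : Subfield K) [Finite E] : Finite (ent E) :=
  Finite.of_injective (fun g i j => (⟨mx g.1 i j, g.2.1 i j⟩ : E)) fun _ _ h =>
    Subtype.ext (mx_injective (Matrix.ext fun i j => congrArg Subtype.val (congrFun (congrFun h i) j)))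

variable [Finite F]

theorem sg_ent {E : Subfield (Kb F)} {g : G8 (Kb F)} (hg : g ∈ ent E) : sg g ∈ ent E := by
  have h : ∀ x : G8 (Kb F), (∀ i j, mx x i j ∈ E) → ∀ i j, mx (sg x) i j ∈ E := fun x hx i j => by
    show fq F (mx x i j) ∈ E
    rw [fq_apply]
    exact pow_mem (hx i j) _
  exact ⟨h g hg.1, by rw [← map_inv]; exact h _ hg.2⟩

theorem exists_ent (c : G8 (Kb F)) : ∃ E : Subfield (Kb F), Finite E ∧ c ∈ ent E := by
  let S : Set (Kb F) := Set.range (fun t : chevE8.Idx × chevE8.Idx => mx c t.1 t.2) ∪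
    Set.range (fun t : chevE8.Idx × chevE8.Idx => mx c⁻¹ t.1 t.2)
  have : Finite S := ((Set.finite_range _).union (Set.finite_range _)).to_subtype
  have : FiniteDimensional F (IntermediateField.adjoin F S) :=
    IntermediateField.finiteDimensional_adjoin fun x _ => Algebra.IsIntegral.isIntegral x
  have h1 : Finite (IntermediateField.adjoin F S) := Module.finite_of_finite F
  exact ⟨(IntermediateField.adjoin F S).toSubfield, h1,
    fun i j => IntermediateField.subset_adjoin F S (Or.inl ⟨(i, j), rfl⟩),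
    fun i j => IntermediateField.subset_adjoin F S (Or.inr ⟨(i, j), rfl⟩)⟩

/-- homomorphisms which are conjugate over the closure are conjugate over the field, if the centralizer is trivial -/
theorem exists_rat {A G Y : Type*} [Group A] [Group G] [Group Y] {e : G →* Y} {σ : Y →* Y} (he : Function.Injective e)
    (hσ : ∀ x, σ (e x) = e x) (hfix : ∀ y, σ y = y → ∃ x, e x = y)
    (hfin : ∀ c : Y, ∃ T : Subgroup Y, Finite T ∧ c ∈ T ∧ ∀ t ∈ T, σ t ∈ T)
    {φ ρ : A →* G} (hC : ∀ x : G, (∀ a, x * φ a = φ a * x) → x = 1)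
    {g : Y} (hg : ∀ a, g * e (φ a) = e (ρ a) * g) : ∃ y : G, ∀ a, y * ρ a = φ a * y := by
  have hg' : ∀ a, σ g * e (φ a) = e (ρ a) * σ g := fun a => by
    have h := congrArg σ (hg a)
    rwa [map_mul, map_mul, hσ, hσ] at h
  obtain ⟨T, hT, hc, hTs⟩ := hfin ((σ g)⁻¹ * g)
  let S : Subgroup Y := T ⊓ Subgroup.centralizer (Set.range fun a => e (φ a))
  have : Finite S := Finite.of_injective _ (Subgroup.inclusion_injective (inf_le_left : S ≤ T))
  have hS : ∀ x, x ∈ S ↔ x ∈ T ∧ ∀ a, e (φ a) * x = x * e (φ a) := fun x => by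
    rw [Subgroup.mem_inf, Subgroup.mem_centralizer_iff]
    exact and_congr_right fun _ => Set.forall_mem_range
  have hsg : ∀ x ∈ S, σ x ∈ S := fun x hx => (hS _).2 ⟨hTs _ ((hS _).1 hx).1, fun a => by
    have h := congrArg σ (((hS _).1 hx).2 a)
    rwa [map_mul, map_mul, hσ] at h⟩
  let L : S → S := fun x => ⟨(σ x.1)⁻¹ * x.1, mul_mem (inv_mem (hsg _ x.2)) x.2⟩
  have key : ∀ x y : Y, (σ x)⁻¹ * x = (σ y)⁻¹ * y → ∃ w : G, e w = x * y⁻¹ := fun x y h => by
    apply hfix
    rw [map_mul, map_inv]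
    calc σ x * (σ y)⁻¹ = σ x * ((σ y)⁻¹ * y) * y⁻¹ := by group
      _ = x * y⁻¹ := by rw [← h]; group
  have hL : Function.Injective L := by
    intro x y h
    obtain ⟨w, hw⟩ := key x y (congrArg Subtype.val h)
    have h1 : w = 1 := hC w fun a => he (by
      rw [map_mul, map_mul, hw]
      exact (((hS _).1 (mul_mem x.2 (inv_mem y.2))).2 a).symm)
    rw [h1, map_one, eq_comm, mul_inv_eq_one] at hw
    exact Subtype.ext hw
  have hcS : (σ g)⁻¹ * g ∈ S := (hS _).2 ⟨hc, fun a => by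
    rw [mul_assoc, hg, ← mul_assoc, ← mul_assoc]
    congr 1
    rw [eq_inv_mul_iff_mul_eq, ← mul_assoc, hg', mul_inv_cancel_right]⟩
  obtain ⟨x, hx⟩ := Finite.surjective_of_injective hL ⟨_, hcS⟩
  obtain ⟨y, hy⟩ := key x g (congrArg Subtype.val hx)
  refine ⟨y, fun a => he ?_⟩
  rw [map_mul, map_mul, hy, ← mul_assoc, ((hS _).1 x.2).2, mul_assoc, mul_assoc]
  congr 1
  rw [inv_mul_eq_iff_eq_mul, ← mul_assoc, hg, mul_inv_cancel_right]

theorem exists_fin (c : G8 (Kb F)) : ∃ T : Subgroup (G8 (Kb F)), Finite T ∧ c ∈ T ∧ ∀ t ∈ T, sg t ∈ T := by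
  obtain ⟨E, hE, hc⟩ := exists_ent c
  exact ⟨ent E, finite_ent E, hc, fun _ => sg_ent⟩

theorem cen_eq {G : Type*} [Group G] [IsSimpleGroup G] {H : Subgroup G} {φ : A5 →* G} (h : MaxAlt H 5 φ) (x : G)
    (hx : ∀ a, x * φ a = φ a * x) : x = 1 := by
  let C : Subgroup G := Subgroup.centralizer (φ.range : Set G)
  have hna : ¬ φ.range ≤ C := fun h1 => by
    have h2 : φ a5 * φ b5 = φ b5 * φ a5 := h1 ⟨b5, rfl⟩ _ ⟨a5, rfl⟩
    rw [← map_mul, ← map_mul] at h2
    have h3 := h.inj h2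
    revert h3
    decide
  have hn : ∀ y ∈ H, ∀ c ∈ C, y * c * y⁻¹ ∈ C := fun y hy c hc a ha => by
    have h1 := hc _ (h.norm _ (inv_mem hy) a ha)
    calc a * (y * c * y⁻¹) = y * (y⁻¹ * a * y⁻¹⁻¹ * c) * y⁻¹ := by group
      _ = y * c * y⁻¹ * a := by rw [h1]; group
  have h1 : C ⊓ H = ⊥ := by
    by_contra h1
    exact hna ((h.min _ inf_le_right (fun y hy b hb => ⟨hn y hy b hb.1, H.mul_mem (H.mul_mem hy hb.2) (H.inv_mem hy)⟩)
      h1).trans inf_le_left)
  have hxC : x ∈ C := by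
    rintro _ ⟨a, rfl⟩
    exact (hx a).symm
  by_contra hx1
  have h2 : H < Subgroup.normalizer (C : Set G) := by
    refine lt_of_le_of_ne (fun y hy => Subgroup.mem_normalizer_iff.2 fun c => ⟨hn y hy c, fun hc => ?_⟩) fun e => ?_
    · have h3 := hn _ (inv_mem hy) _ hc
      simpa [mul_assoc] using h3
    · have h3 : x ∈ C ⊓ H := ⟨hxC, e ▸ Subgroup.le_normalizer hxC⟩
      rw [h1] at h3
      exact hx1 h3
  have h3 : C.Normal := Subgroup.normalizer_eq_top_iff.1 (h.coatom.2 _ h2)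
  rcases h3.eq_bot_or_eq_top with e | e
  · rw [e] at hxC
    exact hx1 hxC
  · exact hna (e ▸ le_top)

/-- **END5** -/
theorem end5 : END5.{u} := by
  intro hU hR F _ _ p _ hp H φ hM hφ
  have : IsSimpleGroup (G8 F) := (Cfsg.Agent.S1054.result (F := F) chevE8 (by simp)).1
  obtain ⟨ρ, hρ, z, hz1, hz⟩ := hR F p hp
  obtain ⟨g, hg⟩ := hU F p hp _ _ (noFix_emb0 hφ) (noFix_emb0 hρ)
  obtain ⟨y, hy⟩ := exists_rat emb0_injective sg_emb0 (fun _ => fix_G) exists_fin (cen_eq hM) hg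
  have h1 : y * z * y⁻¹ = 1 := cen_eq hM _ fun a => by
    have h2 : φ a = y * ρ a * y⁻¹ := by rw [hy, mul_inv_cancel_right]
    rw [h2]
    calc y * z * y⁻¹ * (y * ρ a * y⁻¹) = y * (z * ρ a) * y⁻¹ := by group
      _ = y * ρ a * y⁻¹ * (y * z * y⁻¹) := by rw [hz]; group
  exact hz1 (by simpa only [_root_.conj_eq_one_iff] using h1)

end Cfsg.Agent.E8A.Reg5.End
end

-- part: E8A/Reg5/Aut
section
prune_inst 0x510500020220200001800163200002024000402000b84002ca1010201418400a80506410b001001c01094000001000000000000026800000e00040000050000008002000100010404009e800000610000000000000000000000000000000000000000000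
set_option linter.all false
open scoped Cfsg.Agent.FastGrp

/-!
# The box AUT: the automorphisms of the algebra of type `E₈` in characteristic at least 7 (helper44)
-/

set_option autoImplicit false
set_option linter.unusedSectionVars false
set_option maxRecDepth 100000

namespace Cfsg.Agent.E8A.Reg5.Aut

open Cfsg Cfsg.Lie CoxeterSystem Matrix
open Cfsg.Agent.ChevalleyStructure Cfsg.Agent.ChevalleyStructure.JacMain
open Cfsg.Agent.ChevalleyStructure.CoxeterGeom Cfsg.Agent.ChevalleyStructure.CoxeterGeomTypes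
open Cfsg.Agent.ChevalleyStructure.LieAut Cfsg.Agent.ChevalleyStructure.LieAbs
open Cfsg.Agent.Tits.Roots Cfsg.Agent.Nodes.Reps Cfsg.Agent.Nodes.BNOf Cfsg.Agent.Nodes.RGDChev
open Cfsg.Agent.H129.TorusChar
open Cfsg.Agent.H942.E8Tab (e8T)
open Cfsg.Agent.E8A.Frm (B0 fm8 finW8 hom_ext invB8)
open Cfsg.Agent.H288.E8L (wt wt_inl wt_inr rt_vec vec_ne_zero exists_idx wt_inj)

universe u

variable {K : Type u} [Field K]

/-- an automorphism of the algebra together with its inverse -/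
structure IsAut (b b' : Matrix chevE8.Idx chevE8.Idx K) : Prop where
  mul : b * b' = 1
  ad : ∀ x : L8 K, b * adm x = adm (b *ᵥ x) * b

namespace IsAut

variable {b b' c c' : Matrix chevE8.Idx chevE8.Idx K}

theorem mul' (h : IsAut b b') : b' * b = 1 := mul_eq_one_comm.1 h.mul

theorem cancel (h : IsAut b b') (x : L8 K) : b *ᵥ (b' *ᵥ x) = x := by
  rw [Matrix.mulVec_mulVec, h.mul, Matrix.one_mulVec]

theorem cancel' (h : IsAut b b') (x : L8 K) : b' *ᵥ (b *ᵥ x) = x := by
  rw [Matrix.mulVec_mulVec, h.mul', Matrix.one_mulVec]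

theorem symm (h : IsAut b b') : IsAut b' b := by
  refine ⟨h.mul', fun x => ?_⟩
  have h1 := h.ad (b' *ᵥ x)
  rw [h.cancel] at h1
  calc b' * adm x = b' * (adm x * b) * b' := by rw [Matrix.mul_assoc, Matrix.mul_assoc, h.mul, Matrix.mul_one]
    _ = adm (b' *ᵥ x) * b' := by rw [← h1, ← Matrix.mul_assoc, h.mul', Matrix.one_mul]

theorem trans (h : IsAut b b') (h2 : IsAut c c') : IsAut (b * c) (c' * b') := by
  refine ⟨?_, fun x => ?_⟩
  · rw [Matrix.mul_assoc, ← Matrix.mul_assoc c, h2.mul, Matrix.one_mul, h.mul]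
  · rw [Matrix.mul_assoc, h2.ad, ← Matrix.mul_assoc, h.ad, Matrix.mulVec_mulVec, Matrix.mul_assoc]

theorem map_br (h : IsAut b b') (x y : L8 K) : b *ᵥ br x y = br (b *ᵥ x) (b *ᵥ y) := by
  unfold br
  rw [Matrix.mulVec_mulVec, h.ad, Matrix.mulVec_mulVec]

end IsAut

theorem isAut_mx (g : G8 K) : IsAut (mx g) (mx g⁻¹) := ⟨mx_mul_inv g, adm_conj g⟩

theorem br_TT {x h : L8 K} (hx : InT x) (hh : InT h) : br x h = 0 := by
  funext i
  rw [br_T hx, Pi.zero_apply]
  rcases i with i | r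
  · rw [wt_inl, map_zero, zero_mul]
  · rw [hh r, mul_zero]

/-- step 1: the Cartan subalgebra -/
theorem exists_normal [IsAlgClosed K] {a a' : Matrix chevE8.Idx chevE8.Idx K} (h : IsAut a a') :
    ∃ g : G8 K, (∀ x, InT x → InT ((mx g * a) *ᵥ x)) ∧ ∀ x, InT x → InT ((a' * mx g⁻¹) *ᵥ x) := by
  obtain ⟨h0, hT, hreg⟩ := Bor.exists_reg chevE8 (Bor.car_ne K)
  have hT' : InT h0 := hT
  obtain ⟨g1, hg1⟩ := Bor.borel K (a *ᵥ h0)
  obtain ⟨g2, hg2⟩ := jord K _ hg1
  rw [← act_mul] at hg2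
  obtain ⟨g, hg⟩ : ∃ g, g = g2 * g1 := ⟨_, rfl⟩
  rw [← hg] at hg2
  have hY := (isAut_mx g).trans h
  obtain ⟨Y, hYe⟩ : ∃ Y, Y = mx g * a := ⟨_, rfl⟩
  obtain ⟨Y', hYe'⟩ : ∃ Y', Y' = a' * mx g⁻¹ := ⟨_, rfl⟩
  have hx : Jor (Y *ᵥ h0) := by
    rw [hYe, ← Matrix.mulVec_mulVec]
    exact hg2
  rw [← hYe, ← hYe'] at hY
  refine ⟨g, ?_⟩
  rw [← hYe, ← hYe']
  have h1 := hY.ad h0
  have h2 : Y * (diagonal (fun i => rl h0 (wt i)) + 0) =
      (diagonal (fun i => rl (tp (Y *ᵥ h0)) (wt i)) + adm (Y *ᵥ h0 - tp (Y *ᵥ h0))) * Y := by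
    rw [add_zero, ← adm_T hT', ← adm_split, h1]
  have h3 := diag_conj_of IsNilpotent.zero (nilp_adm (sub_tp_mem hx.1)) (Commute.zero_right _) hx.commute h2
  rw [← adm_T hT', ← adm_T (inT_tp _), h1] at h3
  have h4 : Y *ᵥ h0 = tp (Y *ᵥ h0) := by
    apply adm_injective
    calc adm (Y *ᵥ h0) = adm (Y *ᵥ h0) * Y * Y' := by rw [Matrix.mul_assoc, hY.mul, Matrix.mul_one]
      _ = adm (tp (Y *ᵥ h0)) := by rw [h3, Matrix.mul_assoc, hY.mul, Matrix.mul_one]
  have h5 : InT (Y *ᵥ h0) := by rw [h4]; exact inT_tp _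
  have h6 : ∀ x, InT x → InT (Y' *ᵥ x) := by
    intro x hx' r
    have h7 := hY.symm.map_br (Y *ᵥ h0) x
    rw [br_TT h5 hx', Matrix.mulVec_zero, hY.cancel'] at h7
    have h8 := congrFun h7 (Sum.inr r)
    rw [br_T hT', wt_inr, rl_vec, Pi.zero_apply] at h8
    exact (mul_eq_zero.1 h8.symm).resolve_left (hreg r)
  refine ⟨fun x hx' => ?_, h6⟩
  let f : ↥(LS K {0}) →ₗ[K] ↥(LS K {0}) :=
    (Matrix.mulVecLin Y').restrict fun y hy => inT_iff.1 (h6 y (inT_iff.2 hy))
  have hf : Function.Injective f := by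
    intro y z hyz
    have h7 : Y' *ᵥ y.1 = Y' *ᵥ z.1 := congrArg Subtype.val hyz
    apply Subtype.ext
    rw [← hY.cancel y.1, h7, hY.cancel]
  obtain ⟨y, hy⟩ := LinearMap.injective_iff_surjective.1 hf ⟨x, inT_iff.1 hx'⟩
  have h7 : Y' *ᵥ y.1 = x := congrArg Subtype.val hy
  rw [← h7, hY.cancel]
  exact inT_iff.2 y.2

theorem norm_wt (i : chevE8.Idx) : B0 (wt i) (wt i) ≤ 2 := by
  rcases i with i | r
  · rw [wt_inl, map_zero]
    norm_num
  · exact le_of_eq (fm8.self (rt_vec r))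

theorem eq_of_rl (p : ℕ) [CharP K p] (hp : 7 ≤ p) {a b : Q8} (ha : B0 a a ≤ 20) (hb : B0 b b ≤ 2)
    (h : ∀ h : L8 K, InT h → rl h a = rl h b) : a = b := by
  have h1 := norm_sub_le a b
  exact sub_eq_zero.1 (sepK (K := K) p hp (by omega) fun x hx => by rw [map_sub, h x hx, sub_self])

/-- step 2: the root vectors -/
theorem exists_perm (p : ℕ) [CharP K p] (hp : 7 ≤ p) {b b' : Matrix chevE8.Idx chevE8.Idx K} (h : IsAut b b')
    (h2 : ∀ x, InT x → InT (b' *ᵥ x)) (r : Fin chevE8.nroots) : ∃ (s : Fin chevE8.nroots) (c : K),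
      b *ᵥ ee K (Sum.inr r) = c • ee K (Sum.inr s) ∧ ∀ x, InT x → rv s x = rv r (b' *ᵥ x) := by
  obtain ⟨y, hy⟩ : ∃ y, y = b *ᵥ ee K (Sum.inr r) := ⟨_, rfl⟩
  have h3 : ∀ x, InT x → ∀ i, y i ≠ 0 → rl x (wt i) = rv r (b' *ᵥ x) := by
    intro x hx i hi
    have h4 := h.map_br (b' *ᵥ x) (ee K (Sum.inr r))
    rw [br_T_ee (h2 x hx), Matrix.mulVec_smul, h.cancel, ← hy] at h4
    have h5 := congrFun h4 i
    rw [br_T hx, Pi.smul_apply, smul_eq_mul] at h5
    exact (mul_right_cancel₀ hi h5).symm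
  have h4 : ∃ s, y (Sum.inr s) ≠ 0 := by
    by_contra hc
    push Not at hc
    have h5 := h2 y hc r
    rw [hy, h.cancel', ee_self] at h5
    exact one_ne_zero h5
  obtain ⟨s, hs⟩ := h4
  refine ⟨s, y (Sum.inr s), ?_, fun x hx => ?_⟩
  · rw [← hy]
    refine eq_smul_ee fun i hi => ?_
    exact eq_of_rl (K := K) p hp ((norm_wt i).trans (by norm_num)) (norm_wt (Sum.inr s)) fun x hx => by
      rw [h3 x hx i hi]
      exact (h3 x hx _ hs).symm
  · rw [← h3 x hx _ hs, wt_inr, rl_vec]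

/-- the map induced on the root lattice -/
theorem exists_lat (p : ℕ) [CharP K p] (hp : 7 ≤ p) {b b' : Matrix chevE8.Idx chevE8.Idx K} (h : IsAut b b')
    (h2 : ∀ x, InT x → InT (b' *ᵥ x)) : ∃ G : Q8 →+ Q8, (∀ a, Rt a → Rt (G a)) ∧
      ∀ x, InT x → ∀ a, rl x (G a) = rl (b' *ᵥ x) a := by
  choose π c hc hπ using exists_perm p hp h h2
  let G : Q8 →+ Q8 := AddMonoidHom.mk' (fun x : Q8 => ∑ i, x i • vec chevE8 8 (π (si i))) fun y z => by
    rw [← Finset.sum_add_distrib]
    exact Finset.sum_congr rfl fun i _ => by rw [Pi.add_apply, add_smul]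
  have hG : ∀ j, G (sr j) = vec chevE8 8 (π (si j)) := by
    intro j
    show ∑ i, (sr j : Q8) i • vec chevE8 8 (π (si i)) = _
    rw [Finset.sum_eq_single j]
    · rw [sr_self, one_smul]
    · intro i _ hi
      rw [sr_ne hi, zero_smul]
    · intro hj
      exact absurd (Finset.mem_univ j) hj
  have h3 : ∀ x, InT x → ∀ a, rl x (G a) = rl (b' *ᵥ x) a := by
    intro x hx a
    refine DFunLike.congr_fun (additive_ext (f := (rl x).comp G) (g := rl (b' *ᵥ x)) fun i => ?_) a
    show rl x (G (sr i)) = _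
    rw [hG, rl_vec, hπ _ x hx, ← vec_si, rl_vec]
  refine ⟨G, fun a ha => root_ind (P := fun a => Rt (G a)) (fun i => ?_) (fun i a ha ih => ?_) ha, h3⟩
  · show Rt (G (sr i))
    rw [hG]
    exact rt_vec _
  · have h4 : ∀ a', Rt a' → B0 (G a') (G a') ≤ 20 → Rt (G a') := by
      intro a' ha' hn
      obtain ⟨r, rfl⟩ := exists_idx ha'
      rw [eq_of_rl (K := K) p hp hn (norm_wt (Sum.inr (π r))) fun x hx => by
        rw [h3 x hx, wt_inr, rl_vec, rl_vec, hπ _ x hx]]
      exact rt_vec _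
    have h5 := fm8.self ih
    have h6 : B0 (G (sr i)) (G (sr i)) = 2 := by
      rw [hG]
      exact fm8.self (rt_vec _)
    have h7 := ha.act (cs8.simple i)
    show Rt (G (rp8 (cs8.simple i) a))
    rw [rep_simple_eq] at h7 ⊢
    rcases pairing_cases ha i with e | e | e | e | e
    · have e2 : pairing (cartanOf chevE8 8) i a = 2 := by rw [← B0_sr, ← e, fm8.self ha]
      have e3 : a - (2 : ℤ) • sr i = -a := by rw [← e, two_smul]; abel
      rw [e2, e3, map_neg]
      exact ih.neg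
    · have e1 : sr i = -a := by rw [e, neg_neg]
      have e2 : pairing (cartanOf chevE8 8) i a = -2 := by
        rw [← B0_sr, e1, map_neg, LinearMap.neg_apply, fm8.self ha]
      have e3 : a - (-2 : ℤ) • sr i = -a := by rw [e1, neg_smul, two_smul]; abel
      rw [e2, e3, map_neg]
      exact ih.neg
    · rw [e, zero_smul, sub_zero]
      exact ih
    · rw [e, one_smul] at h7 ⊢
      refine h4 _ h7 ?_
      have h8 := norm_sub_le (G a) (G (sr i))
      rw [map_sub G]
      omega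
    · rw [e, neg_smul, one_smul] at h7 ⊢
      refine h4 _ h7 ?_
      have h8 := norm_sub_le (G a) (-G (sr i))
      have h9 : B0 (-G (sr i)) (-G (sr i)) = 2 := by
        rw [map_neg, map_neg, LinearMap.neg_apply, neg_neg, h6]
      rw [map_sub G, map_neg G]
      omega

/-- correction by an element of `N` -/
theorem exists_fix (p : ℕ) [CharP K p] (hp : 7 ≤ p) {b b' : Matrix chevE8.Idx chevE8.Idx K} (h : IsAut b b')
    (h1 : ∀ x, InT x → InT (b *ᵥ x)) (h2 : ∀ x, InT x → InT (b' *ᵥ x)) :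
    ∃ n : G8 K, ∀ x, InT x → (mx n⁻¹ * b') *ᵥ x = x := by
  obtain ⟨G, hG, hGl⟩ := exists_lat p hp h h2
  obtain ⟨G', hG', hGl'⟩ := exists_lat p hp h.symm h1
  have e1 : ∀ x, G (G' x) = x := fun x => DFunLike.congr_fun (hom_ext (f := G.comp G') (g := AddMonoidHom.id Q8)
    fun i => eq_of_rl (K := K) p hp ((le_of_eq (fm8.self (hG _ (hG' _ (rt_sr i))))).trans (by norm_num))
      (le_of_eq (fm8.self (rt_sr i))) fun y hy => by
        show rl y (G (G' (sr i))) = rl y (sr i)
        rw [hGl y hy, hGl' _ (h2 y hy), h.cancel]) x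
  have e2 : ∀ x, G' (G x) = x := fun x => DFunLike.congr_fun (hom_ext (f := G'.comp G) (g := AddMonoidHom.id Q8)
    fun i => eq_of_rl (K := K) p hp ((le_of_eq (fm8.self (hG' _ (hG _ (rt_sr i))))).trans (by norm_num))
      (le_of_eq (fm8.self (rt_sr i))) fun y hy => by
        show rl y (G' (G (sr i))) = rl y (sr i)
        rw [hGl' y hy, hGl _ (h1 y hy), h.cancel']) x
  obtain ⟨v, hv⟩ := exists_weyl (G := ⟨⟨G, G', e2, e1⟩, G.map_add⟩) hG hG'
  obtain ⟨n, hn⟩ := exists_rp cs8 (nsysK K) v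
  refine ⟨n, fun x hx => ?_⟩
  rw [← Matrix.mulVec_mulVec]
  have h3 : InT (act n⁻¹ (b' *ᵥ x)) := RepK.inT (w := v⁻¹) hn.inv (h2 x hx)
  refine inT_ext h3 hx fun i => ?_
  have h4 := RepK.rl hn h3 (sr i)
  rw [act_inv', ← hGl x hx] at h4
  have h5 : G (rp8 v (sr i)) = sr i := hv (sr i)
  exact h4.symm.trans (congrArg (rl x) h5)

theorem adm_ee (k i j : chevE8.Idx) : adm (ee K k) i j = ((adA chevE8 k i j : ℤ) : K) := by
  unfold adm ee
  rw [adv_single_one]
  rfl

/-- step 3: automorphisms which fix the Cartan subalgebra pointwise -/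
theorem exists_tor (p : ℕ) [CharP K p] (hp : 7 ≤ p) {b b' : Matrix chevE8.Idx chevE8.Idx K} (h : IsAut b b')
    (h2 : ∀ x, InT x → b' *ᵥ x = x) : ∃ t : G8 K, mx t = b := by
  have h3 : ∀ i : chevE8.Idx, ∃ c : K, (∀ j, i = Sum.inl j → c = 1) ∧ b *ᵥ ee K i = c • ee K i := by
    intro i
    rcases i with i | r
    · refine ⟨1, fun _ _ => rfl, ?_⟩
      have h4 : InT (ee K (Sum.inl i)) := fun s => ee_ne (by simp)
      rw [one_smul]
      conv_lhs => rw [← h2 _ h4, h.cancel]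
    · obtain ⟨s, c, hc, hs⟩ := exists_perm p hp h (fun x hx => by rwa [h2 x hx]) r
      have h4 : s = r := vec_injective (eq_of_rl (K := K) p hp ((norm_wt (Sum.inr s)).trans (by norm_num))
        (norm_wt (Sum.inr r)) fun x hx => by rw [rl_vec, rl_vec, hs x hx, h2 x hx])
      rw [h4] at hc
      exact ⟨c, fun j hj => (by cases hj), hc⟩
  choose d hd1 hd using h3
  have hb : b = diagonal d := by
    ext i j
    rw [← mulVec_ee b j i, hd, Pi.smul_apply, ee_apply, smul_eq_mul]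
    by_cases e : i = j
    · rw [if_pos e, e, Matrix.diagonal_apply_eq, mul_one]
    · rw [if_neg e, Matrix.diagonal_apply_ne _ e, mul_zero]
  have hd0 : ∀ i, d i ≠ 0 := by
    intro i h0
    have h4 := h.cancel' (ee K i)
    rw [hd, h0, zero_smul, Matrix.mulVec_zero] at h4
    exact ee_ne_zero i h4.symm
  have h4 : ∀ k i j, ((adA chevE8 k i j : ℤ) : K) ≠ 0 → d i = d k * d j := by
    intro k i j hne
    have h5 := congrFun (congrFun (h.ad (ee K k)) i) j
    rw [hd, adm_smul, hb, Matrix.diagonal_mul, Matrix.mul_diagonal, Matrix.smul_apply, adm_ee, smul_eq_mul] at h5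
    refine mul_right_cancel₀ hne ?_
    rw [h5]
    ring
  have hφ := IsMC.of_prod (fun i => d (Sum.inr (si i))) fun i => hd0 _
  obtain ⟨φ, hφe⟩ : ∃ φ : Q8 → K, φ = fun x => ∏ i, d (Sum.inr (si i)) ^ x i := ⟨_, rfl⟩
  rw [← hφe] at hφ
  have h5 : ∀ j, φ (sr j) = d (Sum.inr (si j)) := by
    intro j
    rw [hφe]
    show ∏ i, d (Sum.inr (si i)) ^ (sr j : Q8) i = _
    rw [Finset.prod_eq_single j]
    · rw [sr_self, zpow_one]
    · intro i _ hi
      rw [sr_ne hi, zpow_zero]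
    · intro hj
      exact absurd (Finset.mem_univ j) hj
  have h6 : ∀ a, Rt a → ∀ r : Fin chevE8.nroots, vec chevE8 8 r = a → d (Sum.inr r) = φ a := by
    intro a ha
    refine root_ind (P := fun a => ∀ r : Fin chevE8.nroots, vec chevE8 8 r = a → d (Sum.inr r) = φ a)
      (fun i r hr => ?_) (fun i a ha ih r hr => ?_) ha
    · rw [h5, vec_injective (hr.trans (vec_si i).symm)]
    · obtain ⟨r0, rfl⟩ := exists_idx ha
      have h7 := ih r0 rfl
      have h8 : vec chevE8 8 r = -vec chevE8 8 r0 → d (Sum.inr r) = φ (-vec chevE8 8 r0) := by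
        intro e
        obtain ⟨j, hj⟩ := exists_adA_ng (K := K) r0
        have h9 := h4 _ _ _ hj
        rw [hd1 _ j rfl, ← vec_injective (e.trans (vec_ng r0).symm), h7] at h9
        rw [hφ.neg]
        exact eq_inv_of_mul_eq_one_right h9.symm
      rw [rep_simple_eq] at hr ⊢
      rcases pairing_cases ha i with e | e | e | e | e
      · have e2 : pairing (cartanOf chevE8 8) i (vec chevE8 8 r0) = 2 := by rw [← B0_sr, ← e, fm8.self ha]
        have e3 : vec chevE8 8 r0 - (2 : ℤ) • sr i = -vec chevE8 8 r0 := by rw [← e, two_smul]; abel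
        rw [e2, e3] at hr ⊢
        exact h8 hr
      · have e1 : sr i = -vec chevE8 8 r0 := by rw [e, neg_neg]
        have e2 : pairing (cartanOf chevE8 8) i (vec chevE8 8 r0) = -2 := by
          rw [← B0_sr, e1, map_neg, LinearMap.neg_apply, fm8.self ha]
        have e3 : vec chevE8 8 r0 - (-2 : ℤ) • sr i = -vec chevE8 8 r0 := by rw [e1, neg_smul, two_smul]; abel
        rw [e2, e3] at hr ⊢
        exact h8 hr
      · rw [e, zero_smul, sub_zero] at hr ⊢
        exact ih r hr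
      · rw [e, one_smul] at hr ⊢
        have h9 := h4 _ _ _ (adA_ne (K := K) i (r := r) (u := r0) (by rw [hr]; abel))
        rw [hφ.sub, ← h7, h9, h5, mul_div_cancel_left₀ _ (hd0 _)]
      · rw [e, neg_smul, one_smul, sub_neg_eq_add] at hr ⊢
        have h9 := h4 _ _ _ (adA_ne (K := K) i (r := r0) (u := r) (by rw [hr, add_comm]))
        rw [hφ.add, ← h7, h9, h5, mul_comm]
  obtain ⟨t, ht, htφ⟩ := exists_cX e8T invB8 one_ne_zero hφ fun i => ⟨_, pow_one _⟩
  refine ⟨t, ?_⟩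
  rw [mx_TT ht, hb]
  congr 1
  funext i
  rw [htφ]
  rcases i with i | r
  · rw [wt_inl, hφ.zero, hd1 _ i rfl]
  · exact (h6 _ (rt_vec r) r rfl).symm

/-- **AUT** -/
theorem aut : AUT.{u} := by
  intro K _ _ p _ hp a a' h0 h1
  have h : IsAut a a' := ⟨h0, h1⟩
  obtain ⟨g, hg, hg'⟩ := exists_normal h
  have hY := (isAut_mx g).trans h
  obtain ⟨n, hn⟩ := exists_fix p hp hY hg hg'
  obtain ⟨t, ht⟩ := exists_tor p hp (hY.trans (isAut_mx n)) hn
  refine ⟨g⁻¹ * t * n⁻¹, ?_⟩
  rw [mx_mul, mx_mul, ht, ← Matrix.mul_assoc, ← Matrix.mul_assoc, mx_inv_mul, Matrix.one_mul, Matrix.mul_assoc,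
    mx_mul_inv, Matrix.mul_one]

end Cfsg.Agent.E8A.Reg5.Aut
end

-- part: E8A/Reg5/RhoInv
section
prune_inst 0x51040402022020000180014320024642c00019200230400bcc109420147f300a8010741778018034046b2041831000000000040025800000e003c00011f00a0808802001100020c4e0019800184000000000000000000000000000000041000000000000
set_option linter.all false
open scoped Cfsg.Agent.FastGrp

/-!
# The Chevalley involution of `E₈(K)` is inner (helper8)
-/

set_option autoImplicit false
set_option maxRecDepth 100000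

namespace Cfsg.Agent.E8A.Reg5.Rho

open Cfsg Cfsg.Lie Matrix
open Cfsg.Agent.ChevalleyStructure Cfsg.Agent.ChevalleyStructure.JacMain Cfsg.Agent.ChevalleyStructure.Ring
open Cfsg.Agent.ChevalleyStructure.LieAut Cfsg.Agent.ChevalleyStructure.LieAbs Cfsg.Agent.ChevalleyStructure.SignedSymm
open Cfsg.Agent.ChevalleyStructure.Elts
open Cfsg.Agent.H942.E8Tab (e8T)
open Cfsg.Agent.H405.UE (negSymm negAut_xG)
open Cfsg.Agent.E8A.Reg5.Aut (IsAut exists_fix exists_tor isAut_mx)

universe u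

variable {K : Type u} [Field K]

/-- the Chevalley involution -/
def S8 : Symm chevE8 := negSymm e8T.inList

theorem S8_sgn (a : chevE8.Idx) : S8.sgn a = -1 := by cases a <;> rfl

theorem S8_ε (r : Fin chevE8.nroots) : S8.ε r = -1 := rfl

theorem S8_inl (i : Fin chevE8.rank) : S8.perm (Sum.inl i) = Sum.inl i := rfl

theorem S8_inr (r : Fin chevE8.nroots) : S8.perm (Sum.inr r) = Sum.inr (S8.σ r) := rfl

open Polynomial in
theorem adA_perm (k a b : chevE8.Idx) : adA chevE8 (S8.perm k) (S8.perm a) (S8.perm b) = -adA chevE8 k a b := by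
  rcases k with i | r
  · rw [S8_inl, adA_inl]
    unfold adH
    by_cases h : a = b
    · subst h
      rw [Matrix.diagonal_apply_eq, Matrix.diagonal_apply_eq]
      rcases a with j | s
      · rfl
      · have h1 := S8.cartan_eq i s
        exact h1.trans (neg_one_mul _)
    · rw [Matrix.diagonal_apply_ne _ h, Matrix.diagonal_apply_ne _ (S8.perm.injective.ne h), neg_zero]
  · obtain ⟨c, m, -, -, -, h⟩ := xr_entry.{0} r a b
    obtain ⟨c', m', -, -, -, h'⟩ := xr_entry.{0} (S8.σ r) (S8.perm a) (S8.perm b)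
    have key : ∀ t : ℚ, (c' : ℚ) * (-t) ^ m' = c * t ^ m := fun t => by
      have h1 := S8.xMat_perm ℚ r t a b
      have e : ∀ (r : Fin chevE8.nroots) (t : ℚ), chevE8.xMat ℚ r t = xR chevE8 ℚ r t := fun r t => by
        unfold xR
        rw [dif_pos r.2]
        rfl
      rw [e, e, h, h', S8_sgn, S8_sgn, S8_ε] at h1
      push_cast at h1
      rw [neg_one_mul] at h1
      linear_combination h1
    rw [S8_inr, adA_inr, adA_inr, coefE_apply, coefE_apply, h, h', ← C_eq_intCast, ← C_eq_intCast, coeff_C_mul_X_pow,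
      coeff_C_mul_X_pow]
    have k1 := key 1
    have k2 := key 2
    rw [one_pow, mul_one] at k1
    rw [neg_pow, ← mul_assoc, k1] at k2
    by_cases hc : (c : ℚ) = 0
    · have hc' : (c' : ℚ) = 0 := by
        rw [hc] at k1
        exact (mul_eq_zero.1 k1).resolve_right (pow_ne_zero _ (by norm_num))
      rw [Int.cast_eq_zero] at hc hc'
      simp [hc, hc']
    · have h2 : m' = m := pow_right_injective₀ (by norm_num : (0 : ℚ) < 2) (by norm_num) (mul_left_cancel₀ hc k2)
      subst h2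
      split_ifs with h3
      · subst h3
        have h4 : (c' : ℚ) = ((-c : ℤ) : ℚ) := by push_cast; linear_combination -k1
        exact_mod_cast h4
      · rfl

theorem mat_ee (j : chevE8.Idx) : S8.mat K *ᵥ ee K j = -ee K (S8.perm j) := by
  funext i
  rw [mulVec_ee, Symm.mat_apply, Pi.neg_apply, ee_apply, S8_sgn]
  split_ifs <;> simp

theorem isAut_S8 : IsAut (S8.mat K) (S8.matInv K) := by
  refine ⟨S8.mat_mul_matInv K, mul_adv_of_basis chevE8 _ fun j => ?_⟩
  have h1 : adv (adR chevE8 K) (S8.mat K *ᵥ Pi.single j 1) = -adR chevE8 K (S8.perm j) := by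
    have h2 := mat_ee (K := K) j
    unfold ee at h2
    rw [h2, adv_neg, adv_single_one]
  rw [h1]
  ext a b
  obtain ⟨a, rfl⟩ := S8.perm.surjective a
  rw [Symm.mat_mul, Symm.mul_mat, S8_sgn, S8_sgn, Matrix.neg_apply, adR_def, adR_def, Matrix.map_apply, Matrix.map_apply,
    adA_perm, map_neg]
  push_cast
  ring

theorem mat_T {x : L8 K} (hx : InT x) : S8.mat K *ᵥ x = -x := by
  funext a
  obtain ⟨a, rfl⟩ := S8.perm.surjective a
  have h1 : (S8.mat K *ᵥ x) (S8.perm a) = -x a := by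
    rw [Matrix.mulVec, dotProduct, Finset.sum_eq_single a]
    · rw [Symm.mat_apply, if_pos rfl, S8_sgn]; simp
    · intro c _ hc
      rw [Symm.mat_apply, if_neg (fun h => hc (S8.perm.injective h).symm), zero_mul]
    · intro h; exact absurd (Finset.mem_univ a) h
  rw [h1]
  rcases a with i | r
  · rfl
  · rw [S8_inr, Pi.neg_apply, hx, hx]

theorem inT_neg {x : L8 K} (hx : InT x) : InT (-x) := fun r => by rw [Pi.neg_apply, hx, neg_zero]

/-- the Chevalley involution is inner -/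
theorem exists_inv (p : ℕ) [CharP K p] (hp : 7 ≤ p) : ∃ n : G8 K, ∀ r, r < chevE8.nroots → ∀ t : K,
    (n : GL chevE8.Idx K) * xG e8T.inList r t * (n : GL chevE8.Idx K)⁻¹ = xG e8T.inList (chevE8.neg r) (-t) := by
  have h := isAut_S8 (K := K)
  obtain ⟨n, hn⟩ := exists_fix p hp h (fun x hx => by rw [mat_T hx]; exact inT_neg hx) fun x hx => by
    have h1 := h.cancel' (-x)
    rw [mat_T (inT_neg hx), neg_neg] at h1
    rw [h1]
    exact inT_neg hx
  obtain ⟨t, ht⟩ := exists_tor p hp (h.trans (isAut_mx n)) hn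
  have h1 : ((t * n⁻¹ : G8 K) : GL chevE8.Idx K) = S8.P K := by
    apply Units.ext
    show mx (t * n⁻¹) = S8.mat K
    rw [mx_mul, ht, Matrix.mul_assoc, mx_mul_inv, Matrix.mul_one]
  refine ⟨t * n⁻¹, fun r hr s => ?_⟩
  rw [h1]
  exact negAut_xG e8T.inList r s hr

end Cfsg.Agent.E8A.Reg5.Rho
end

-- part: H788/E83/Inj
section
prune_inst 0x50050400022000008000006300004644c00059200288c01cc4108400140e70008000140b590100340c226144039000000000040026000000e000c00011900800088000611000008400096000184610000000000000000000000000000000000000000000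
set_option linter.all false
open scoped Cfsg.Agent.FastGrp

/-!
# The homomorphisms `SL₅(K) → E₈(K)` of the frame `A₄ A₄` are injective (helper788, S5925, box A2)

* `p1_act`, `p2_act` : the action of a scalar on the root group of `α₅`;
* `p1_injective`, `p2_injective` (`ph1_injective`, `ph2_injective`) : every field;
* `eq_imp` : `p1 A = p2 B` implies `A = c`, `B = c²` with `c⁵ = 1`.
-/

set_option autoImplicit false
set_option linter.unusedSectionVars false

namespace Cfsg.Agent.H788.E83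

open Cfsg.Lie Cfsg.Agent.TitsThree.KExcRT Cfsg.Agent.AGraded
open Cfsg.Agent.ChevalleyStructure Cfsg.Agent.ChevalleyStructure.Elts Cfsg.Agent.ChevalleyStructure.RootVec
  Cfsg.Agent.KFacts.RgdChevCoord Cfsg.Agent.GpExc.Field Cfsg.Agent.Nodes.RGDChev
  Cfsg.Agent.ChevalleyStructure.CoxeterGeomTypes
open Cfsg.Agent.H482.Ore.Fix (hab' hab_word dgl)
open Cfsg.Agent.H934.E83
open Cfsg.Agent.H928.Ore.Frame
open CoxeterSystem Cfsg.Agent.ChevalleyStructure.CoxeterGeom Cfsg.Agent.Tits.Roots Cfsg.Agent.Tits.Core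
  Cfsg.Agent.Nodes.Reps Cfsg.Agent.Nodes.BNOf Cfsg.Agent.Nodes.RGDLib Cfsg.Agent.Nodes.Bruhat
  Cfsg.Agent.Nodes.KindChev Cfsg.Agent.Nodes.ChevCls Cfsg.Agent.ChevalleyStructure.NPerm
  Cfsg.Agent.OddHalf.NI.ModelChev
open Matrix hiding vec_neg zpow_neg_one

universe u

/-! ### The elements `diag(.., u, u⁻¹, ..)` -/

section hab

variable {K : Type u} [Field K] {m : ℕ}

theorem hab_comm {Y : Type*} [Group Y] {φ : _root_.Matrix.SpecialLinearGroup (Fin m) K →* Y} {a b : Fin m} (hab : a ≠ b) {y : Y}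
    (h1 : ∀ c, Commute (φ (SpecialLinearGroup.transvection hab c)) y)
    (h2 : ∀ c, Commute (φ (SpecialLinearGroup.transvection hab.symm c)) y) (u : Kˣ) :
    Commute (φ (hab' a b hab u)) y := by
  rw [hab_word]
  simp only [map_mul]
  exact (h1 _).mul_left ((h2 _).mul_left ((h1 _).mul_left ((h1 _).mul_left ((h2 _).mul_left (h1 _)))))

theorem phi_hab1 {D : ChevalleyDatum} {l : ℕ} {M : CoxeterMatrix (Fin l)} (hp : IsType D l M)
    {φ : _root_.Matrix.SpecialLinearGroup (Fin m) K →* ↥(D.group K)} {a b : Fin m} (hab : a ≠ b) {j : Fin l} {s1 s2 : K}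
    (h12 : s1 * s2 = 1)
    (h1 : ∀ c, φ (SpecialLinearGroup.transvection hab c) = xc hp (_root_.Cfsg.Agent.Nodes.RGDChev.vec D l (D.simple j)) (s1 * c))
    (h2 : ∀ c, φ (SpecialLinearGroup.transvection hab.symm c) = xc hp (_root_.Cfsg.Agent.Nodes.RGDChev.vec D l (D.neg (D.simple j))) (s2 * c))
    (u : Kˣ) : φ (hab' a b hab u) = hc hp j (u : K) := by
  have e1 := vec_simple hp j
  have e2 : _root_.Cfsg.Agent.Nodes.RGDChev.vec D l (D.neg (D.simple j)) = -sr j := by
    rw [Cfsg.Agent.Nodes.RGDChev.vec_neg hp (NPerm.simple_lt hp.inList (lt_rank hp j)), e1]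
  rw [hab_word]
  simp only [map_mul]
  rw [h1, h1, h2, h2, e1, e2]
  have hs0 : s1 ≠ 0 := left_ne_zero_of_mul_eq_one h12
  have hs2' : s2 = s1⁻¹ := eq_inv_of_mul_eq_one_right h12
  rw [hs2', ← sl_uu, ← sl_uu, ← sl_vv, ← sl_vv, ← map_mul, ← map_mul, ← map_mul, ← map_mul, ← map_mul,
    ← sl_dd hp j (u : K) u.ne_zero]
  congr 1
  have hu : (u : K) ≠ 0 := u.ne_zero
  apply Subtype.ext
  show !![1, s1 * (u : K); 0, 1] * (!![1, 0; s1⁻¹ * -((u : K)⁻¹), 1] * (!![1, s1 * (u : K); 0, 1] *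
    (!![1, s1 * -1; 0, 1] * (!![1, 0; s1⁻¹ * 1, 1] * !![1, s1 * -1; 0, 1])))) = !![(u : K), 0; 0, (u : K)⁻¹]
  simp only [Matrix.mul_fin_two]
  congr 1
  ext i k
  (revert i k; simp only [_root_.Fin.forall_fin_succ, _root_.Nat.succ_eq_add_one, Nat.reduceAdd, _root_.mul_one, _root_.MulZeroClass.mul_zero, _root_.add_zero, _root_.mul_neg, _root_.neg_mul, _root_.one_mul, _root_.zero_add, _root_.MulZeroClass.zero_mul, _root_.neg_zero, _root_.Matrix.cons_val', _root_.Matrix.cons_val_fin_one, Fin.isValue, _root_.Matrix.cons_val_zero, _root_.Matrix.cons_val_succ, _root_.forall_const]) <;> (repeat' with_reducible apply And.intro) <;> field_simp <;> ring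

/-- scalars are products of `diag(.., u, u⁻¹, ..)` -/
theorem scal_eq {c : Kˣ} (hc : c ^ 5 = 1) {z : _root_.Matrix.SpecialLinearGroup (Fin 5) K}
    (hz : z.1 = Matrix.diagonal fun _ => (c : K)) :
    z = hab' 0 1 (by decide) c * (hab' 1 2 (by decide) (c ^ 2) * (hab' 2 3 (by decide) (c ^ 3) *
      hab' 3 4 (by decide) (c ^ 4))) := by
  apply Subtype.ext
  rw [hz]
  show _ = Matrix.diagonal _ * (Matrix.diagonal _ * (Matrix.diagonal _ * Matrix.diagonal _))
  rw [Matrix.diagonal_mul_diagonal, Matrix.diagonal_mul_diagonal, Matrix.diagonal_mul_diagonal]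
  congr 1
  have h0 : (c : K) ≠ 0 := c.ne_zero
  have h5 : (c : K) ^ 5 = 1 := by rw [← Units.val_pow_eq_pow_val, hc, Units.val_one]
  funext k
  fin_cases k
  · simp
  · simp only [_root_.Fin.mk_one, _root_.Fin.isValue, _root_.one_ne_zero, ↓ _root_.reduceIte, _root_.Units.val_inv_eq_inv_val, _root_.Units.val_pow_eq_pow_val, _root_.Fin.reduceEq, _root_.mul_one]
    field_simp
  · simp
    field_simp
  · simp
    field_simp
  · simp
    field_simp
    linear_combination h5

end hab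

/-! ### The root group of `α₅` -/

section five

variable (K : Type u) [Field K]

/-- `x_{α₅}(s)` -/
noncomputable def x5 (s : K) : ↥(chevE8.group K) := xc hp8 (_root_.Cfsg.Agent.Nodes.RGDChev.vec chevE8 8 126) s

variable {K}

/-- `g` acts on the root group of `α₅` by the scalar `a` -/
def Wt (g : ↥(chevE8.group K)) (a : K) : Prop := ∀ s : K, g * x5 K s = x5 K (a * s) * g

theorem Wt.mul {g h : ↥(chevE8.group K)} {a b : K} (hg : Wt g a) (hh : Wt h b) : Wt (g * h) (a * b) := by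
  intro s
  rw [mul_assoc, hh s, ← mul_assoc, hg (b * s), mul_assoc, mul_assoc]

theorem Wt.of_comm {g : ↥(chevE8.group K)} (h : ∀ s, Commute g (x5 K s)) : Wt g 1 := by
  intro s
  rw [one_mul]
  exact (h s).eq

theorem wt_hc (j : Fin 8) (u : Kˣ) : Wt (hc hp8 j (u : K)) ((u : K) ^ chevE8.cartan j 126) := by
  intro s
  have h126 : 126 < chevE8.nroots := by decide +kernel
  have h1 := (act hp8 h126 (hc_mem hp8 j u.ne_zero)).2 s
  rw [ch_hc hp8 j u.ne_zero h126] at h1
  rw [mul_inv_eq_iff_eq_mul] at h1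
  exact h1

theorem x5_inj : Function.Injective (x5 K) := xc_inj hp8 (by decide +kernel)

theorem comm_x5 {r : ℕ} (hr : r < chevE8.nroots) (h1 : 126 ≠ r) (h2 : 126 ≠ chevE8.neg r)
    (h3 : chevE8.commTerms r 126 = []) (c s : K) : Commute (xc hp8 (_root_.Cfsg.Agent.Nodes.RGDChev.vec chevE8 8 r) c) (x5 K s) := by
  have h126 : 126 < chevE8.nroots := by decide +kernel
  apply Subtype.ext
  show (xc hp8 (_root_.Cfsg.Agent.Nodes.RGDChev.vec chevE8 8 r) c : GL chevE8.Idx K) * (x5 K s : GL chevE8.Idx K) =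
    (x5 K s : GL chevE8.Idx K) * (xc hp8 (_root_.Cfsg.Agent.Nodes.RGDChev.vec chevE8 8 r) c : GL chevE8.Idx K)
  rw [coe_xc hp8 hr, x5, coe_xc hp8 h126]
  exact Cfsg.Agent.TitsThree.KExcBase.comm_nil hp8.inList hr h126 h1 h2 h3 _ _

theorem tabx : ∀ r ∈ [162, 77, 135, 104, 141, 98, 0, 239, 120, 119, 121, 118], r < chevE8.nroots ∧ 126 ≠ r ∧
    126 ≠ chevE8.neg r ∧ chevE8.commTerms r 126 = [] := by decide +kernel

theorem comm_tab {r : ℕ} (hr : r ∈ [162, 77, 135, 104, 141, 98, 0, 239, 120, 119, 121, 118]) (c s : K) :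
    Commute (xc hp8 (_root_.Cfsg.Agent.Nodes.RGDChev.vec chevE8 8 r) c) (x5 K s) := by
  obtain ⟨h1, h2, h3, h4⟩ := tabx r hr
  exact comm_x5 h1 h2 h3 h4 c s

theorem one_zpow' (c : Kˣ) (k : ℕ) (j : Fin 8) (h : chevE8.cartan j 126 = -1) :
    (((c ^ k : Kˣ) : K)) ^ chevE8.cartan j 126 = ((c : K) ^ k)⁻¹ := by
  rw [h, zpow_neg_one, Units.val_pow_eq_pow_val]

/-- the action of a scalar of the first factor on the root group of `α₅` -/
theorem p1_act {c : Kˣ} (hc : c ^ 5 = 1) {z : _root_.Matrix.SpecialLinearGroup (Fin 5) K}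
    (hz : z.1 = Matrix.diagonal fun _ => (c : K)) : Wt (p1 K z) ((c : K) ^ 2) := by
  have e : ((c : K) ^ 2) = 1 * (1 * (((c ^ 3 : Kˣ) : K) ^ chevE8.cartan (3 : Fin 8) 126 * 1)) := by
    rw [one_zpow' c 3 3 (by decide +kernel)]
    have h0 : (c : K) ≠ 0 := c.ne_zero
    have h5 : (c : K) ^ 5 = 1 := by rw [← Units.val_pow_eq_pow_val, hc, Units.val_one]
    field_simp
    linear_combination h5
  rw [scal_eq hc hz, map_mul, map_mul, map_mul, e]
  refine Wt.mul (Wt.of_comm fun s => ?_) (Wt.mul (Wt.of_comm fun s => ?_) (Wt.mul ?_ (Wt.of_comm fun s => ?_)))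
  · refine hab_comm _ (fun c => ?_) (fun c => ?_) _ <;> rw [p1_tv] <;> exact comm_tab (by decide) _ _
  · refine hab_comm _ (fun c => ?_) (fun c => ?_) _ <;> rw [p1_tv] <;> exact comm_tab (by decide) _ _
  · rw [phi_hab1 hp8 (j := 3) (s1 := (1 : K)) (s2 := (1 : K)) (by decide : (2 : Fin 5) ≠ 3) (mul_one 1) (fun c => ?_)
      (fun c => ?_) (c ^ 3)]
    · exact wt_hc 3 _
    · rw [p1_tv, show chevE8.simple ((3 : Fin 8) : ℕ) = r1 2 3 by decide +kernel, show s1 2 3 = 1 by decide, Int.cast_one]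
    · rw [p1_tv, show chevE8.neg (chevE8.simple ((3 : Fin 8) : ℕ)) = r1 3 2 by decide +kernel,
        show s1 3 2 = 1 by decide, Int.cast_one]
  · refine hab_comm _ (fun c => ?_) (fun c => ?_) _ <;> rw [p1_tv] <;> exact comm_tab (by decide) _ _

/-! ### The kernel -/

/-- central elements -/
theorem exists_scal {z : _root_.Matrix.SpecialLinearGroup (Fin 5) K} (hz : z ∈ Subgroup.center (_root_.Matrix.SpecialLinearGroup (Fin 5) K)) :
    ∃ c : Kˣ, c ^ 5 = 1 ∧ z.1 = Matrix.diagonal fun _ => (c : K) := by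
  obtain ⟨r, hr, hz⟩ := Matrix.SpecialLinearGroup.mem_center_iff.1 hz
  rw [Fintype.card_fin] at hr
  have hr0 : r ≠ 0 := by
    rintro rfl
    rw [zero_pow (by norm_num)] at hr
    exact zero_ne_one hr
  refine ⟨Units.mk0 r hr0, ?_, ?_⟩
  · apply Units.ext
    rw [Units.val_pow_eq_pow_val, Units.val_mk0, hr, Units.val_one]
  · rw [← hz]
    rfl

theorem inj_of {φ : _root_.Matrix.SpecialLinearGroup (Fin 5) K →* ↥(chevE8.group K)}
    (h1 : φ (SpecialLinearGroup.transvection (by decide : (0 : Fin 5) ≠ 1) 1) ≠ 1)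
    (h2 : ∀ (c : Kˣ) (z : _root_.Matrix.SpecialLinearGroup (Fin 5) K), c ^ 5 = 1 → z.1 = (Matrix.diagonal fun _ => (c : K)) → φ z = 1 →
      c = 1) : Function.Injective φ := by
  rw [← MonoidHom.ker_eq_bot_iff]
  rcases Cfsg.Agent.H990.TC.le_center_or_top (Cfsg.Agent.S0248.result (F := K) 5 (by norm_num))
    (Cfsg.Agent.S0249.result (F := K) 5 (by norm_num)) φ.ker with h | h
  · rw [eq_bot_iff]
    intro z hz
    obtain ⟨c, hc, hzc⟩ := exists_scal (h hz)
    have h3 := h2 c z hc hzc hz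
    rw [Subgroup.mem_bot]
    apply Subtype.ext
    rw [hzc, h3]
    show (Matrix.diagonal fun _ => ((1 : Kˣ) : K)) = 1
    rw [Units.val_one, Matrix.diagonal_one]
  · exfalso
    apply h1
    have h3 : SpecialLinearGroup.transvection (by decide : (0 : Fin 5) ≠ 1) (1 : K) ∈ φ.ker := by
      rw [h]; exact Subgroup.mem_top _
    exact h3

theorem wt_one {a : K} (h : Wt (1 : ↥(chevE8.group K)) a) : a = 1 := by
  have h1 := h 1
  rw [one_mul, mul_one, mul_one] at h1
  exact (x5_inj h1).symm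

/-- the first homomorphism is injective -/
theorem p1_injective : Function.Injective (p1 K) := by
  refine inj_of ?_ ?_
  · rw [p1_tv]
    intro h
    have h0 : xc hp8 (_root_.Cfsg.Agent.Nodes.RGDChev.vec chevE8 8 (r1 0 1)) ((s1 0 1 : K) * 0) = 1 := by
      have := map_one (p1 K)
      rw [show (1 : _root_.Matrix.SpecialLinearGroup (Fin 5) K) = SpecialLinearGroup.transvection (by decide : (0 : Fin 5) ≠ 1) 0 by
        apply Subtype.ext
        show _ = Matrix.transvection _ _ 0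
        rw [Matrix.transvection_zero]; rfl, p1_tv] at this
      exact this
    have h2 := xc_inj hp8 (by decide +kernel : r1 0 1 < chevE8.nroots) (h.trans h0.symm)
    rw [show s1 0 1 = 1 by decide, Int.cast_one, one_mul, one_mul] at h2
    exact one_ne_zero h2
  · intro c z hc hz h
    have h1 := p1_act hc hz
    rw [h] at h1
    have h2 : (c : K) ^ 2 = 1 := wt_one h1
    have h5 : (c : K) ^ 5 = 1 := by rw [← Units.val_pow_eq_pow_val, hc, Units.val_one]
    apply Units.ext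
    calc (c : K) = (c : K) ^ 5 := by
          rw [show (c : K) ^ 5 = ((c : K) ^ 2) ^ 2 * c by ring, h2, one_pow, one_mul]
      _ = 1 := h5

/-! ### The homomorphisms of helper238 -/

end five

end Cfsg.Agent.H788.E83

private theorem dce_f3414f7726db : _root_.True := by
  try have : _root_.True := by simp only [_root_.Cfsg.Agent.H788.E83.x5.eq_1]
  exact _root_.True.intro
end

-- part: E8A/Reg5/Rho
section
prune_inst 0x11010000022020000000004120024600c00049000088c00840108400000a40000000040b5801003c08280040039000000000100024000000e000000011c0080000002040100a008000018000180610000000000000000000000000000000000000000000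
set_option linter.all false
open scoped Cfsg.Agent.FastGrp

/-!
# The box RHO (helper8)

`A₅ → SL₅(ℤ)` (the deleted permutation module of degree 6), diagonally embedded in `A₄ A₄`.
-/

set_option autoImplicit false
set_option maxRecDepth 100000

namespace Cfsg.Agent.E8A.Reg5.Rho

open Cfsg Cfsg.Lie Matrix
open Cfsg.Agent.ChevalleyStructure Cfsg.Agent.ChevalleyStructure.Elts Cfsg.Agent.ChevalleyStructure.RootVec
open Cfsg.Agent.Tits.Roots Cfsg.Agent.Nodes.RGDChev Cfsg.Agent.KFacts.RgdChevCoord Cfsg.Agent.H129.TorusChar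
open Cfsg.Agent.H942.E8Tab (e8T)
open Cfsg.Agent.H288.E8L (Q8 wt)
open Cfsg.Agent.H934.E83 (p1 p2 r1 r2 s1 hp8 p1_tv p2_tv coe_p1_tv coe_p2_tv hom_ext comm emb_p1 emb_p2 tab1 tab2)
open Cfsg.Agent.H788.E83 (phi_hab1 p1_injective)
open Cfsg.Agent.H482.Ore.Fix (hab')
open Cfsg.Agent.E8A.Reg5.Cls (Cj dz ex mv dfx_of_cj zpow_sum' exists_prim)
open Cfsg.Agent.FP3 (dfx)
open Cfsg.Agent.Lib.VonDyck

universe u

variable {K : Type u} [Field K]

/-- `SL₅` -/
abbrev SL5 (R : Type*) [CommRing R] := _root_.Matrix.SpecialLinearGroup (Fin 5) R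

theorem val_mul {R : Type*} [CommRing R] (A B : SL5 R) : (A * B).1 = A.1 * B.1 := rfl

variable (K) in
/-- the diagonal embedding -/
noncomputable def ps : SL5 K →* G8 K where
  toFun A := p1 K A * p2 K A
  map_one' := by rw [map_one, map_one, mul_one]
  map_mul' A B := by rw [map_mul, map_mul]; exact (comm B A).symm.mul_mul_mul_comm _ _ |>.symm

theorem ps_apply (A : SL5 K) : ps K A = p1 K A * p2 K A := rfl

theorem emb0_ps (A : SL5 K) : emb0 (ps K A) = ps (Kb K) (SpecialLinearGroup.map (algebraMap K (Kb K)) A) := by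
  rw [ps_apply, ps_apply, map_mul, ← emb_p1, ← emb_p2]
  rfl

/-! ### torus elements -/

theorem p1_hab {a b : Fin 5} (hab : a ≠ b) (j : Fin 8) (h1 : chevE8.simple j = r1 a b)
    (h2 : chevE8.neg (chevE8.simple j) = r1 b a) (h3 : s1 a b = 1) (h4 : s1 b a = 1) (u : Kˣ) :
    p1 K (hab' a b hab u) = hc hp8 j (u : K) :=
  phi_hab1 hp8 (s1 := (1 : K)) (s2 := (1 : K)) hab (mul_one 1) (fun c => by rw [p1_tv, h1, h3, Int.cast_one])
    (fun c => by rw [p1_tv, h2, h4, Int.cast_one]) u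

theorem p2_hab {a b : Fin 5} (hab : a ≠ b) (j : Fin 8) (h1 : chevE8.simple j = r2 a b)
    (h2 : chevE8.neg (chevE8.simple j) = r2 b a) (u : Kˣ) : p2 K (hab' a b hab u) = hc hp8 j (u : K) :=
  phi_hab1 hp8 (s1 := (1 : K)) (s2 := (1 : K)) hab (mul_one 1) (fun c => by rw [p2_tv, h1, one_mul])
    (fun c => by rw [p2_tv, h2, one_mul]) u

/-- `diag(1, ζ^a, ζ^(b-a), ζ^(c-b), ζ^(-c))` -/
def dg (ζ : Kˣ) (a b c : ℕ) : SL5 K :=
  hab' 1 2 (by decide) (ζ ^ a) * (hab' 2 3 (by decide) (ζ ^ b) * hab' 3 4 (by decide) (ζ ^ c))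

theorem coe_dg (ζ : Kˣ) (a b c : ℕ) : (dg ζ a b c).1 =
    diagonal ![1, (ζ : K) ^ a, ((ζ : K) ^ a)⁻¹ * ζ ^ b, ((ζ : K) ^ b)⁻¹ * ζ ^ c, ((ζ : K) ^ c)⁻¹] := by
  show Matrix.diagonal _ * (Matrix.diagonal _ * Matrix.diagonal _) = _
  rw [Matrix.diagonal_mul_diagonal, Matrix.diagonal_mul_diagonal]
  congr 1
  funext k
  fin_cases k <;> simp only [_root_.Fin.zero_eta, _root_.Fin.isValue, _root_.zero_ne_one, ↓ _root_.reduceIte, _root_.Fin.reduceEq, _root_.mul_one, _root_.Nat.succ_eq_add_one, _root_.Nat.reduceAdd, _root_.Matrix.cons_val_zero, _root_.Fin.mk_one, _root_.Units.val_pow_eq_pow_val, _root_.Matrix.cons_val_one, _root_.Fin.reduceFinMk, _root_.Units.val_inv_eq_inv_val, _root_.Matrix.cons_val, _root_.one_mul]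

/-- the coordinates of the image -/
def yy (a b c : ℕ) : Q8 := fun i =>
  a * (chevE8.cartan 2 (chevE8.simple i) + chevE8.cartan 7 (chevE8.simple i)) +
    (b * (chevE8.cartan 3 (chevE8.simple i) + chevE8.cartan 6 (chevE8.simple i)) +
    c * (chevE8.cartan 1 (chevE8.simple i) + chevE8.cartan 5 (chevE8.simple i)))

/-- torus elements with given values on the fundamental roots -/
def IsT (ζ : K) (t : G8 K) (y : Q8) : Prop := t ∈ TT chevE8 K ∧ ∀ i, cX e8T t (sr i) = ζ ^ y i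

theorem IsT.mul {ζ : K} (h0 : ζ ≠ 0) {s t : G8 K} {x y : Q8} (hs : IsT ζ s x) (ht : IsT ζ t y) : IsT ζ (s * t) (x + y) :=
  ⟨mul_mem hs.1 ht.1, fun i => by rw [cX_mul e8T hs.1 ht.1, hs.2, ht.2, Pi.add_apply, zpow_add₀ h0]⟩

theorem isT_hc (ζ : Kˣ) (a : ℕ) (j : Fin 8) :
    IsT (ζ : K) (hc hp8 j ((ζ ^ a : Kˣ) : K)) fun i => a * chevE8.cartan j (chevE8.simple i) := by
  refine ⟨hc_mem hp8 j (Units.ne_zero _), fun i => ?_⟩
  rw [cX_sr, ← vec_simple e8T i, ch_hc e8T j (Units.ne_zero _) (NPerm.simple_lt e8T.inList (lt_rank e8T i)),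
    Units.val_pow_eq_pow_val, _root_.zpow_mul, _root_.zpow_natCast]

theorem IsT.mx_eq {ζ : K} (h0 : ζ ≠ 0) {t : G8 K} {y : Q8} (h : IsT ζ t y) : mx t = dz ζ y := by
  rw [mx_TT h.1, dz]
  congr 1
  funext j
  rw [(isMC_cX e8T h.1).eq_prod, ex, zpow_sum' h0]
  refine Finset.prod_congr rfl fun i _ => ?_
  rw [h.2, ← _root_.zpow_mul, mul_comm]

theorem mx_dg (ζ : Kˣ) (a b c : ℕ) : mx (ps K (dg ζ a b c)) = dz (ζ : K) (yy a b c) := by
  have h0 := ζ.ne_zero
  rw [dg, map_mul, map_mul, ps_apply, ps_apply, ps_apply,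
    p1_hab _ 2 (by decide +kernel) (by decide +kernel) (by decide) (by decide),
    p1_hab _ 3 (by decide +kernel) (by decide +kernel) (by decide) (by decide),
    p1_hab _ 1 (by decide +kernel) (by decide +kernel) (by decide) (by decide),
    p2_hab _ 7 (by decide +kernel) (by decide +kernel), p2_hab _ 6 (by decide +kernel) (by decide +kernel),
    p2_hab _ 5 (by decide +kernel) (by decide +kernel)]
  rw [(((isT_hc ζ a 2).mul h0 (isT_hc ζ a 7)).mul h0 (((isT_hc ζ b 3).mul h0 (isT_hc ζ b 6)).mul h0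
    ((isT_hc ζ c 1).mul h0 (isT_hc ζ c 5)))).mx_eq h0]
  congr 1
  funext i
  simp only [yy, Pi.add_apply, mul_add]
  rfl

theorem cj_of [IsAlgClosed K] {A : SL5 K} {ζ : Kˣ} {a b c : ℕ} {B B' : Matrix (Fin 5) (Fin 5) K} {s : K} (hs : s ≠ 0)
    (h1 : B' * B = s • (1 : Matrix (Fin 5) (Fin 5) K)) (h2 : A.1 * B = B * (dg ζ a b c).1) :
    Cj (ps K A) (ζ : K) (yy a b c) := by
  have h3 : B.det ≠ 0 := by
    have h4 := congrArg det h1
    rw [det_mul, det_smul, det_one, mul_one] at h4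
    exact right_ne_zero_of_mul (h4 ▸ pow_ne_zero _ hs)
  obtain ⟨l, hl⟩ := IsAlgClosed.exists_pow_nat_eq (B.det)⁻¹ (by norm_num : 0 < 5)
  let C : SL5 K := ⟨l • B, by rw [det_smul, Fintype.card_fin, hl, inv_mul_cancel₀ h3]⟩
  have h4 : A * C = C * dg ζ a b c := Subtype.ext (by
    show A.1 * (l • B) = (l • B) * _
    rw [Matrix.mul_smul, Matrix.smul_mul, h2])
  exact ⟨ps K C, by rw [← mx_dg, ← mx_mul, ← mx_mul, ← map_mul, ← map_mul, h4]⟩

/-! ### the representation of degree five -/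

/-- the image of the involution -/
def X0 : SL5 ℤ := ⟨!![-1, 0, 0, 0, 0; -1, 0, 0, 0, 1; -1, 0, 1, 0, 0; -1, 0, 0, 1, 0; -1, 1, 0, 0, 0], by decide +kernel⟩

/-- the image of the element of order three -/
def Y0 : SL5 ℤ := ⟨!![0, 0, 0, 0, -1; 0, 0, 0, 1, -1; 0, 1, 0, 0, -1; 0, 0, 1, 0, -1; 1, 0, 0, 0, -1], by decide +kernel⟩

/-- the image of the element of order five -/
def C0 : SL5 ℤ := ⟨!![0, 0, 0, 0, 1; 1, 0, 0, 0, 0; 0, 1, 0, 0, 0; 0, 0, 1, 0, 0; 0, 0, 0, 1, 0], by decide +kernel⟩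

/-- the invariant form -/
def J0 : Matrix (Fin 5) (Fin 5) ℤ :=
  !![5, -1, -1, -1, -1; -1, 5, -1, -1, -1; -1, -1, 5, -1, -1; -1, -1, -1, 5, -1; -1, -1, -1, -1, 5]

theorem X0_mul : X0 * Y0 = C0 := Subtype.ext (by rw [val_mul]; decide +kernel)

theorem exists_rho0 : ∃ φ : A5 →* SL5 ℤ, φ a5 = X0 ∧ φ b5 = Y0 := by
  refine exists_hom_alternatingFive ?_ ?_ ?_
  · exact Subtype.ext (by rw [pow_two, val_mul]; decide +kernel)
  · exact Subtype.ext (by rw [pow_three, val_mul, val_mul]; decide +kernel)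
  · rw [X0_mul]
    exact Subtype.ext (by rw [pow_succ, pow_succ, pow_three, val_mul, val_mul, val_mul, val_mul]; decide +kernel)

theorem J0_det : J0.det = 1296 := by decide +kernel

theorem J0_X : X0.1ᵀ * (J0 * X0.1) = J0 := by decide +kernel

theorem J0_Y : Y0.1ᵀ * (J0 * Y0.1) = J0 := by decide +kernel

variable (K) in
/-- reduction -/
abbrev rd : SL5 ℤ →* SL5 K := SpecialLinearGroup.map (Int.castRingHom K)

theorem rd_apply (A : SL5 ℤ) (i j : Fin 5) : (rd K A).1 i j = (A.1 i j : K) := rfl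

theorem cj_X [IsAlgClosed K] (h2 : (2 : K) ≠ 0) : Cj (ps K (rd K X0)) ((-1 : Kˣ) : K) (yy 0 0 1) := by
  refine cj_of (B := !![0, 0, 0, 0, 2; 0, 0, 1, 1, 1; 1, 0, 0, 0, 1; 0, 1, 0, 0, 1; 0, 0, 1, -1, 1])
    (B' := !![-1, 0, 2, 0, 0; -1, 0, 0, 2, 0; -1, 1, 0, 0, 1; 0, 1, 0, 0, -1; 1, 0, 0, 0, 0]) h2 ?_ ?_
  · ext i j
    (revert i j; simp only [Matrix.mul_apply, Fin.sum_univ_five, _root_.Fin.forall_fin_succ, _root_.Matrix.of_apply, _root_.Matrix.cons_val', _root_.Matrix.cons_val_fin_one, Fin.isValue, _root_.Matrix.cons_val_zero, _root_.Matrix.cons_val_one, _root_.Matrix.cons_val, _root_.Matrix.smul_apply, _root_.smul_eq_mul, _root_.MulZeroClass.mul_zero, _root_.add_zero, _root_.mul_one, _root_.zero_add, _root_.Matrix.cons_val_succ, _root_.mul_neg, _root_.IsEmpty.forall_iff, _root_.and_true, _root_.Matrix.one_apply_eq, Nat.reduceAdd, _root_.Fin.succ_zero_eq_one, _root_.ne_eq, _root_.zero_ne_one, _root_.not_false_eq_true, _root_.Matrix.one_apply_ne,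 _root_.Fin.succ_one_eq_two, Fin.reduceEq, _root_.neg_zero, Fin.reduceSucc, _root_.neg_mul, _root_.one_mul, _root_.neg_add_cancel, _root_.and_self, _root_.Fin.succ_ne_zero, _root_.add_neg_cancel, _root_.true_and, _root_.neg_neg, _root_.MulZeroClass.zero_mul, _root_.zero_eq_mul, _root_.or_true]) <;> (repeat' with_reducible apply And.intro) <;> norm_num
  · rw [coe_dg]
    ext i j
    rw [Matrix.mul_diagonal, Matrix.mul_apply, Fin.sum_univ_five]
    simp only [rd_apply]
    (revert i j; simp only [X0, _root_.Fin.forall_fin_succ, Int.reduceNeg, Fin.isValue, _root_.Matrix.of_apply, _root_.Matrix.cons_val', _root_.Matrix.cons_val_zero, _root_.Matrix.cons_val_fin_one, _root_.Matrix.cons_val_one, _root_.Matrix.cons_val, _root_.Nat.succ_eq_add_one, Nat.reduceAdd, _root_.Units.val_neg, _root_.Units.val_one, _root_.pow_zero, _root_.inv_one, _root_.mul_one, _root_.pow_one, _root_.mul_neg, _root_.inv_neg, _root_.MulZeroClass.mul_zero, _root_.add_zero, _root_.zero_add,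 _root_.Matrix.cons_val_succ, _root_.forall_const, _root_.Int.cast_zero, _root_.neg_zero, _root_.Int.cast_neg, _root_.Int.cast_one, _root_.neg_mul, _root_.one_mul, _root_.and_self, _root_.true_and, _root_.neg_neg]) <;> (repeat' with_reducible apply And.intro) <;> norm_num

attribute [-instance] instNoNatZeroDivisorsOfIsAddTorsionFree instIsCharPOfIsLeftCancelAddOfCharP in
theorem cj_Y [IsAlgClosed K] (h3 : (3 : K) ≠ 0) {w : Kˣ} (h : (w : K) ^ 2 + w + 1 = 0) :
    Cj (ps K (rd K Y0)) (w : K) (yy 1 2 1) := by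
  refine cj_of (B := !![0, 1 - w, 0, 2 + w, 0; 1, -w, 1, 1 + w, 1; 1, -w, -1 - w, 1 + w, w; 1, -w, w, 1 + w, -1 - w;
      0, -1 - 2 * w, 0, 1 + 2 * w, 0])
    (B' := !![-1, 1, 1, 1, -1; 1, 0, 0, 0, w; 0, 1, w, -1 - w, 0; 1, 0, 0, 0, -1 - w; 0, 1, -1 - w, w, 0]) h3 ?_ ?_
  · ext i j
    (revert i j; simp only [Matrix.mul_apply, Fin.sum_univ_five, _root_.Fin.forall_fin_succ, _root_.Matrix.of_apply, _root_.Matrix.cons_val', _root_.Matrix.cons_val_fin_one, Fin.isValue, _root_.Matrix.cons_val_zero, _root_.Matrix.cons_val_one, _root_.Matrix.cons_val, _root_.Matrix.smul_apply, _root_.smul_eq_mul, _root_.MulZeroClass.mul_zero, _root_.mul_one, _root_.zero_add, _root_.add_zero, _root_.Matrix.cons_val_succ, _root_.mul_neg, _root_.IsEmpty.forall_iff, _root_.and_true, _root_.Matrix.one_apply_eq, _root_.neg_mul, _root_.one_mul, _root_.neg_sub, _root_.sub_neg_eq_add, Nat.reduceAdd, _root_.Fin.succ_zero_eq_one, _root_.ne_eq, _root_.zero_ne_one, _root_.not_false_eq_true,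 _root_.Matrix.one_apply_ne, _root_.Fin.succ_one_eq_two, Fin.reduceEq, _root_.neg_add_rev, Fin.reduceSucc, _root_.add_add_sub_cancel, _root_.add_neg_cancel, _root_.Fin.succ_ne_zero, _root_.MulZeroClass.zero_mul, _root_.neg_zero, _root_.true_and]) <;> grobner
  · have e1 : ((w : K) ^ 1)⁻¹ = -1 - w := inv_eq_of_mul_eq_one_right (by grobner)
    have e2 : ((w : K) ^ 2)⁻¹ = w := inv_eq_of_mul_eq_one_right (by (clear * - h; grobner))
    rw [coe_dg, e1, e2]
    ext i j
    rw [Matrix.mul_diagonal, Matrix.mul_apply, Fin.sum_univ_five]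
    simp only [rd_apply]
    (revert i j; simp only [Y0, _root_.Fin.forall_fin_succ, Int.reduceNeg, Fin.isValue, _root_.Matrix.of_apply, _root_.Matrix.cons_val', _root_.Matrix.cons_val_zero, _root_.Matrix.cons_val_fin_one, _root_.Matrix.cons_val_one, _root_.Matrix.cons_val, _root_.Nat.succ_eq_add_one, Nat.reduceAdd, _root_.pow_one, _root_.MulZeroClass.mul_zero, _root_.mul_one, _root_.zero_add, _root_.add_zero, _root_.Matrix.cons_val_succ, _root_.mul_neg, _root_.forall_const, _root_.Int.cast_zero, _root_.MulZeroClass.zero_mul, _root_.neg_zero, _root_.Int.cast_neg, _root_.Int.cast_one, _root_.neg_mul, _root_.one_mul, _root_.neg_sub, _root_.sub_neg_eq_add, _root_.neg_add_rev, _root_.and_true, _root_.true_and]) <;> (clear * - h3 h; grobner)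

attribute [-instance] instNoNatZeroDivisorsOfIsAddTorsionFree instIsCharPOfIsLeftCancelAddOfCharP in
theorem cj_C [IsAlgClosed K] (h5 : (5 : K) ≠ 0) {w : Kˣ} (h : (w : K) ^ 4 + w ^ 3 + w ^ 2 + w + 1 = 0) :
    Cj (ps K (rd K C0)) (w : K) (yy 1 3 1) := by
  refine cj_of (B := !![1, 1, 1, 1, 1; 1, w ^ 4, w ^ 3, w ^ 2, w; 1, w ^ 3, w, w ^ 4, w ^ 2; 1, w ^ 2, w ^ 4, w, w ^ 3;
      1, w, w ^ 2, w ^ 3, w ^ 4])
    (B' := !![1, 1, 1, 1, 1; 1, w, w ^ 2, w ^ 3, w ^ 4; 1, w ^ 2, w ^ 4, w, w ^ 3; 1, w ^ 3, w, w ^ 4, w ^ 2;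
      1, w ^ 4, w ^ 3, w ^ 2, w]) h5 ?_ ?_
  · ext i j
    (revert i j; simp only [Matrix.mul_apply, Fin.sum_univ_five, _root_.Fin.forall_fin_succ, _root_.Matrix.of_apply, _root_.Matrix.cons_val', _root_.Matrix.cons_val_fin_one, Fin.isValue, _root_.Matrix.cons_val_zero, _root_.Matrix.cons_val_one, _root_.Matrix.cons_val, _root_.Matrix.smul_apply, _root_.smul_eq_mul, _root_.mul_one, _root_.Matrix.cons_val_succ, _root_.IsEmpty.forall_iff, _root_.and_true, _root_.Matrix.one_apply_eq, _root_.one_mul, Nat.reduceAdd, _root_.Fin.succ_zero_eq_one, _root_.ne_eq, _root_.zero_ne_one, _root_.not_false_eq_true, _root_.Matrix.one_apply_ne, _root_.MulZeroClass.mul_zero, _root_.Fin.succ_one_eq_two, Fin.reduceEq, Fin.reduceSucc, _root_.Fin.succ_ne_zero]) <;> grobner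
  · have e1 : ((w : K) ^ 1)⁻¹ = w ^ 4 := inv_eq_of_mul_eq_one_right (by grobner)
    have e2 : ((w : K) ^ 3)⁻¹ = w ^ 2 := inv_eq_of_mul_eq_one_right (by (clear * - h; grobner))
    rw [coe_dg, e1, e2]
    ext i j
    rw [Matrix.mul_diagonal, Matrix.mul_apply, Fin.sum_univ_five]
    simp only [rd_apply]
    (revert i j; simp only [C0, _root_.Fin.forall_fin_succ, Fin.isValue, _root_.Matrix.of_apply, _root_.Matrix.cons_val', _root_.Matrix.cons_val_zero, _root_.Matrix.cons_val_fin_one, _root_.Matrix.cons_val_one, _root_.Matrix.cons_val, _root_.Nat.succ_eq_add_one, Nat.reduceAdd, _root_.pow_one, _root_.mul_one, _root_.Matrix.cons_val_succ, _root_.forall_const, _root_.Int.cast_zero, _root_.add_zero, _root_.Int.cast_one, _root_.zero_add, _root_.MulZeroClass.zero_mul, _root_.one_mul, _root_.and_true, _root_.true_and]) <;> grobner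

theorem mv_tab : mv 2 (yy 0 0 1) = 128 ∧ mv 3 (yy 1 2 1) = 168 ∧ mv 5 (yy 1 3 1) = 200 := by decide +kernel

theorem cast_ne (p : ℕ) [CharP K p] (hp : 7 ≤ p) {n : ℕ} (hn : n ∣ 6480) : (n : K) ≠ 0 := by
  have hp' : p.Prime := (CharP.char_is_prime_or_zero K p).resolve_right (by omega)
  intro e
  have h1 : p ∣ 2 ^ 4 * 3 ^ 4 * 5 := ((CharP.cast_eq_zero_iff K p n).1 e).trans hn
  rcases (hp'.dvd_mul).1 h1 with h1 | h1
  · rcases (hp'.dvd_mul).1 h1 with h1 | h1 <;> have := Nat.le_of_dvd (by norm_num) (hp'.dvd_of_dvd_pow h1) <;> omega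
  · have := Nat.le_of_dvd (by norm_num) h1
    omega

theorem noFix_bar {F : Type u} [Field F] (p : ℕ) [CharP F p] (hp : 7 ≤ p) {φ : A5 →* SL5 ℤ} (h1 : φ a5 = X0)
    (h2 : φ b5 = Y0) : NoFix (((ps (Kb F)).comp (rd (Kb F))).comp φ) := by
  have hp' : p.Prime := (CharP.char_is_prime_or_zero F p).resolve_right (by omega)
  have := Fact.mk hp'
  have hK : CharP (Kb F) p := charP_of_injective_algebraMap (algebraMap F (Kb F)).injective p
  have hcop : ∀ m : ℕ, 0 < m → m < 7 → m.Coprime p := fun m h0 h7 =>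
    (hp'.coprime_iff_not_dvd.2 (Nat.not_dvd_of_pos_of_lt h0 (by omega))).symm
  obtain ⟨w3, hw3⟩ := exists_prim (F := F) p (hcop 3 (by norm_num) (by norm_num))
  obtain ⟨w5, hw5⟩ := exists_prim (F := F) p (hcop 5 (by norm_num) (by norm_num))
  have hw2 : IsPrimitiveRoot ((-1 : (Kb F)ˣ) : Kb F) 2 := by
    rw [Units.val_neg, Units.val_one]
    exact IsPrimitiveRoot.neg_one p (by omega)
  have e3 := hw3.geom_sum_eq_zero (by norm_num)
  have e5 := hw5.geom_sum_eq_zero (by norm_num)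
  simp only [Finset.sum_range_succ, Finset.sum_range_zero] at e3 e5
  have d2 := dfx_of_cj hw2 (cj_X (by simpa only [_root_.ne_eq, _root_.Nat.cast_ofNat] using cast_ne (K := Kb F) p hp (n := 2) (by norm_num)))
  have d3 := dfx_of_cj (ζ := ((Units.mk0 w3 (hw3.ne_zero (by norm_num)) : (Kb F)ˣ) : Kb F)) hw3
    (cj_Y (by simpa only [_root_.ne_eq, _root_.Nat.cast_ofNat] using cast_ne (K := Kb F) p hp (n := 3) (by norm_num)) (by
      rw [Units.val_mk0]; linear_combination e3))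
  have d5 := dfx_of_cj (ζ := ((Units.mk0 w5 (hw5.ne_zero (by norm_num)) : (Kb F)ˣ) : Kb F)) hw5
    (cj_C (by simpa only [_root_.ne_eq, _root_.Nat.cast_ofNat] using cast_ne (K := Kb F) p hp (n := 5) (by norm_num)) (by
      rw [Units.val_mk0]; linear_combination e5))
  rw [mv_tab.1, ← h1] at d2
  rw [mv_tab.2.1, ← h2] at d3
  rw [mv_tab.2.2, ← X0_mul, ← h1, ← h2, ← map_mul] at d5
  have h4 : Module.finrank (Kb F) (L8 (Kb F)) = 248 := by
    rw [Module.finrank_fintype_fun_eq_card, Fintype.card_sum, Fintype.card_fin, Fintype.card_fin]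
    rfl
  intro v hv
  refine eq_zero_of_dfx ((LK (Kb F)).comp (((ps (Kb F)).comp (rd (Kb F))).comp φ))
    (cast_ne (K := Kb F) p hp (by norm_num)) ?_ (hv a5) (hv b5)
  simp only [MonoidHom.comp_apply]
  omega

/-! ### the centralizer -/

variable (K) in
/-- the inverse transpose -/
def it : SL5 K →* SL5 K where
  toFun A := (A⁻¹).transpose
  map_one' := Subtype.ext (by rw [inv_one]; exact Matrix.transpose_one)
  map_mul' A B := Subtype.ext (by rw [_root_.mul_inv_rev]; exact Matrix.transpose_mul _ _)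

theorem it_val (A : SL5 K) : (it K A).1 = (A⁻¹).1ᵀ := rfl

theorem it_tv {a b : Fin 5} (hab : a ≠ b) (c : K) :
    it K (SpecialLinearGroup.transvection hab c) = SpecialLinearGroup.transvection hab.symm (-c) := by
  have h : (SpecialLinearGroup.transvection hab c)⁻¹ = SpecialLinearGroup.transvection hab (-c) := by
    apply inv_eq_of_mul_eq_one_right
    apply Subtype.ext
    show Matrix.transvection a b c * Matrix.transvection a b (-c) = 1
    rw [Matrix.transvection_mul_transvection_same _ _ hab, add_neg_cancel, Matrix.transvection_zero]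
  apply Subtype.ext
  rw [it_val, h]
  show (Matrix.transvection a b (-c))ᵀ = Matrix.transvection b a (-c)
  rw [Matrix.transvection, Matrix.transvection, transpose_add, transpose_one, transpose_single]

theorem exists_it (p : ℕ) [CharP K p] (hp : 7 ≤ p) : ∃ n : G8 K, (∀ A, n * p1 K A * n⁻¹ = p1 K (it K A)) ∧
    ∀ A, n * p2 K A * n⁻¹ = p2 K (it K A) := by
  obtain ⟨n, hn⟩ := exists_inv (K := K) p hp
  have h1 : (MulAut.conj n).toMonoidHom.comp (p1 K) = (p1 K).comp (it K) := hom_ext fun a b hab c => by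
    apply Subtype.ext
    show (n : GL chevE8.Idx K) * (p1 K _ : GL chevE8.Idx K) * (n : GL chevE8.Idx K)⁻¹ = (p1 K (it K _) : GL chevE8.Idx K)
    rw [it_tv, coe_p1_tv, coe_p1_tv, hn _ (tab1.1 a b hab), tab1.2.2.2.2.2 a b hab, tab1.2.2.2.2.1 a b, mul_neg]
  have h2 : (MulAut.conj n).toMonoidHom.comp (p2 K) = (p2 K).comp (it K) := hom_ext fun a b hab c => by
    apply Subtype.ext
    show (n : GL chevE8.Idx K) * (p2 K _ : GL chevE8.Idx K) * (n : GL chevE8.Idx K)⁻¹ = (p2 K (it K _) : GL chevE8.Idx K)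
    rw [it_tv, coe_p2_tv, coe_p2_tv, hn _ (tab2.1 a b hab), tab2.2.2.2.2.2 a b hab]
  exact ⟨n, DFunLike.congr_fun h1, DFunLike.congr_fun h2⟩

theorem it_mul {J : SL5 K} {l : K} (hJ : J.1 = l • J0.map (Int.castRingHom K)) {A : SL5 ℤ}
    (hA : A.1ᵀ * (J0 * A.1) = J0) : J * rd K A = it K (rd K A) * J := by
  have h1 : (it K (rd K A))⁻¹ = (rd K A).transpose := by
    rw [← map_inv]
    exact congrArg SpecialLinearGroup.transpose (inv_inv (rd K A))
  rw [← inv_mul_eq_iff_eq_mul, h1]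
  apply Subtype.ext
  show (A.1.map (Int.castRingHom K))ᵀ * (J.1 * A.1.map (Int.castRingHom K)) = J.1
  rw [hJ, Matrix.smul_mul, Matrix.mul_smul, ← Matrix.transpose_map, ← Matrix.map_mul, ← Matrix.map_mul, hA]

theorem exists_cen [Finite K] (p : ℕ) [CharP K p] (hp : 7 ≤ p) {φ : A5 →* SL5 ℤ} (h1 : φ a5 = X0) (h2 : φ b5 = Y0) :
    ∃ z : G8 K, z ≠ 1 ∧ ∀ a, z * ps K (rd K (φ a)) = ps K (rd K (φ a)) * z := by
  by_cases h : ∀ c : K, c ^ 5 = 1 → c = 1
  · have h3 : Function.Injective fun c : K => c ^ 5 := by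
      intro a b hab
      have hab' : a ^ 5 = b ^ 5 := hab
      by_cases hb : b = 0
      · rw [hb, zero_pow (by norm_num)] at hab'
        rw [hb, pow_eq_zero_iff (by norm_num) |>.1 hab']
      · exact (div_eq_one_iff_eq hb).1 (h _ (by rw [div_pow, hab', div_self (pow_ne_zero _ hb)]))
    have h4 : ((1296 : ℕ) : K) ≠ 0 := cast_ne p hp (by norm_num)
    obtain ⟨l, hl⟩ := Finite.surjective_of_injective h3 ((1296 : ℕ) : K)⁻¹
    have hl' : l ^ 5 = ((1296 : ℕ) : K)⁻¹ := hl
    let J : SL5 K := ⟨l • J0.map (Int.castRingHom K), by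
      rw [det_smul, Fintype.card_fin, hl', ← RingHom.mapMatrix_apply, ← RingHom.map_det, J0_det]
      simpa only [_root_.Nat.cast_ofNat, _root_.eq_intCast, _root_.Int.cast_ofNat] using inv_mul_cancel₀ h4⟩
    have h5 : ∀ a, J * rd K (φ a) = it K (rd K (φ a)) * J := by
      have e : (MulAut.conj J).toMonoidHom.comp ((rd K).comp φ) = (it K).comp ((rd K).comp φ) := by
        apply MonoidHom.eq_of_eqOn_dense closure_a5_b5
        rintro a (rfl | rfl)
        · show J * rd K (φ a5) * J⁻¹ = it K (rd K (φ a5))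
          rw [h1, it_mul rfl J0_X, mul_inv_cancel_right]
        · show J * rd K (φ b5) * J⁻¹ = it K (rd K (φ b5))
          rw [h2, it_mul rfl J0_Y, mul_inv_cancel_right]
      intro a
      exact mul_inv_eq_iff_eq_mul.1 (DFunLike.congr_fun e a)
    obtain ⟨n, n1, n2⟩ := exists_it (K := K) p hp
    have h6 : ∀ A, n * ps K A = ps K (it K A) * n := fun A => by
      rw [ps_apply, ps_apply, ← n1, ← n2]
      simp only [mul_assoc, inv_mul_cancel_left, inv_mul_cancel, mul_one]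
    refine ⟨n⁻¹ * ps K J, fun e => ?_, fun a => ?_⟩
    · rw [inv_mul_eq_one] at e
      have e1 := n1 (SpecialLinearGroup.transvection (show (0 : Fin 5) ≠ 1 by decide) 1)
      rw [mul_inv_eq_iff_eq_mul, e, ps_apply, mul_assoc, ← (comm _ J).eq, ← mul_assoc, ← mul_assoc, mul_left_inj,
        ← map_mul, ← map_mul, it_tv] at e1
      have e2 : J.1 * Matrix.transvection 0 1 1 = Matrix.transvection 1 0 (-1) * J.1 :=
        congrArg Subtype.val (p1_injective e1)
      have e3 := congrFun (congrFun e2 1) 0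
      rw [Matrix.mul_transvection_apply_of_ne _ _ _ _ (by decide), Matrix.transvection_mul_apply_same] at e3
      have e4 : l * ((5 : ℕ) : K) = 0 := by
        have e5 : J.1 0 0 = l * ((5 : ℕ) : K) := by simp [J, J0]
        rw [← e5]
        linear_combination e3
      rcases mul_eq_zero.1 e4 with e5 | e5
      · rw [e5, zero_pow (by norm_num)] at hl'
        exact inv_ne_zero h4 hl'.symm
      · exact cast_ne p hp (by norm_num) e5
    · rw [mul_assoc, ← map_mul, h5, map_mul, ← mul_assoc, ← mul_assoc]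
      congr 1
      rw [inv_mul_eq_iff_eq_mul, ← mul_assoc, h6, mul_inv_cancel_right]
  · push Not at h
    obtain ⟨c, hc, hc1⟩ := h
    let Z : SL5 K := ⟨c • 1, by rw [det_smul, Fintype.card_fin, hc, det_one, mul_one]⟩
    refine ⟨p1 K Z, fun e => hc1 ?_, fun a => ?_⟩
    · have e1 : Z = 1 := p1_injective (e.trans (map_one _).symm)
      have e2 : (c • 1 : Matrix (Fin 5) (Fin 5) K) = 1 := congrArg Subtype.val e1
      simpa using congrFun (congrFun e2 0) 0
    · have e1 : Z * rd K (φ a) = rd K (φ a) * Z := Subtype.ext (by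
        show (c • 1 : Matrix (Fin 5) (Fin 5) K) * _ = _ * (c • 1 : Matrix (Fin 5) (Fin 5) K)
        rw [Matrix.smul_mul, Matrix.mul_smul, Matrix.one_mul, Matrix.mul_one])
      rw [ps_apply, ← mul_assoc, ← map_mul, e1, map_mul, mul_assoc, (comm Z _).eq, mul_assoc]

/-- **RHO** -/
theorem rho : RHO.{u} := by
  intro F _ _ p _ hp
  obtain ⟨φ, h1, h2⟩ := exists_rho0
  refine ⟨((ps F).comp (rd F)).comp φ, End.noFix_of_emb0 ?_, exists_cen p hp h1 h2⟩
  have e : (emb0 (F := F)).comp (((ps F).comp (rd F)).comp φ) = ((ps (Kb F)).comp (rd (Kb F))).comp φ := by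
    refine MonoidHom.ext fun a => ?_
    show emb0 (ps F (rd F (φ a))) = ps (Kb F) (rd (Kb F) (φ a))
    rw [emb0_ps]
    refine congrArg _ (Subtype.ext (Matrix.ext fun i j => ?_))
    exact map_intCast (algebraMap F (Kb F)) _
  rw [e]
  exact noFix_bar p hp h1 h2

/-- **REG5** from **UNIQ** -/
theorem reg5_of (h : UNIQ.{u}) : REG5.{u} := End.end5 h rho

end Cfsg.Agent.E8A.Reg5.Rho

private theorem dce_8cb3c669b3e0 : _root_.True := by
  try have : _root_.True := by simp only [_root_.Cfsg.Agent.E8A.Reg5.Rho.C0.eq_1]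
  try have : _root_.True := by simp only [_root_.Cfsg.Agent.E8A.Reg5.Rho.X0.eq_1]
  try have : _root_.True := by simp only [_root_.Cfsg.Agent.E8A.Reg5.Rho.J0.eq_1]
  try have : _root_.True := by simp only [_root_.Cfsg.Agent.E8A.Reg5.Rho.yy.eq_1]
  try have : _root_.True := by simp only [_root_.Cfsg.Agent.E8A.Reg5.Rho.dg.eq_1]
  try have : _root_.True := by simp only [_root_.Cfsg.Agent.E8A.Reg5.Rho.Y0.eq_1]
  exact _root_.True.intro
end
end
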