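import Cfsg.Agent.E8A.Reg5.ClsKac_m3
import Mathlib
import Cfsg.Agent.ChevalleyStructure.JacAll
import Cfsg.Agent.E8A.Reg5.Rho
import Cfsg.Agent.E8A.Fix.Bor_m3
import Cfsg.Agent.E8A.Reg5.Kil
import Cfsg.Agent.BpExc.Emb
import Cfsg.Agent.E8A.Reg5.AutLat
import Cfsg.Agent.E8A.Fix.BorGen
import Cfsg.Agent.E8A.Fix.Main_m3
import Cfsg.Agent.Lib.VonDyck
import Cfsg.Agent.Lib.FastPerm
import Cfsg.Agent.FastGrp
import Cfsg.Agent.Prune
set_option linter.all false

section
prune_inst 0x7ffda9fbbbbce1dfdfff7e77a6d8cdfc19921fffa4dffd433fe021ef0b1f038089c5638d09e000fe0fc3c01410a87843b97eceffea6bdc7ffffd5df41ffbee0fe5f7b508519080240f380ff603f0778e7f3ffffffffffffffffffffff7ffff9effbfffffffff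

-- part: E8A/Reg5/Sec_mg
section
prune_inst 0x210044443100020000008090430018221a00000000088c0084a10b0c07812040004200008b000003400800040030040000100000000000000a200000011d018000000000a0080000000018000080000000000000000000000000008000020004000000000
set_option linter.all false
open scoped Cfsg.Agent.FastGrp

-- part: E8A/Reg5/Form
section
/-!
# Binary forms over a commutative algebra (helper42)

* `sb M` : linear substitution; `lf v` : the linear form vanishing at `v`; `ev v` : evaluation; `ch v w` : the chart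
  `τ ↦ v + τ w`; `mf f` : change of the coefficients;
* `expand_ch`, `lf_pow_dvd_iff` : divisibility by a power of `lf v` is seen in the chart;
* `exists_quot`, `prod_dvd` : quotients of forms, products of powers of independent linear forms.
-/

set_option autoImplicit false
set_option linter.unusedSectionVars false

namespace Cfsg.Agent.E8A.Reg5

open Matrix MvPolynomial

universe u v w

/-- binary forms -/
abbrev Fm (R : Type v) [CommRing R] : Type v := MvPolynomial (Fin 2) R

variable {k : Type u} [Field k] {R : Type v} [CommRing R] [Algebra k R] {S : Type w} [CommRing S] [Algebra k S]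

variable (R) in
/-- linear substitution -/
noncomputable def sb (M : Matrix (Fin 2) (Fin 2) k) : Fm R →ₐ[R] Fm R :=
  aeval fun i => C (algebraMap k R (M i 0)) * X 0 + C (algebraMap k R (M i 1)) * X 1

variable (R) in
/-- the linear form which vanishes at `v` -/
noncomputable def lf (v : Fin 2 → k) : Fm R := C (algebraMap k R (v 0)) * X 1 - C (algebraMap k R (v 1)) * X 0

variable (R) in
/-- evaluation -/
noncomputable def ev (v : Fin 2 → k) : Fm R →ₐ[R] R := aeval fun i => algebraMap k R (v i)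

variable (R) in
/-- the chart -/
noncomputable def ch (v w : Fin 2 → k) : Fm R →ₐ[R] Polynomial R :=
  aeval fun i => Polynomial.C (algebraMap k R (v i)) + Polynomial.C (algebraMap k R (w i)) * Polynomial.X

/-- change of the coefficients -/
noncomputable def mf (f : R →ₐ[k] S) : Fm R →ₐ[k] Fm S := mapAlgHom f

theorem mf_apply (f : R →ₐ[k] S) (P : Fm R) : mf f P = MvPolynomial.map (f : R →+* S) P := rfl

theorem mf_C (f : R →ₐ[k] S) (a : R) : mf f (C a) = C (f a) := by rw [mf_apply, map_C]; rfl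

theorem mf_X (f : R →ₐ[k] S) (i : Fin 2) : mf f (X i) = X i := by rw [mf_apply, map_X]

theorem sb_X (M : Matrix (Fin 2) (Fin 2) k) (i : Fin 2) :
    sb R M (X i) = C (algebraMap k R (M i 0)) * X 0 + C (algebraMap k R (M i 1)) * X 1 := aeval_X _ _

theorem sb_C (M : Matrix (Fin 2) (Fin 2) k) (a : R) : sb R M (C a) = C a := (sb R M).commutes a

theorem ev_X (v : Fin 2 → k) (i : Fin 2) : ev R v (X i) = algebraMap k R (v i) := aeval_X _ _

theorem ev_C (v : Fin 2 → k) (a : R) : ev R v (C a) = a := (ev R v).commutes a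

theorem ch_X (v w : Fin 2 → k) (i : Fin 2) : ch R v w (X i) =
    Polynomial.C (algebraMap k R (v i)) + Polynomial.C (algebraMap k R (w i)) * Polynomial.X := aeval_X _ _

theorem ch_C (v w : Fin 2 → k) (a : R) : ch R v w (C a) = Polynomial.C a := (ch R v w).commutes a

theorem sb_sb (M N : Matrix (Fin 2) (Fin 2) k) (P : Fm R) : sb R M (sb R N P) = sb R (N * M) P := by
  have : (sb R M).comp (sb R N) = sb R (N * M) := by
    apply MvPolynomial.algHom_ext
    intro i
    simp only [AlgHom.comp_apply, sb_X, map_add, map_mul, sb_C, Matrix.mul_apply, Fin.sum_univ_two]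
    ring
  exact DFunLike.congr_fun this P

theorem sb_one (P : Fm R) : sb R (1 : Matrix (Fin 2) (Fin 2) k) P = P := by
  have : sb R (1 : Matrix (Fin 2) (Fin 2) k) = AlgHom.id R _ := by
    apply MvPolynomial.algHom_ext
    intro i
    fin_cases i <;> simp [sb_X]
  rw [this]; rfl

theorem ev_sb (v : Fin 2 → k) (M : Matrix (Fin 2) (Fin 2) k) (P : Fm R) : ev R v (sb R M P) = ev R (M *ᵥ v) P := by
  have : (ev R v).comp (sb R M) = ev R (M *ᵥ v) := by
    apply MvPolynomial.algHom_ext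
    intro i
    simp only [AlgHom.comp_apply, sb_X, map_add, map_mul, ev_C, ev_X, Matrix.mulVec, dotProduct, Fin.sum_univ_two]
  exact DFunLike.congr_fun this P

theorem ch_sb (v w : Fin 2 → k) (M : Matrix (Fin 2) (Fin 2) k) (P : Fm R) :
    ch R v w (sb R M P) = ch R (M *ᵥ v) (M *ᵥ w) P := by
  have : (ch R v w).comp (sb R M) = ch R (M *ᵥ v) (M *ᵥ w) := by
    apply MvPolynomial.algHom_ext
    intro i
    simp only [AlgHom.comp_apply, sb_X, map_add, map_mul, ch_C, ch_X, Matrix.mulVec, dotProduct, Fin.sum_univ_two]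
    ring
  exact DFunLike.congr_fun this P

theorem coeff_zero_ch (v w : Fin 2 → k) (P : Fm R) : (ch R v w P).coeff 0 = ev R v P := by
  have : (Polynomial.aeval (0 : R)).comp (ch R v w) = ev R v := by
    apply MvPolynomial.algHom_ext
    intro i
    simp [ch_X, ev_X]
  rw [← this, Polynomial.coeff_zero_eq_eval_zero, AlgHom.comp_apply, Polynomial.coe_aeval_eq_eval]

theorem mf_sb (f : R →ₐ[k] S) (M : Matrix (Fin 2) (Fin 2) k) (P : Fm R) : mf f (sb R M P) = sb S M (mf f P) := by
  induction P using MvPolynomial.induction_on with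
  | C a => rw [sb_C, mf_C, sb_C]
  | add p q hp hq => rw [map_add, map_add, hp, hq, map_add, map_add]
  | mul_X p i hp =>
    rw [map_mul, map_mul, hp, map_mul, map_mul, mf_X, sb_X, sb_X, map_add, map_mul, map_mul, mf_C, mf_C, mf_X, mf_X,
      f.commutes, f.commutes]

theorem ev_mf (f : R →ₐ[k] S) (v : Fin 2 → k) (P : Fm R) : ev S v (mf f P) = f (ev R v P) := by
  induction P using MvPolynomial.induction_on with
  | C a => rw [mf_C, ev_C, ev_C]
  | add p q hp hq => rw [map_add, map_add, hp, hq, map_add, map_add]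
  | mul_X p i hp => rw [map_mul, map_mul, hp, map_mul, map_mul, mf_X, ev_X, ev_X, f.commutes]

theorem ch_mf (f : R →ₐ[k] S) (v w : Fin 2 → k) (P : Fm R) :
    ch S v w (mf f P) = (ch R v w P).map (f : R →+* S) := by
  induction P using MvPolynomial.induction_on with
  | C a => rw [mf_C, ch_C, ch_C, Polynomial.map_C]; rfl
  | add p q hp hq => rw [map_add, map_add, hp, hq, map_add, Polynomial.map_add]
  | mul_X p i hp =>
    rw [map_mul, map_mul, hp, map_mul, Polynomial.map_mul, mf_X, ch_X, ch_X]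
    simp only [_root_.Polynomial.map_add, _root_.Polynomial.map_C, _root_.RingHom.coe_coe, _root_.AlgHom.commutes, _root_.Polynomial.map_mul, _root_.Polynomial.map_X]

theorem mf_lf (f : R →ₐ[k] S) (v : Fin 2 → k) : mf f (lf R v) = lf S v := by
  unfold lf
  rw [map_sub, map_mul, map_mul, mf_C, mf_C, mf_X, mf_X, f.commutes, f.commutes]

theorem mf_hom (f : R →ₐ[k] S) {P : Fm R} {n : ℕ} (h : P.IsHomogeneous n) : (mf f P).IsHomogeneous n := h.map _

theorem lf_hom (v : Fin 2 → k) : (lf R v).IsHomogeneous 1 :=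
  (isHomogeneous_C_mul_X _ _).sub (isHomogeneous_C_mul_X _ _)

theorem sb_hom (M : Matrix (Fin 2) (Fin 2) k) {P : Fm R} {n : ℕ} (h : P.IsHomogeneous n) :
    (sb R M P).IsHomogeneous n := by
  have := h.aeval (fun i => (C (algebraMap k R (M i 0)) * X 0 + C (algebraMap k R (M i 1)) * X 1 : Fm R))
    (fun i => (isHomogeneous_C_mul_X _ _).add (isHomogeneous_C_mul_X _ _))
  rwa [one_mul] at this

theorem ev_lf (v w : Fin 2 → k) : ev R w (lf R v) = algebraMap k R (dt v w) := by
  unfold lf dt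
  simp only [map_sub, map_mul, ev_C, ev_X]

theorem ch_lf (u v w : Fin 2 → k) : ch R v w (lf R u) =
    Polynomial.C (algebraMap k R (dt u v)) + Polynomial.C (algebraMap k R (dt u w)) * Polynomial.X := by
  unfold lf dt
  simp only [map_sub, map_mul, ch_C, ch_X]
  ring

theorem lf_smul (c : k) (v : Fin 2 → k) : lf R (c • v) = C (algebraMap k R c) * lf R v := by
  unfold lf
  simp only [Pi.smul_apply, smul_eq_mul, map_mul]
  ring

theorem sb_lf {M : Matrix (Fin 2) (Fin 2) k} (hM : M.det = 1) (v : Fin 2 → k) : sb R M (lf R (M *ᵥ v)) = lf R v := by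
  rw [Matrix.det_fin_two] at hM
  have h1 : (C (algebraMap k R (M 0 0)) * C (algebraMap k R (M 1 1)) - C (algebraMap k R (M 0 1)) *
      C (algebraMap k R (M 1 0)) : Fm R) = 1 := by
    rw [← C_mul, ← C_mul, ← C_sub, ← map_mul, ← map_mul, ← map_sub, hM, map_one, map_one]
  unfold lf
  simp only [map_sub, map_mul, sb_C, sb_X, Matrix.mulVec, dotProduct, Fin.sum_univ_two, map_add]
  linear_combination (C (algebraMap k R (v 0)) * X 1 - C (algebraMap k R (v 1)) * X 0 : Fm R) * h1

theorem dt_self (v : Fin 2 → k) : dt v v = 0 := by unfold dt; ring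

theorem dt_swap (v w : Fin 2 → k) : dt w v = -dt v w := by unfold dt; ring

theorem dt_smul_right (c : k) (v w : Fin 2 → k) : dt v (c • w) = c * dt v w := by
  unfold dt; simp only [Pi.smul_apply, smul_eq_mul]; ring

theorem exists_dt {v u : Fin 2 → k} (h : dt v u ≠ 0) : ∃ w, dt v w = 1 :=
  ⟨(dt v u)⁻¹ • u, by rw [dt_smul_right, inv_mul_cancel₀ h]⟩

/-- A form is determined by its chart. -/
theorem expand_ch {v w : Fin 2 → k} (h : dt v w = 1) {P : Fm R} {n : ℕ} (hP : P.IsHomogeneous n) :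
    P = ∑ p ∈ Finset.HasAntidiagonal.antidiagonal n, C ((ch R v w P).coeff p.1) * lf R v ^ p.1 * (-lf R w) ^ p.2 := by
  let B : Matrix (Fin 2) (Fin 2) k := !![w 0, v 0; w 1, v 1]
  let B' : Matrix (Fin 2) (Fin 2) k := !![-v 1, v 0; w 1, -w 0]
  have hB : B * B' = 1 := by
    unfold dt at h
    ext i j
    fin_cases i <;> fin_cases j <;> simp only [B, B', Matrix.mul_apply, Fin.sum_univ_two, _root_.Fin.isValue, _root_.Fin.zero_eta, _root_.Matrix.of_apply, _root_.Matrix.cons_val', _root_.Matrix.cons_val_fin_one, _root_.Matrix.cons_val_zero, _root_.mul_neg, _root_.Matrix.cons_val_one, _root_.Matrix.one_apply_eq, _root_.Fin.mk_one, _root_.ne_eq, _root_.zero_ne_one, _root_.not_false_eq_true, _root_.Matrix.one_apply_ne, _root_.one_ne_zero]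
    · linear_combination h
    · ring
    · ring
    · linear_combination h
  have h1 : MvPolynomial.aeval ![Polynomial.X, 1] (sb R B P) = ch R v w P := by
    have : (MvPolynomial.aeval ![Polynomial.X, 1] : Fm R →ₐ[R] Polynomial R).comp (sb R B) = ch R v w := by
      apply MvPolynomial.algHom_ext
      intro i
      rw [AlgHom.comp_apply, sb_X, ch_X]
      (revert i; simp only [B, _root_.Fin.forall_fin_succ, Fin.isValue, _root_.Matrix.of_apply, _root_.Matrix.cons_val', _root_.Matrix.cons_val_zero, _root_.Matrix.cons_val_fin_one, _root_.Matrix.cons_val_one, _root_.map_add, _root_.map_mul, _root_.MvPolynomial.algHom_C, _root_.Polynomial.algebraMap_eq, _root_.MvPolynomial.aeval_X, _root_.mul_one, _root_.Matrix.cons_val_succ, _root_.Fin.succ_zero_eq_one, _root_.IsEmpty.forall_iff, _root_.and_true]) <;> (repeat' with_reducible apply And.intro) <;> ring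
    exact DFunLike.congr_fun this P
  have h2 := Polynomial.homogenize_eq_of_isHomogeneous (sb_hom B hP) h1
  have h3 : P = sb R B' (sb R B P) := by rw [sb_sb, hB, sb_one]
  have h4 : sb R B' (X 0) = lf R v := by
    rw [sb_X]; unfold lf; simp [B']; ring
  have h5 : sb R B' (X 1) = -lf R w := by
    rw [sb_X]; unfold lf; simp [B']; ring
  conv_lhs => rw [h3, ← h2]
  unfold Polynomial.homogenize
  rw [map_sum]
  refine Finset.sum_congr rfl fun p _ => ?_
  rw [monomial_eq, Finsupp.prod_fintype _ _ (fun _ => pow_zero _), Fin.prod_univ_two, map_mul, map_mul, map_pow, map_pow,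
    sb_C, h4, h5, mul_assoc]
  simp only [_root_.Fin.isValue, _root_.Finsupp.coe_update, _root_.ne_eq, _root_.zero_ne_one, _root_.not_false_eq_true, _root_.Function.update_of_ne, _root_.Finsupp.single_eq_same, _root_.Function.update_self]

theorem ch_lf_self {v w : Fin 2 → k} (h : dt v w = 1) : ch R v w (lf R v) = Polynomial.X := by
  rw [ch_lf, dt_self, h]; simp

theorem lf_pow_dvd_iff {v w : Fin 2 → k} (h : dt v w = 1) {P : Fm R} {n : ℕ} (hP : P.IsHomogeneous n) (a : ℕ) :
    lf R v ^ a ∣ P ↔ Polynomial.X ^ a ∣ ch R v w P := by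
  constructor
  · intro h1
    have := map_dvd (ch R v w) h1
    rwa [map_pow, ch_lf_self h] at this
  · intro h1
    rw [expand_ch h hP]
    refine Finset.dvd_sum fun p _ => ?_
    by_cases hp : p.1 < a
    · rw [Polynomial.X_pow_dvd_iff.1 h1 _ hp, map_zero, zero_mul, zero_mul]
      exact dvd_zero _
    · exact Dvd.dvd.mul_right (Dvd.dvd.mul_left (pow_dvd_pow _ (not_lt.1 hp)) _) _

/-- the chart along scaled vectors -/
theorem coeff_ch_smul {v w : Fin 2 → k} (h : dt v w = 1) {P : Fm R} {n : ℕ} (hP : P.IsHomogeneous n) {η : k}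
    (hη : η ≠ 0) (hn : η ^ n = 1) (j : ℕ) :
    (ch R (η • v) (η⁻¹ • w) P).coeff j = algebraMap k R ((η ^ 2)⁻¹ ^ j) * (ch R v w P).coeff j := by
  have key : ∀ a b : k, (ch R (a • v) (b • w) P).coeff j =
      if j ≤ n then (ch R v w P).coeff j * algebraMap k R (b ^ j * a ^ (n - j)) else 0 := by
    intro a b
    have h1 : ch R (a • v) (b • w) (lf R v) = Polynomial.C (algebraMap k R b) * Polynomial.X := by
      rw [ch_lf, dt_smul_right, dt_smul_right, dt_self, h]; simp
    have h2 : ch R (a • v) (b • w) (-lf R w) = Polynomial.C (algebraMap k R a) := by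
      rw [map_neg, ch_lf, dt_smul_right, dt_smul_right, dt_self, dt_swap, h]; simp only [_root_.mul_neg, _root_.mul_one, _root_.map_neg, _root_.MulZeroClass.mul_zero, _root_.map_zero, _root_.MulZeroClass.zero_mul, _root_.add_zero, _root_.neg_neg]
    conv_lhs => rw [expand_ch h hP]
    rw [map_sum, Polynomial.finsetSum_coeff]
    have h3 : ∀ p : ℕ × ℕ, (ch R (a • v) (b • w) (C ((ch R v w P).coeff p.1) * lf R v ^ p.1 * (-lf R w) ^ p.2)).coeff j =
        if p.1 = j then (ch R v w P).coeff p.1 * algebraMap k R (b ^ p.1 * a ^ p.2) else 0 := by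
      intro p
      rw [map_mul, map_mul, map_pow, map_pow, ch_C, h1, h2]
      have : Polynomial.C ((ch R v w P).coeff p.1) * (Polynomial.C (algebraMap k R b) * Polynomial.X) ^ p.1 *
          Polynomial.C (algebraMap k R a) ^ p.2 =
          Polynomial.C ((ch R v w P).coeff p.1 * algebraMap k R (b ^ p.1 * a ^ p.2)) * Polynomial.X ^ p.1 := by
        simp only [map_mul, map_pow]; ring
      rw [this, Polynomial.coeff_C_mul_X_pow]
      simp only [eq_comm]
    simp only [h3]
    split_ifs with hj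
    · rw [Finset.sum_eq_single (j, n - j)]
      · simp only [↓ _root_.reduceIte, _root_.map_mul, _root_.map_pow]
      · intro p hp hne
        rw [if_neg]
        intro h4
        apply hne
        have := Finset.HasAntidiagonal.mem_antidiagonal.1 hp
        ext
        · exact h4
        · show p.2 = n - j
          omega
      · intro h4
        exact absurd (Finset.HasAntidiagonal.mem_antidiagonal.2 (by show j + (n - j) = n; omega)) h4
    · refine Finset.sum_eq_zero fun p hp => if_neg fun h4 => hj ?_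
      have := Finset.HasAntidiagonal.mem_antidiagonal.1 hp
      omega
  rw [key]
  split_ifs with hj
  · rw [mul_comm]
    congr 2
    have h5 : η ^ (n - j) * η ^ j = 1 := by rw [← pow_add, Nat.sub_add_cancel hj, hn]
    have h6 : η ^ (n - j) = η⁻¹ ^ j := by
      rw [inv_pow]; exact eq_inv_of_mul_eq_one_left h5
    rw [h6, ← mul_pow, pow_two, mul_inv]
  · have := key 1 1
    rw [one_smul, one_smul, if_neg hj] at this
    rw [this, mul_zero]

theorem ev_smul {P : Fm R} {n : ℕ} (hP : P.IsHomogeneous n) (c : k) (v : Fin 2 → k) :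
    ev R (c • v) P = algebraMap k R (c ^ n) * ev R v P := by
  rw [P.as_sum, map_sum, map_sum, Finset.mul_sum]
  refine Finset.sum_congr rfl fun d hd => ?_
  have h1 : d 0 + d 1 = n := by
    have := hP.degree_eq_sum_deg_support hd
    rw [this, Finset.sum_subset (Finset.subset_univ d.support) (fun i _ hi => Finsupp.notMem_support_iff.1 hi),
      Fin.sum_univ_two]
  rw [monomial_eq, Finsupp.prod_fintype _ _ (fun _ => pow_zero _), Fin.prod_univ_two]
  simp only [map_mul, map_pow, ev_C, ev_X, Pi.smul_apply, smul_eq_mul, ← h1]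
  ring

omit [Algebra k R] in
/-- quotients of forms -/
theorem exists_quot {P D : Fm R} {n a : ℕ} (hP : P.IsHomogeneous n) (hD : D.IsHomogeneous a) (h : D ∣ P) :
    ∃ Q : Fm R, P = D * Q ∧ Q.IsHomogeneous (n - a) ∧ (n < a → Q = 0) := by
  obtain ⟨Z, hZ⟩ := h
  have key : P = ∑ j ∈ Finset.range (Z.totalDegree + 1), if n = a + j then D * homogeneousComponent j Z else 0 := by
    conv_lhs => rw [← homogeneousComponent_eq_self hP, hZ, ← sum_homogeneousComponent Z, Finset.mul_sum, map_sum]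
    exact Finset.sum_congr rfl fun j _ =>
      homogeneousComponent_of_mem (hD.mul (homogeneousComponent_isHomogeneous j Z))
  by_cases hn : n < a
  · refine ⟨0, ?_, isHomogeneous_zero _ _ _, fun _ => rfl⟩
    rw [key, mul_zero]
    exact Finset.sum_eq_zero fun j _ => if_neg (by omega)
  · refine ⟨homogeneousComponent (n - a) Z, ?_, homogeneousComponent_isHomogeneous _ _, fun h => absurd h hn⟩
    rw [key, Finset.sum_eq_single (n - a)]
    · rw [if_pos (by omega)]
    · intro j _ hj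
      exact if_neg (by omega)
    · intro hj
      rw [if_pos (by omega), homogeneousComponent_eq_zero _ _ (by rw [Finset.mem_range] at hj; omega), mul_zero]

theorem lf_regular {v w : Fin 2 → k} (h : dt v w = 1) : IsRegular (lf R v) := by
  let B : Matrix (Fin 2) (Fin 2) k := !![w 0, v 0; w 1, v 1]
  let B' : Matrix (Fin 2) (Fin 2) k := !![-v 1, v 0; w 1, -w 0]
  have hB : B * B' = 1 := by
    unfold dt at h
    ext i j
    fin_cases i <;> fin_cases j <;> simp only [B, B', Matrix.mul_apply, Fin.sum_univ_two, _root_.Fin.isValue, _root_.Fin.zero_eta, _root_.Matrix.of_apply, _root_.Matrix.cons_val', _root_.Matrix.cons_val_fin_one, _root_.Matrix.cons_val_zero, _root_.mul_neg, _root_.Matrix.cons_val_one, _root_.Matrix.one_apply_eq, _root_.Fin.mk_one, _root_.ne_eq, _root_.zero_ne_one, _root_.not_false_eq_true, _root_.Matrix.one_apply_ne, _root_.one_ne_zero]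
    · linear_combination h
    · ring
    · ring
    · linear_combination h
  have h4 : sb R B' (X 0) = lf R v := by
    rw [sb_X]; unfold lf; simp [B']; ring
  have h5 : sb R B (lf R v) = X 0 := by rw [← h4, sb_sb, mul_eq_one_comm.1 hB, sb_one]
  rw [← isLeftRegular_iff_isRegular]
  intro P Q hPQ
  have h6 : sb R B (lf R v * P) = sb R B (lf R v * Q) := congrArg _ hPQ
  rw [map_mul, map_mul, h5] at h6
  have h7 := congrArg (sb R B') ((isRegular_X (R := R) (n := (0 : Fin 2))).left h6)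
  rwa [sb_sb, sb_sb, hB, sb_one, sb_one] at h7

theorem isUnit_algebraMap {c : k} (hc : c ≠ 0) : IsUnit (algebraMap k R c) := (Ne.isUnit hc).map _

theorem dvd_of_mul {v u : Fin 2 → k} (h : dt v u ≠ 0) {P : Fm R} {n : ℕ} (hP : P.IsHomogeneous n) {a b : ℕ}
    (h1 : lf R v ^ a ∣ lf R u ^ b * P) : lf R v ^ a ∣ P := by
  obtain ⟨w, hw⟩ := exists_dt h
  rw [lf_pow_dvd_iff hw hP]
  have h2 := map_dvd (ch R v w) h1
  rw [map_pow, ch_lf_self hw, map_mul, map_pow, ch_lf] at h2
  refine IsCoprime.dvd_of_dvd_mul_left (IsCoprime.pow ?_) h2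
  have hu : dt u v ≠ 0 := by rw [dt_swap]; exact neg_ne_zero.2 h
  refine ⟨-(Polynomial.C (algebraMap k R ((dt u v)⁻¹ * dt u w))), Polynomial.C (algebraMap k R (dt u v)⁻¹), ?_⟩
  have : Polynomial.C (algebraMap k R (dt u v)⁻¹) * Polynomial.C (algebraMap k R (dt u v)) = 1 := by
    rw [← map_mul, ← map_mul, inv_mul_cancel₀ hu, map_one, map_one]
  simp only [map_mul]
  linear_combination this

/-- powers of independent linear forms -/
theorem prod_dvd {T : Type*} (v : T → Fin 2 → k) (hv : ∀ x y, x ≠ y → dt (v x) (v y) ≠ 0) (e : T → ℕ) (s : Finset T)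
    {P : Fm R} {n : ℕ} (hP : P.IsHomogeneous n) (h : ∀ x ∈ s, lf R (v x) ^ e x ∣ P) :
    ∏ x ∈ s, lf R (v x) ^ e x ∣ P := by
  classical
  induction s using Finset.induction_on generalizing P n with
  | empty => simp
  | insert a s ha ih =>
    obtain ⟨Q, hQ, hQ1, -⟩ := exists_quot hP ((lf_hom (v a)).pow (e a)) (h a (Finset.mem_insert_self _ _))
    rw [Finset.prod_insert ha, hQ]
    refine mul_dvd_mul_left _ (ih hQ1 fun x hx => ?_)
    have h1 := h x (Finset.mem_insert_of_mem hx)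
    rw [hQ] at h1
    exact dvd_of_mul (hv x a fun h2 => ha (h2 ▸ hx)) hQ1 h1

theorem prod_hom {T : Type*} (v : T → Fin 2 → k) (e : T → ℕ) (s : Finset T) :
    (∏ x ∈ s, lf R (v x) ^ e x).IsHomogeneous (∑ x ∈ s, e x) :=
  IsHomogeneous.prod s _ _ fun x _ => by
    have := (lf_hom (R := R) (v x)).pow (e x)
    rwa [one_mul] at this

end Cfsg.Agent.E8A.Reg5
end

-- part: E8A/Reg5/Lie
section
/-!
# Algebras given by integral structure constants, over commutative rings (helper42)

* `ad A R x`, `kil A R`, `kf` : the adjoint matrices, the trace form; `Good A k` : Jacobi identity, the form is nondegenerate;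
* `Tw δ a` : `[a x, a y] = δ a [x, y]`; `Iso δ a` : `κ (a x, a y) = δ ^ 2 κ (x, y)`; `st a` : the adjoint matrix;
* `exists_eq_ad` : derivations are inner;
* `Gr A d` : gradings; `Sh d P M` : the shifts of the degree by `M` satisfy `P`;
* `ex N` : the exponential of `N` with `N ^ 3 = 0`.
-/

set_option autoImplicit false
set_option linter.unusedSectionVars false

namespace Cfsg.Agent.E8A.Reg5

open Matrix
open Cfsg.Agent.ChevalleyStructure.LieAbs

universe u v w

variable {ι : Type} [Fintype ι] [DecidableEq ι] (A : ι → Matrix ι ι ℤ)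

section Defs

/-- the adjoint matrix -/
noncomputable def ad {R : Type v} [CommRing R] (x : ι → R) : Matrix ι ι R :=
  adv (fun j => (A j).map (Int.castRingHom R)) x

/-- the matrix of the trace form -/
noncomputable def kil (R : Type v) [CommRing R] : Matrix ι ι R :=
  Matrix.of fun i j => Matrix.trace ((A i).map (Int.castRingHom R) * (A j).map (Int.castRingHom R))

/-- the trace form -/
noncomputable def kf {R : Type v} [CommRing R] (x y : ι → R) : R := Matrix.trace (ad A x * ad A y)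

/-- the hypotheses -/
structure Good (k : Type u) [Field k] : Prop where
  jac : ∀ x, Jac A x
  det : (kil A k).det ≠ 0
  two : (2 : k) ≠ 0
  three : (3 : k) ≠ 0

variable {A} {R : Type v} [CommRing R] {S : Type w} [CommRing S]

theorem ad_add (x y : ι → R) : ad A (x + y) = ad A x + ad A y := adv_add _ _ _
theorem ad_smul (c : R) (x : ι → R) : ad A (c • x) = c • ad A x := adv_smul _ _ _
theorem ad_zero : ad A (0 : ι → R) = 0 := adv_zero _
theorem ad_neg (x : ι → R) : ad A (-x) = -ad A x := adv_neg _ _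
theorem ad_sub (x y : ι → R) : ad A (x - y) = ad A x - ad A y := adv_sub _ _ _
theorem ad_apply (x : ι → R) (a b : ι) : ad A x a b = ∑ j, x j * (A j a b : R) := by
  simp only [ad, adv, Matrix.sum_apply, _root_.Int.coe_castRingHom, _root_.Matrix.smul_apply, _root_.Matrix.map_apply, _root_.smul_eq_mul]

theorem ad_map (f : R →+* S) (x : ι → R) : (ad A x).map f = ad A (fun j => f (x j)) := by
  ext a b
  rw [Matrix.map_apply, ad_apply, ad_apply, map_sum]
  simp only [_root_.map_mul, _root_.map_intCast]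

theorem eq_sum_single (x : ι → R) : x = ∑ j, x j • (Pi.single j (1 : R) : ι → R) := by
  ext k
  simp only [Finset.sum_apply, Pi.single_apply, _root_.Pi.smul_apply, _root_.smul_eq_mul, _root_.mul_ite, _root_.mul_one, _root_.MulZeroClass.mul_zero, _root_.Finset.sum_ite_eq, _root_.Finset.mem_univ, ↓ _root_.reduceIte]

theorem ad_sum {κ : Type*} (s : Finset κ) (f : κ → ι → R) : ad A (∑ c ∈ s, f c) = ∑ c ∈ s, ad A (f c) :=
  map_sum (advLin (fun j => (A j).map (Int.castRingHom R))) f s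

theorem kil_map (f : R →+* S) : (kil A R).map f = kil A S := by
  ext i j
  simp only [kil, Matrix.trace, Matrix.mul_apply, _root_.Int.coe_castRingHom, _root_.Matrix.diag_apply, _root_.Matrix.map_apply, _root_.Matrix.of_apply, _root_.map_sum, _root_.map_mul, _root_.map_intCast]

theorem kf_symm (x y : ι → R) : kf A x y = kf A y x := Matrix.trace_mul_comm _ _

theorem kf_add_left (x y z : ι → R) : kf A (x + y) z = kf A x z + kf A y z := by
  unfold kf; rw [ad_add, Matrix.add_mul, Matrix.trace_add]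

theorem kf_add_right (x y z : ι → R) : kf A x (y + z) = kf A x y + kf A x z := by
  unfold kf; rw [ad_add, Matrix.mul_add, Matrix.trace_add]

theorem kf_sub_left (x y z : ι → R) : kf A (x - y) z = kf A x z - kf A y z := by
  unfold kf; rw [ad_sub, Matrix.sub_mul, Matrix.trace_sub]

theorem kf_neg_left (x z : ι → R) : kf A (-x) z = -kf A x z := by
  unfold kf; rw [ad_neg, Matrix.neg_mul, Matrix.trace_neg]

theorem kf_smul_left (c : R) (x z : ι → R) : kf A (c • x) z = c * kf A x z := by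
  unfold kf; rw [ad_smul, Matrix.smul_mul, Matrix.trace_smul, smul_eq_mul]

theorem kf_smul_right (c : R) (x z : ι → R) : kf A x (c • z) = c * kf A x z := by
  unfold kf; rw [ad_smul, Matrix.mul_smul, Matrix.trace_smul, smul_eq_mul]

theorem kf_eq (x y : ι → R) : kf A x y = x ⬝ᵥ (kil A R *ᵥ y) := by
  unfold kf ad adv
  rw [Finset.sum_mul, Matrix.trace_sum]
  unfold dotProduct
  refine Finset.sum_congr rfl fun i _ => ?_
  rw [Matrix.smul_mul, Matrix.trace_smul, smul_eq_mul, Finset.mul_sum, Matrix.trace_sum]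
  congr 1
  unfold Matrix.mulVec dotProduct
  refine Finset.sum_congr rfl fun j _ => ?_
  rw [Matrix.mul_smul, Matrix.trace_smul, smul_eq_mul, mul_comm]
  rfl

theorem kf_eq_sum (x y : ι → R) : kf A x y = ∑ a, ∑ b, kil A R a b * (x a * y b) := by
  rw [kf_eq]
  unfold dotProduct Matrix.mulVec dotProduct
  refine Finset.sum_congr rfl fun a _ => ?_
  rw [Finset.mul_sum]
  exact Finset.sum_congr rfl fun b _ => by ring

theorem kf_map (f : R →+* S) (x y : ι → R) : f (kf A x y) = kf A (fun j => f (x j)) (fun j => f (y j)) := by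
  rw [kf_eq_sum, kf_eq_sum, map_sum]
  refine Finset.sum_congr rfl fun a _ => ?_
  rw [map_sum]
  refine Finset.sum_congr rfl fun b _ => ?_
  rw [map_mul, map_mul, ← kil_map f]
  rfl

theorem mulVec_map (f : R →+* S) (M : Matrix ι ι R) (x : ι → R) :
    (fun j => f ((M *ᵥ x) j)) = M.map f *ᵥ fun j => f (x j) := by
  funext j
  exact RingHom.map_mulVec f M x j

/-- two matrices which agree on the basis vectors -/
theorem ext_mulVec {M N : Matrix ι ι R} (h : ∀ j, M *ᵥ Pi.single j 1 = N *ᵥ Pi.single j 1) : M = N := by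
  ext a b
  have := congrFun (h b) a
  simpa using this

theorem kf_mulVec (M : Matrix ι ι R) (x y : ι → R) : kf A (M *ᵥ x) (M *ᵥ y) = x ⬝ᵥ ((Mᵀ * kil A R * M) *ᵥ y) := by
  rw [kf_eq, Matrix.mulVec_mulVec, ← Matrix.vecMul_transpose, ← Matrix.dotProduct_mulVec, Matrix.mulVec_mulVec,
    Matrix.mul_assoc]

end Defs

section Main

variable {A} {k : Type u} [Field k] {R : Type v} [CommRing R] [Algebra k R] {S : Type w} [CommRing S] [Algebra k S]

theorem Good.jacR (h : Good A k) (x y : ι → R) : ad A (ad A x *ᵥ y) = ad A x * ad A y - ad A y * ad A x :=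
  Jac.map (Int.castRingHom R) h.jac x y

variable (A k) in
/-- the inverse of the matrix of the trace form -/
noncomputable def kin (R : Type v) [CommRing R] [Algebra k R] : Matrix ι ι R := ((kil A k)⁻¹).map (algebraMap k R)

theorem Good.kin_mul (h : Good A k) : kin A k R * kil A R = 1 := by
  unfold kin
  rw [← kil_map (algebraMap k R), ← Matrix.map_mul, Matrix.nonsing_inv_mul _ (Ne.isUnit h.det),
    Matrix.map_one _ (map_zero _) (map_one _)]

theorem Good.mul_kin (h : Good A k) : kil A R * kin A k R = 1 := mul_eq_one_comm.1 h.kin_mul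

theorem kin_map (f : R →ₐ[k] S) : (kin A k R).map f = kin A k S := by
  ext a b
  exact f.commutes _

theorem Good.kf_inv (h : Good A k) (x y z : ι → R) : kf A (ad A x *ᵥ y) z = kf A x (ad A y *ᵥ z) := by
  unfold kf
  rw [h.jacR, h.jacR, Matrix.sub_mul, Matrix.mul_sub, Matrix.trace_sub, Matrix.trace_sub, Matrix.mul_assoc,
    Matrix.mul_assoc, Matrix.trace_mul_comm (ad A y) (ad A x * ad A z), Matrix.mul_assoc]

theorem Good.nondeg (h : Good A k) {x : ι → R} (hx : ∀ j, kf A x (Pi.single j 1) = 0) : x = 0 := by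
  have h1 : kil A R *ᵥ x = 0 := by
    funext j
    have := hx j
    rw [kf_symm, kf_eq, single_one_dotProduct] at this
    exact this
  calc x = (kin A k R * kil A R) *ᵥ x := by rw [h.kin_mul, Matrix.one_mulVec]
    _ = 0 := by rw [← Matrix.mulVec_mulVec, h1, Matrix.mulVec_zero]

theorem Good.exists_dual (h : Good A k) (f : (ι → R) →ₗ[R] R) : ∃ x, ∀ y, kf A x y = f y := by
  refine ⟨kin A k R *ᵥ fun j => f (Pi.single j 1), fun y => ?_⟩
  rw [kf_symm, kf_eq, Matrix.mulVec_mulVec, h.mul_kin, Matrix.one_mulVec]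
  conv_rhs => rw [eq_sum_single y, map_sum]
  unfold dotProduct
  exact Finset.sum_congr rfl fun j _ => by rw [map_smul, smul_eq_mul]

theorem Good.ad_eq_zero (h : Good A k) {x : ι → R} (hx : ad A x = 0) : x = 0 :=
  h.nondeg fun j => by unfold kf; rw [hx, Matrix.zero_mul, Matrix.trace_zero]

theorem Good.ad_inj (h : Good A k) {x y : ι → R} (hx : ad A x = ad A y) : x = y :=
  sub_eq_zero.1 (h.ad_eq_zero (by rw [ad_sub, hx, sub_self]))

theorem Good.anti (h : Good A k) (x y : ι → R) : ad A x *ᵥ y = -(ad A y *ᵥ x) :=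
  h.ad_inj (by rw [ad_neg, h.jacR, h.jacR, neg_sub])

theorem Good.kf_inv' (h : Good A k) (x y z : ι → R) : kf A (ad A x *ᵥ y) z = -kf A y (ad A x *ᵥ z) := by
  rw [h.anti x y, kf_neg_left, h.kf_inv]

/-- **Derivations are inner.** -/
theorem Good.exists_eq_ad (h : Good A k) {E : Matrix ι ι R}
    (hE : ∀ x, ad A (E *ᵥ x) = E * ad A x - ad A x * E) : ∃ w, E = ad A w := by
  let f : (ι → R) →ₗ[R] R :=
    { toFun := fun y => Matrix.trace (E * ad A y)
      map_add' := fun x y => by rw [ad_add, Matrix.mul_add, Matrix.trace_add]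
      map_smul' := fun c x => by rw [ad_smul, Matrix.mul_smul, Matrix.trace_smul]; rfl }
  obtain ⟨w, hw⟩ := h.exists_dual f
  refine ⟨w, ext_mulVec fun j => sub_eq_zero.1 (h.nondeg fun l => ?_)⟩
  rw [kf_sub_left, h.kf_inv, hw]
  show kf A _ _ - Matrix.trace (E * ad A _) = 0
  unfold kf
  rw [hE, h.jacR, Matrix.sub_mul, Matrix.mul_sub, Matrix.trace_sub, Matrix.trace_sub, Matrix.mul_assoc, Matrix.mul_assoc,
    Matrix.trace_mul_comm (ad A (Pi.single j 1)) (E * _), Matrix.mul_assoc, sub_self]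

/-- An element with `(ad s) ^ 2 = 0` is zero. -/
theorem Good.sandwich (h : Good A k) {K : Type v} [Field K] [Algebra k K] {s : ι → K} (hs : ad A s * ad A s = 0) :
    s = 0 := by
  have h2 : (2 : K) ≠ 0 := by
    rw [← map_ofNat (algebraMap k K) 2]
    exact (map_ne_zero _).2 h.two
  refine h.nondeg fun j => ?_
  set y : ι → K := Pi.single j 1
  have h1 : ad A (ad A s *ᵥ (ad A s *ᵥ y)) = 0 := by rw [Matrix.mulVec_mulVec, hs, Matrix.zero_mulVec, ad_zero]
  rw [h.jacR, h.jacR] at h1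
  have h3 : (2 : K) • (ad A s * ad A y * ad A s) = 0 := by
    have e : (2 : K) • (ad A s * ad A y * ad A s) = (ad A s * ad A s) * ad A y + ad A y * (ad A s * ad A s) -
        (ad A s * (ad A s * ad A y - ad A y * ad A s) - (ad A s * ad A y - ad A y * ad A s) * ad A s) := by
      rw [two_smul]; noncomm_ring
    rw [e, h1, hs]; simp
  have h4 : ad A s * ad A y * ad A s = 0 := (smul_eq_zero.1 h3).resolve_left h2
  have h5 : IsNilpotent (ad A s * ad A y) := ⟨2, by rw [pow_two, ← Matrix.mul_assoc, h4, Matrix.zero_mul]⟩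
  exact (Matrix.isNilpotent_trace_of_isNilpotent h5).eq_zero

/-! ### twisted homomorphisms -/

variable (A) in
/-- `[a x, a y] = δ a [x, y]` -/
def Tw (δ : R) (a : Matrix ι ι R) : Prop := ∀ x, ad A (a *ᵥ x) * a = δ • (a * ad A x)

variable (A) in
/-- `κ (a x, a y) = δ ^ 2 κ (x, y)` -/
def Iso (δ : R) (a : Matrix ι ι R) : Prop := aᵀ * kil A R * a = (δ * δ) • kil A R

omit [Algebra k R] in
theorem tw_of_basis {δ : R} {a : Matrix ι ι R}
    (h : ∀ j, ad A (a *ᵥ Pi.single j 1) * a = δ • (a * ad A (Pi.single j 1))) : Tw A δ a := by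
  intro x
  rw [eq_sum_single x, Matrix.mulVec_sum, ad_sum, ad_sum, Finset.sum_mul, Finset.mul_sum, Finset.smul_sum]
  refine Finset.sum_congr rfl fun j _ => ?_
  rw [Matrix.mulVec_smul, ad_smul, ad_smul, Matrix.smul_mul, h, Matrix.mul_smul, smul_comm]

omit [Algebra k R] in
theorem Tw.br {δ : R} {a : Matrix ι ι R} (h : Tw A δ a) (x y : ι → R) :
    ad A (a *ᵥ x) *ᵥ (a *ᵥ y) = δ • (a *ᵥ (ad A x *ᵥ y)) := by
  rw [Matrix.mulVec_mulVec, h, Matrix.smul_mulVec, Matrix.mulVec_mulVec]

omit [Algebra k R] in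
theorem tw_one : Tw A (1 : R) 1 := fun x => by simp

omit [Algebra k R] in
theorem Tw.mul {δ δ' : R} {a a' : Matrix ι ι R} (h : Tw A δ a) (h' : Tw A δ' a') : Tw A (δ * δ') (a * a') := by
  intro x
  rw [← Matrix.mulVec_mulVec, ← Matrix.mul_assoc, h, Matrix.smul_mul, Matrix.mul_assoc, h', Matrix.mul_smul, smul_smul,
    Matrix.mul_assoc]

omit [Algebra k R] in
theorem Tw.mul1 {a a' : Matrix ι ι R} (h : Tw A 1 a) (h' : Tw A 1 a') : Tw A 1 (a * a') := by
  have := h.mul h'
  rwa [one_mul] at this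

omit [Algebra k R] in
theorem Tw.smul {δ : R} {a : Matrix ι ι R} (h : Tw A δ a) (c : R) : Tw A (c * δ) (c • a) := by
  intro x
  rw [Matrix.smul_mulVec, ad_smul, Matrix.smul_mul, Matrix.mul_smul, h, Matrix.smul_mul, smul_smul, smul_smul, smul_smul]
  congr 1
  ring

omit [Algebra k R] [Algebra k S] in
theorem Tw.map {δ : R} {a : Matrix ι ι R} (h : Tw A δ a) (f : R →+* S) : Tw A (f δ) (a.map f) := by
  refine tw_of_basis fun j => ?_
  have h1 : (ad A (a *ᵥ Pi.single j 1) * a).map f = (δ • (a * ad A (Pi.single j 1))).map f := by rw [h]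
  have e : (fun l => f ((Pi.single j 1 : ι → R) l)) = Pi.single j 1 := by
    funext l
    by_cases hl : l = j
    · subst hl; simp
    · simp [Pi.single_eq_of_ne hl]
  rw [Matrix.map_mul, ad_map, mulVec_map, e] at h1
  rw [h1]
  ext x y
  rw [Matrix.map_apply, Matrix.smul_apply, Matrix.smul_apply, smul_eq_mul, smul_eq_mul, map_mul, ← e, ← ad_map,
    ← Matrix.map_mul, Matrix.map_apply]

omit [Algebra k R] in
theorem Tw.inv {a a' : Matrix ι ι R} (h : Tw A 1 a) (ha : a * a' = 1) : Tw A 1 a' := by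
  intro x
  have ha' : a' * a = 1 := mul_eq_one_comm.1 ha
  have h1 := h (a' *ᵥ x)
  rw [Matrix.mulVec_mulVec, ha, Matrix.one_mulVec, one_smul] at h1
  rw [one_smul]
  calc ad A (a' *ᵥ x) * a' = a' * (a * ad A (a' *ᵥ x)) * a' := by rw [← Matrix.mul_assoc, ha', Matrix.one_mul]
    _ = a' * ad A x := by rw [← h1, Matrix.mul_assoc, Matrix.mul_assoc, ha, Matrix.mul_one]

omit [Algebra k R] in
theorem Tw.conj {a a' : Matrix ι ι R} (h : Tw A 1 a) (ha : a * a' = 1) (x : ι → R) :
    ad A (a *ᵥ x) = a * ad A x * a' := by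
  have h1 := h x
  rw [one_smul] at h1
  rw [← h1, Matrix.mul_assoc, ha, Matrix.mul_one]

omit [Algebra k R] in
theorem Tw.kf_same {a a' : Matrix ι ι R} (h : Tw A 1 a) (ha : a * a' = 1) (x y : ι → R) :
    kf A (a *ᵥ x) (a *ᵥ y) = kf A x y := by
  have ha' : a' * a = 1 := mul_eq_one_comm.1 ha
  unfold kf
  rw [h.conj ha, h.conj ha]
  calc Matrix.trace (a * ad A x * a' * (a * ad A y * a')) = Matrix.trace (a * (ad A x * (a' * a) * ad A y * a')) := by
        simp only [Matrix.mul_assoc]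
    _ = Matrix.trace (ad A x * ad A y) := by
        rw [Matrix.trace_mul_comm, ha', Matrix.mul_one, Matrix.mul_assoc, ha', Matrix.mul_one]

omit [Algebra k R] in
theorem iso_of_kf {δ : R} {a : Matrix ι ι R}
    (h : ∀ i j, kf A (a *ᵥ Pi.single i 1) (a *ᵥ Pi.single j 1) = δ * δ * kil A R i j) : Iso A δ a := by
  ext i j
  have := h i j
  rw [kf_mulVec, single_one_dotProduct] at this
  simpa using this

omit [Algebra k R] in
theorem kf_single (i j : ι) : kf A (Pi.single i (1 : R)) (Pi.single j 1) = kil A R i j := by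
  rw [kf_eq, single_one_dotProduct]
  simp

omit [Algebra k R] in
theorem Tw.iso {a a' : Matrix ι ι R} (h : Tw A 1 a) (ha : a * a' = 1) : Iso A 1 a :=
  iso_of_kf fun i j => by rw [h.kf_same ha, kf_single, one_mul, one_mul]

omit [Algebra k R] in
theorem Iso.mul {δ δ' : R} {a a' : Matrix ι ι R} (h : Iso A δ a) (h' : Iso A δ' a') : Iso A (δ * δ') (a * a') := by
  unfold Iso at *
  calc (a * a')ᵀ * kil A R * (a * a') = a'ᵀ * (aᵀ * kil A R * a) * a' := by
        rw [Matrix.transpose_mul]; simp only [Matrix.mul_assoc]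
    _ = _ := by
        rw [h, Matrix.mul_smul, Matrix.smul_mul, h', smul_smul]
        congr 1
        ring

omit [Algebra k R] in
theorem Iso.smul {δ : R} {a : Matrix ι ι R} (h : Iso A δ a) (c : R) : Iso A (c * δ) (c • a) := by
  unfold Iso at *
  rw [Matrix.transpose_smul, Matrix.smul_mul, Matrix.smul_mul, Matrix.mul_smul, h, smul_smul, smul_smul]
  congr 1
  ring

omit [Algebra k R] [Algebra k S] in
theorem Iso.map {δ : R} {a : Matrix ι ι R} (h : Iso A δ a) (f : R →+* S) : Iso A (f δ) (a.map f) := by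
  unfold Iso at *
  rw [← kil_map f, ← Matrix.transpose_map, ← Matrix.map_mul, ← Matrix.map_mul, h]
  ext x y
  simp

variable (A k) in
/-- the adjoint matrix for the trace form -/
noncomputable def st (a : Matrix ι ι R) : Matrix ι ι R := kin A k R * aᵀ * kil A R

theorem st_map (f : R →ₐ[k] S) (a : Matrix ι ι R) : (st A k a).map f = st A k (a.map f) := by
  unfold st
  have h1 : ∀ M N : Matrix ι ι R, (M * N).map f = M.map f * N.map f := fun M N => Matrix.map_mul (f := (f : R →+* S))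
  rw [h1, h1, kin_map, Matrix.transpose_map]
  congr 1
  exact kil_map (f : R →+* S)

theorem Good.st_mul (h : Good A k) (a b : Matrix ι ι R) : st A k (a * b) = st A k b * st A k a := by
  unfold st
  rw [Matrix.transpose_mul]
  calc kin A k R * (bᵀ * aᵀ) * kil A R = kin A k R * bᵀ * (kil A R * kin A k R) * aᵀ * kil A R := by
        rw [h.mul_kin, Matrix.mul_one, Matrix.mul_assoc (kin A k R) bᵀ]
    _ = _ := by simp only [Matrix.mul_assoc]

theorem Good.st_mul_self (h : Good A k) {δ : R} {a : Matrix ι ι R} (ha : Iso A δ a) :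
    st A k a * a = (δ * δ) • (1 : Matrix ι ι R) := by
  unfold st
  rw [Matrix.mul_assoc, Matrix.mul_assoc, ← Matrix.mul_assoc aᵀ, ha, Matrix.mul_smul, h.kin_mul]

omit [Algebra k R] in
theorem smul_cancel {δ : R} (hδ : IsRegular δ) {M N : Matrix ι ι R} (h : δ • M = δ • N) : M = N := by
  ext a b
  exact hδ.left (congrFun (congrFun h a) b)

omit [Algebra k R] in
theorem mul_comm_of_regular {δ : R} (hδ : IsRegular δ) {a b : Matrix ι ι R} (h : b * a = δ • (1 : Matrix ι ι R)) :
    a * b = δ • (1 : Matrix ι ι R) := by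
  have h1 : (a * b - δ • (1 : Matrix ι ι R)) * a = 0 := by
    rw [Matrix.sub_mul, Matrix.mul_assoc, h, Matrix.mul_smul, Matrix.smul_mul, Matrix.mul_one, Matrix.one_mul, sub_self]
  have h2 : a.det • (a * b - δ • (1 : Matrix ι ι R)) = 0 := by
    have := congrArg (· * a.adjugate) h1
    simp only [Matrix.zero_mul] at this
    rwa [Matrix.mul_assoc, Matrix.mul_adjugate, Matrix.mul_smul, Matrix.mul_one] at this
  have h3 : b.det * a.det = δ ^ Fintype.card ι := by
    rw [← Matrix.det_mul, h, Matrix.det_smul, Matrix.det_one, mul_one]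
  refine sub_eq_zero.1 (smul_cancel (hδ.pow (Fintype.card ι)) ?_)
  rw [← h3, mul_smul, h2, smul_zero, smul_zero]

theorem Good.self_mul_st (h : Good A k) {δ : R} (hδ : IsRegular δ) {a : Matrix ι ι R} (ha : Iso A δ a) :
    a * st A k a = (δ * δ) • (1 : Matrix ι ι R) := mul_comm_of_regular (hδ.mul hδ) (h.st_mul_self ha)

theorem Good.st_eq_inv (h : Good A k) {a a' : Matrix ι ι R} (ha : Tw A 1 a) (haa : a * a' = 1) : st A k a = a' := by
  have h1 := h.st_mul_self (ha.iso haa)
  rw [one_mul, one_smul] at h1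
  calc st A k a = st A k a * (a * a') := by rw [haa, Matrix.mul_one]
    _ = a' := by rw [← Matrix.mul_assoc, h1, Matrix.one_mul]

theorem Good.tw_st (h : Good A k) {δ : R} (hδ : IsRegular δ) {a : Matrix ι ι R} (ha : Iso A δ a) (ht : Tw A δ a) :
    Tw A δ (st A k a) := by
  intro x
  have h1 := h.st_mul_self ha
  have h2 := h.self_mul_st hδ ha
  have h3 := ht (st A k a *ᵥ x)
  rw [Matrix.mulVec_mulVec, h2, Matrix.smul_mulVec, Matrix.one_mulVec, ad_smul, Matrix.smul_mul] at h3
  have h4 := congrArg (fun M => st A k a * M * st A k a) h3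
  simp only [Matrix.mul_smul, Matrix.smul_mul] at h4
  rw [Matrix.mul_assoc, Matrix.mul_assoc, h2, ← Matrix.mul_assoc (st A k a) a, h1] at h4
  simp only [Matrix.mul_smul, Matrix.smul_mul, Matrix.mul_one, Matrix.one_mul, smul_smul] at h4
  refine smul_cancel (hδ.mul (hδ.mul hδ)) ?_
  rw [← h4, smul_smul]
  congr 1
  ring

/-! ### gradings -/

variable (A) in
/-- a grading -/
def Gr (d : ι → ℤ) : Prop := ∀ j a b, A j a b ≠ 0 → d a = d j + d b

/-- the shifts of the degree -/
def Sh (d : ι → ℤ) (P : ℤ → Prop) (M : Matrix ι ι R) : Prop := ∀ a b, M a b ≠ 0 → P (d a - d b)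

/-- the degrees in the support -/
def Sp (d : ι → ℤ) (P : ℤ → Prop) (x : ι → R) : Prop := ∀ a, x a ≠ 0 → P (d a)

section Grad

variable {d : ι → ℤ} {P Q T : ℤ → Prop}

omit [Algebra k R]

theorem Sh.mono {M : Matrix ι ι R} (h : Sh d P M) (hP : ∀ s, P s → Q s) : Sh d Q M := fun a b hab => hP _ (h a b hab)

theorem Sh.mul {M N : Matrix ι ι R} (h : Sh d P M) (h' : Sh d Q N) (hT : ∀ s t, P s → Q t → T (s + t)) :
    Sh d T (M * N) := by
  intro a b hab
  rw [Matrix.mul_apply] at hab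
  obtain ⟨c, -, hc⟩ := Finset.exists_ne_zero_of_sum_ne_zero hab
  have := hT _ _ (h a c (left_ne_zero_of_mul hc)) (h' c b (right_ne_zero_of_mul hc))
  rwa [sub_add_sub_cancel] at this

theorem Sh.add {M N : Matrix ι ι R} (h : Sh d P M) (h' : Sh d P N) : Sh d P (M + N) := by
  intro a b hab
  by_cases h1 : M a b = 0
  · refine h' a b fun h2 => hab ?_
    rw [Matrix.add_apply, h1, h2, add_zero]
  · exact h a b h1

theorem Sh.neg {M : Matrix ι ι R} (h : Sh d P M) : Sh d P (-M) := fun a b hab => h a b fun h1 => hab (by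
  rw [Matrix.neg_apply, h1, neg_zero])

theorem Sh.sub {M N : Matrix ι ι R} (h : Sh d P M) (h' : Sh d P N) : Sh d P (M - N) := by
  rw [sub_eq_add_neg]; exact h.add h'.neg

theorem Sh.smul {M : Matrix ι ι R} (h : Sh d P M) {T : Type*} [SMulZeroClass T R] (c : T) : Sh d P (c • M) :=
  fun a b hab => h a b fun h1 => hab (by rw [Matrix.smul_apply, h1, smul_zero])

theorem sh_diagonal (hP : P 0) (f : ι → R) : Sh d P (Matrix.diagonal f) := by
  intro a b hab
  by_cases h : a = b
  · rw [h, sub_self]; exact hP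
  · exact absurd (Matrix.diagonal_apply_ne _ h) hab

theorem sh_one (hP : P 0) : Sh d P (1 : Matrix ι ι R) := sh_diagonal hP _

theorem Sh.map {M : Matrix ι ι R} (h : Sh d P M) {F : Type*} [FunLike F R S] [ZeroHomClass F R S] (f : F) :
    Sh d P (M.map f) := fun a b hab => h a b fun h1 => hab (by rw [Matrix.map_apply, h1, map_zero])

theorem Sh.eq_zero {M : Matrix ι ι R} (h : Sh d P M) (hP : ∀ a b, ¬ P (d a - d b)) : M = 0 := by
  ext a b
  by_contra hab
  exact hP a b (h a b hab)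

theorem Gr.sh (h : Gr A d) {x : ι → R} (hx : Sp d P x) : Sh d P (ad A x) := by
  intro a b hab
  rw [ad_apply] at hab
  obtain ⟨c, -, hc⟩ := Finset.exists_ne_zero_of_sum_ne_zero hab
  have h1 : A c a b ≠ 0 := fun h0 => right_ne_zero_of_mul hc (by rw [h0, Int.cast_zero])
  have h2 := hx c (left_ne_zero_of_mul hc)
  rw [h c a b h1, add_sub_cancel_right]
  exact h2

theorem Sh.sp {M : Matrix ι ι R} (h : Sh d P M) {x : ι → R} (hx : Sp d Q x) (hT : ∀ s t, P s → Q t → T (s + t)) :
    Sp d T (M *ᵥ x) := by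
  intro a ha
  obtain ⟨c, -, hc⟩ := Finset.exists_ne_zero_of_sum_ne_zero (show ∑ c, M a c * x c ≠ 0 from ha)
  have := hT _ _ (h a c (left_ne_zero_of_mul hc)) (hx c (right_ne_zero_of_mul hc))
  rwa [sub_add_cancel] at this

theorem Gr.neg (h : Gr A d) : Gr A (fun a => -d a) := fun j a b hab => by
  show -d a = -d j + -d b
  rw [h j a b hab]; ring

theorem Gr.kil_ne (h : Gr A d) {a b : ι} (hab : kil A R a b ≠ 0) : d a + d b = 0 := by
  obtain ⟨c, -, hc⟩ := Finset.exists_ne_zero_of_sum_ne_zero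
    (show ∑ c, ((A a).map (Int.castRingHom R) * (A b).map (Int.castRingHom R)) c c ≠ 0 from hab)
  rw [Matrix.mul_apply] at hc
  obtain ⟨e, -, he⟩ := Finset.exists_ne_zero_of_sum_ne_zero hc
  have h1 : A a c e ≠ 0 := fun h0 => left_ne_zero_of_mul he (by rw [Matrix.map_apply, h0, map_zero])
  have h2 : A b e c ≠ 0 := fun h0 => right_ne_zero_of_mul he (by rw [Matrix.map_apply, h0, map_zero])
  have h3 := h _ _ _ h1
  have h4 := h _ _ _ h2
  omega

/-- diagonal matrices given by a multiplicative function of the degree -/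
theorem Gr.tw_diagonal (h : Gr A d) {δ : R} {f : ι → R}
    (hf : ∀ a j b, d a = d j + d b → f j * f b = δ * f a) : Tw A δ (Matrix.diagonal f) := by
  intro x
  ext a b
  rw [Matrix.mul_diagonal, Matrix.smul_apply, Matrix.diagonal_mul, ad_apply, ad_apply, Finset.sum_mul, Finset.mul_sum,
    smul_eq_mul, Finset.mul_sum]
  refine Finset.sum_congr rfl fun j _ => ?_
  rw [Matrix.mulVec_diagonal]
  by_cases h0 : A j a b = 0
  · rw [h0]; simp
  · linear_combination (x j * (A j a b : R)) * hf a j b (h j a b h0)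

theorem Gr.diagonal_kil (h : Gr A d) {f g : ι → R} (hf : ∀ a b, d a + d b = 0 → f a = g b) :
    Matrix.diagonal f * kil A R = kil A R * Matrix.diagonal g := by
  ext a b
  rw [Matrix.diagonal_mul, Matrix.mul_diagonal]
  by_cases h0 : kil A R a b = 0
  · rw [h0, mul_zero, zero_mul]
  · rw [hf a b (h.kil_ne h0), mul_comm]

end Grad

theorem Good.st_diagonal (hG : Good A k) {d : ι → ℤ} (h : Gr A d) {f g : ι → R} (hf : ∀ a b, d a + d b = 0 → f a = g b) :
    st A k (Matrix.diagonal f) = Matrix.diagonal g := by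
  unfold st
  rw [Matrix.diagonal_transpose, Matrix.mul_assoc, h.diagonal_kil hf, ← Matrix.mul_assoc, hG.kin_mul, Matrix.one_mul]

/-! ### exponentials -/

variable (k) in
/-- the exponential of a matrix with cube zero -/
noncomputable def ex (N : Matrix ι ι R) : Matrix ι ι R := 1 + N + (2⁻¹ : k) • (N * N)

theorem ex_zero : ex k (0 : Matrix ι ι R) = 1 := by simp [ex]

theorem ex_map (f : R →ₐ[k] S) (N : Matrix ι ι R) : (ex k N).map f = ex k (N.map f) := by
  have h1 : (N * N).map f = N.map f * N.map f := Matrix.map_mul (f := (f : R →+* S))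
  unfold ex
  rw [← h1]
  ext a b
  rw [Matrix.map_apply, Matrix.add_apply, Matrix.add_apply, Matrix.add_apply, Matrix.add_apply, Matrix.smul_apply,
    Matrix.smul_apply, map_add, map_add, map_smul, Matrix.map_apply, Matrix.map_apply, Matrix.one_apply, Matrix.one_apply,
    apply_ite f, map_one, map_zero]

theorem ex_mul (h2 : (2 : k) ≠ 0) {N M : Matrix ι ι R} (hc : N * M = M * N) (h1 : N * N * M = 0) (h3 : N * M * M = 0) :
    ex k N * ex k M = ex k (N + M) := by
  have e : (2⁻¹ : k) • (N * M) + (2⁻¹ : k) • (N * M) = N * M := by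
    rw [← add_smul, ← two_mul, mul_inv_cancel₀ h2, one_smul]
  have h4 : N * N * (M * M) = 0 := by rw [← Matrix.mul_assoc, h1, Matrix.zero_mul]
  unfold ex
  simp only [Matrix.add_mul, Matrix.mul_add, Matrix.smul_mul, Matrix.mul_smul, Matrix.one_mul, Matrix.mul_one, smul_add,
    h1, h4, ← hc, smul_zero]
  rw [← Matrix.mul_assoc N M M, h3, smul_zero]
  calc _ = 1 + N + (2⁻¹ : k) • (N * N) + M + (N * M) + (2⁻¹ : k) • (M * M) := by abel
    _ = 1 + N + (2⁻¹ : k) • (N * N) + M + ((2⁻¹ : k) • (N * M) + (2⁻¹ : k) • (N * M)) + (2⁻¹ : k) • (M * M) := by rw [e]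
    _ = _ := by abel

theorem ex_mul_neg (h2 : (2 : k) ≠ 0) {N : Matrix ι ι R} (h1 : N * N * N = 0) : ex k N * ex k (-N) = 1 := by
  rw [ex_mul h2 (by simp) (by rw [Matrix.mul_neg, h1, neg_zero]) (by simp [h1]), add_neg_cancel, ex_zero]

theorem smul_cancel_k {c : k} (hc : c ≠ 0) {M : Matrix ι ι R} (h : c • M = 0) : M = 0 := by
  have := congrArg (fun X => c⁻¹ • X) h
  simpa [smul_smul, inv_mul_cancel₀ hc] using this

theorem Good.tw_ex (h : Good A k) {x : ι → R} (h3 : ad A x * ad A x * ad A x = 0) : Tw A 1 (ex k (ad A x)) := by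
  intro y
  set N := ad A x with hN
  set Y := ad A y with hY
  have e1 : ad A (N *ᵥ y) = N * Y - Y * N := h.jacR x y
  have e2 : ad A (N *ᵥ (N *ᵥ y)) = N * (N * Y - Y * N) - (N * Y - Y * N) * N := by rw [← e1]; exact h.jacR x _
  have e3 : ad A (N *ᵥ (N *ᵥ (N *ᵥ y))) = N * (N * (N * Y - Y * N) - (N * Y - Y * N) * N) -
      (N * (N * Y - Y * N) - (N * Y - Y * N) * N) * N := by rw [← e2]; exact h.jacR x _
  rw [Matrix.mulVec_mulVec, Matrix.mulVec_mulVec, h3, Matrix.zero_mulVec, ad_zero] at e3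
  have r1 : N * N * Y * N = N * Y * N * N := by
    refine sub_eq_zero.1 (smul_cancel_k h.three ?_)
    have e : (3 : k) • (N * N * Y * N - N * Y * N * N) = (N * N * N) * Y - Y * (N * N * N) -
        (N * (N * (N * Y - Y * N) - (N * Y - Y * N) * N) - (N * (N * Y - Y * N) - (N * Y - Y * N) * N) * N) := by
      rw [show (3 : k) = 1 + 1 + 1 by norm_num, add_smul, add_smul, one_smul]; noncomm_ring
    rw [e, ← e3, h3]; simp
  have r2 : N * N * Y * N * N = 0 := by
    rw [r1, Matrix.mul_assoc (N * Y), Matrix.mul_assoc (N * Y), h3, Matrix.mul_zero]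
  have r3 : Y * N * N * N = 0 := by rw [Matrix.mul_assoc Y, Matrix.mul_assoc Y, h3, Matrix.mul_zero]
  have r4 : N * Y * N * N * N = 0 := by
    rw [Matrix.mul_assoc (N * Y), Matrix.mul_assoc (N * Y), h3, Matrix.mul_zero]
  have e4 : ad A (ex k N *ᵥ y) = Y + (N * Y - Y * N) + (2⁻¹ : k) • (N * (N * Y - Y * N) - (N * Y - Y * N) * N) := by
    unfold ex
    rw [Matrix.add_mulVec, Matrix.add_mulVec, Matrix.one_mulVec, Matrix.smul_mulVec, ad_add, ad_add, e1, ← e2,
      ← Matrix.mulVec_mulVec, ← algebraMap_smul R (2⁻¹ : k), ad_smul, algebraMap_smul]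
  rw [e4, one_smul]
  refine sub_eq_zero.1 (smul_cancel_k (mul_ne_zero h.two h.two) ?_)
  have t : ∀ M : Matrix ι ι R, (2⁻¹ : k) • M + (2⁻¹ : k) • M = M := fun M => by
    rw [← add_smul, ← two_mul, mul_inv_cancel₀ h.two, one_smul]
  have f1 : (2 : k) • ex k N = 1 + 1 + N + N + N * N := by
    unfold ex
    rw [two_smul]
    calc _ = 1 + 1 + N + N + ((2⁻¹ : k) • (N * N) + (2⁻¹ : k) • (N * N)) := by abel
      _ = _ := by rw [t]
  have f2 : (2 : k) • (Y + (N * Y - Y * N) + (2⁻¹ : k) • (N * (N * Y - Y * N) - (N * Y - Y * N) * N)) =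
      Y + Y + (N * Y - Y * N) + (N * Y - Y * N) + (N * (N * Y - Y * N) - (N * Y - Y * N) * N) := by
    rw [two_smul]
    calc _ = Y + Y + (N * Y - Y * N) + (N * Y - Y * N) + ((2⁻¹ : k) • (N * (N * Y - Y * N) - (N * Y - Y * N) * N) +
          (2⁻¹ : k) • (N * (N * Y - Y * N) - (N * Y - Y * N) * N)) := by abel
      _ = _ := by rw [t]
  rw [smul_sub, ← smul_mul_smul_comm, f1, f2, mul_smul, ← Matrix.smul_mul, f1, two_smul]
  have e : (Y + Y + (N * Y - Y * N) + (N * Y - Y * N) + (N * (N * Y - Y * N) - (N * Y - Y * N) * N)) *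
      (1 + 1 + N + N + N * N) - ((1 + 1 + N + N + N * N) * Y + (1 + 1 + N + N + N * N) * Y) =
      (N * N * Y * N - N * Y * N * N) + (N * N * Y * N - N * Y * N * N) + N * N * Y * N * N -
        (N * Y * N * N * N + N * Y * N * N * N) + Y * N * N * N * N := by noncomm_ring
  rw [e, r2, r3, r4, r1]
  simp

theorem Sh.exp {d : ι → ℤ} {P : ℤ → Prop} {N : Matrix ι ι R} (h : Sh d P N) (h0 : P 0) (hP : ∀ s t, P s → P t → P (s + t)) :
    Sh d P (ex k N) := ((sh_one h0).add h).add ((h.mul h hP).smul _)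

end Main

end Cfsg.Agent.E8A.Reg5
end

-- part: E8A/Reg5/Loc
section
/-!
# Local analysis at a special point (helper42)

* `Cg m e f` : the exponents `n` of `f` satisfy `m ∣ n + e`;
* `Loc A d m δ M` : the local data; `lo d m M` : the matrix of the lowest terms;
* `Loc.glue` : if the lowest terms define the same filtration, then `M' x M^*` is divisible by `X ^ (2 m)`;
* `loc_rigid`.
-/

set_option autoImplicit false
set_option linter.unusedSectionVars false

namespace Cfsg.Agent.E8A.Reg5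

open Matrix Polynomial

universe u v w

variable {ι : Type} [Fintype ι] [DecidableEq ι] {A : ι → Matrix ι ι ℤ}
variable {k : Type u} [Field k] {R : Type v} [CommRing R] [Algebra k R]

/-! ### congruences for the exponents -/

/-- the exponents satisfy a congruence -/
def Cg (m : ℕ) (e : ℤ) (f : R[X]) : Prop := ∀ n, f.coeff n ≠ 0 → (m : ℤ) ∣ (n : ℤ) + e

section Cg

omit [Algebra k R]

variable {m : ℕ}

theorem Cg.add {e : ℤ} {f g : R[X]} (hf : Cg m e f) (hg : Cg m e g) : Cg m e (f + g) := by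
  intro n h
  by_cases h1 : f.coeff n = 0
  · refine hg n fun h2 => h ?_
    rw [coeff_add, h1, h2, add_zero]
  · exact hf n h1

theorem Cg.sum {T : Type*} {e : ℤ} (s : Finset T) {f : T → R[X]} (hf : ∀ x ∈ s, Cg m e (f x)) : Cg m e (∑ x ∈ s, f x) := by
  intro n h
  rw [finsetSum_coeff] at h
  obtain ⟨c, hc, h1⟩ := Finset.exists_ne_zero_of_sum_ne_zero h
  exact hf c hc n h1

theorem Cg.mul {e e' : ℤ} {f g : R[X]} (hf : Cg m e f) (hg : Cg m e' g) : Cg m (e + e') (f * g) := by
  intro n h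
  rw [coeff_mul] at h
  obtain ⟨c, hc, h1⟩ := Finset.exists_ne_zero_of_sum_ne_zero h
  have h2 := Finset.HasAntidiagonal.mem_antidiagonal.1 hc
  have h3 := dvd_add (hf _ (left_ne_zero_of_mul h1)) (hg _ (right_ne_zero_of_mul h1))
  rw [← h2, Nat.cast_add, show (c.1 : ℤ) + c.2 + (e + e') = c.1 + e + (c.2 + e') by ring]
  exact h3

theorem Cg.mul0 {f g : R[X]} (hf : Cg m 0 f) (hg : Cg m 0 g) : Cg m 0 (f * g) := by
  have := hf.mul hg
  rwa [add_zero] at this

theorem cg_C (a : R) : Cg m 0 (C a) := by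
  intro n h
  rw [coeff_C] at h
  by_cases hn : n = 0
  · rw [hn]; simp
  · exact absurd (if_neg hn) h

theorem coeff_mul_m (hm : 0 < m) {f : R[X]} (hf : Cg m 0 f) (g : R[X]) :
    (f * g).coeff m = f.coeff 0 * g.coeff m + f.coeff m * g.coeff 0 := by
  rw [coeff_mul]
  refine Finset.sum_eq_add_of_mem (0, m) (m, 0) (by simp) (by simp) (fun h => by simp at h; omega) ?_
  intro c hc hne
  have h2 := Finset.HasAntidiagonal.mem_antidiagonal.1 hc
  by_contra h1
  have h3 := hf _ (left_ne_zero_of_mul h1)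
  rw [add_zero, Int.natCast_dvd_natCast] at h3
  rcases Nat.eq_zero_or_pos c.1 with h4 | h4
  · exact hne.1 (Prod.ext h4 (by show c.2 = m; omega))
  · have := Nat.le_of_dvd h4 h3
    exact hne.2 (Prod.ext (by show c.1 = m; omega) (by show c.2 = 0; omega))

/-- matrices with entries in `R[X ^ m]` -/
def CgM (m : ℕ) (M : Matrix ι ι R[X]) : Prop := ∀ a b, Cg m 0 (M a b)

theorem CgM.mul {M N : Matrix ι ι R[X]} (hM : CgM m M) (hN : CgM m N) : CgM m (M * N) := fun a b => by
  rw [Matrix.mul_apply]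
  exact Cg.sum _ fun c _ => (hM a c).mul0 (hN c b)

theorem cgM_map (M : Matrix ι ι R) : CgM m (M.map C) := fun _ _ => cg_C _

theorem CgM.transpose {M : Matrix ι ι R[X]} (hM : CgM m M) : CgM m Mᵀ := fun a b => hM b a

/-- the matrix of the coefficients of `X ^ n` -/
def cf (n : ℕ) (M : Matrix ι ι R[X]) : Matrix ι ι R := Matrix.of fun a b => (M a b).coeff n

theorem cf_apply (n : ℕ) (M : Matrix ι ι R[X]) (a b : ι) : cf n M a b = (M a b).coeff n := rfl

theorem cf_zero (M : Matrix ι ι R[X]) : cf 0 M = M.map (constantCoeff : R[X] →+* R) := rfl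

theorem cf_zero_mul (M N : Matrix ι ι R[X]) : cf 0 (M * N) = cf 0 M * cf 0 N := by
  rw [cf_zero, cf_zero, cf_zero, Matrix.map_mul]

theorem cf_zero_C (M : Matrix ι ι R) : cf 0 (M.map C) = M := by
  ext a b
  rw [cf_apply, Matrix.map_apply, coeff_C_zero]

theorem cf_mul_m (hm : 0 < m) {M : Matrix ι ι R[X]} (hM : CgM m M) (N : Matrix ι ι R[X]) :
    cf m (M * N) = cf 0 M * cf m N + cf m M * cf 0 N := by
  ext a b
  rw [cf_apply, Matrix.mul_apply, finsetSum_coeff, Matrix.add_apply, Matrix.mul_apply, Matrix.mul_apply,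
    ← Finset.sum_add_distrib]
  exact Finset.sum_congr rfl fun c _ => coeff_mul_m hm (hM a c) (N c b)

theorem cf_mul_C (n : ℕ) (M : Matrix ι ι R[X]) (N : Matrix ι ι R) : cf n (M * N.map C) = cf n M * N := by
  ext a b
  rw [cf_apply, Matrix.mul_apply, finsetSum_coeff, Matrix.mul_apply]
  exact Finset.sum_congr rfl fun c _ => coeff_mul_C _ _ _

theorem cf_smul_m (hm : 0 < m) {f : R[X]} (hf : Cg m 0 f) (M : Matrix ι ι R[X]) :
    cf m (f • M) = f.coeff 0 • cf m M + f.coeff m • cf 0 M := by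
  ext a b
  exact coeff_mul_m hm hf (M a b)

theorem cf_ad (n : ℕ) (M : Matrix ι ι R[X]) (y : ι → R) :
    cf n (ad A (M *ᵥ fun j => C (y j))) = ad A (cf n M *ᵥ y) := by
  ext a b
  rw [cf_apply, ad_apply, ad_apply, finsetSum_coeff]
  refine Finset.sum_congr rfl fun j _ => ?_
  rw [← eq_intCast (C.comp (Int.castRingHom R)), RingHom.comp_apply, coeff_mul_C]
  congr 1
  show (∑ c, M j c * C (y c)).coeff n = ∑ c, cf n M j c * y c
  rw [finsetSum_coeff]
  exact Finset.sum_congr rfl fun c _ => coeff_mul_C _ _ _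

theorem CgM.ad {M : Matrix ι ι R[X]} (hM : CgM m M) (y : ι → R) : CgM m (ad A (M *ᵥ fun j => C (y j))) := by
  intro a b
  rw [ad_apply]
  refine Cg.sum _ fun j _ => Cg.mul0 ?_ ?_
  · exact Cg.sum _ fun c _ => (hM j c).mul0 (cg_C _)
  · rw [← eq_intCast (C.comp (Int.castRingHom R)), RingHom.comp_apply]
    exact cg_C _

end Cg

theorem kin_C : kin A k R[X] = (kin A k R).map C := by
  ext a b
  rfl

theorem CgM.st {m : ℕ} {M : Matrix ι ι R[X]} (hM : CgM m M) : CgM m (st A k M) := by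
  unfold Reg5.st
  rw [kin_C, ← kil_map (C : R →+* R[X])]
  exact ((cgM_map _).mul hM.transpose).mul (cgM_map _)

theorem cf_zero_st (M : Matrix ι ι R[X]) : cf 0 (st A k M) = st A k (cf 0 M) := by
  unfold st
  rw [cf_zero_mul, cf_zero_mul, kin_C, ← kil_map (C : R →+* R[X]), cf_zero_C, cf_zero_C]
  rfl

theorem st_smul (c : R) (M : Matrix ι ι R) : st A k (c • M) = c • st A k M := by
  unfold st
  rw [Matrix.transpose_smul, Matrix.mul_smul, Matrix.smul_mul]

/-! ### local data -/

/-- a grading with degrees between `-m` and `m` -/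
structure GrB (A : ι → Matrix ι ι ℤ) (d : ι → ℤ) (m : ℕ) : Prop where
  gr : Gr A d
  pos : 0 < m
  lb : ∀ a, -(m : ℤ) ≤ d a
  ub : ∀ a, d a ≤ m

/-- the exponent of the lattice -/
def xp (d : ι → ℤ) (m : ℕ) (a : ι) : ℕ := ((m : ℤ) - d a).toNat

/-- the dual exponent -/
def xq (d : ι → ℤ) (m : ℕ) (a : ι) : ℕ := ((m : ℤ) + d a).toNat

variable {d : ι → ℤ} {m : ℕ}

theorem GrB.xp_cast (h : GrB A d m) (a : ι) : (xp d m a : ℤ) = m - d a := Int.toNat_of_nonneg (sub_nonneg.2 (h.ub a))

theorem GrB.xq_cast (h : GrB A d m) (a : ι) : (xq d m a : ℤ) = m + d a :=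
  Int.toNat_of_nonneg (by have := h.lb a; omega)

omit [Algebra k R] in
theorem GrB.tw_pow (h : GrB A d m) (t : R) : Tw A (t ^ m) (Matrix.diagonal fun a => t ^ xp d m a) :=
  h.gr.tw_diagonal fun a j b hab => by
    rw [← pow_add, ← pow_add]
    congr 1
    have h1 := h.xp_cast a
    have h2 := h.xp_cast j
    have h3 := h.xp_cast b
    omega

omit [Algebra k R] in
theorem GrB.xp_eq (h : GrB A d m) {a b : ι} (hab : d a + d b = 0) : xp d m a = xq d m b := by
  have h1 := h.xp_cast a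
  have h2 := h.xq_cast b
  omega

omit [Algebra k R] in
theorem GrB.xq_add (h : GrB A d m) (a : ι) : xq d m a + xp d m a = m + m := by
  have h1 := h.xp_cast a
  have h2 := h.xq_cast a
  omega

omit [Algebra k R] in
theorem GrB.diag_mul (h : GrB A d m) (t : R) : (Matrix.diagonal fun a => t ^ xq d m a) *
    (Matrix.diagonal fun a => t ^ xp d m a) = (t ^ m * t ^ m) • (1 : Matrix ι ι R) := by
  rw [Matrix.diagonal_mul_diagonal, Matrix.smul_one_eq_diagonal]
  congr 1
  funext a
  rw [← pow_add, ← pow_add, h.xq_add]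

omit [Algebra k R] in
theorem GrB.iso_pow (h : GrB A d m) (t : R) : Iso A (t ^ m) (Matrix.diagonal fun a => t ^ xp d m a) := by
  unfold Iso
  rw [Matrix.diagonal_transpose, h.gr.diagonal_kil (g := fun a => t ^ xq d m a) (fun a b hab => by rw [h.xp_eq hab]),
    Matrix.mul_assoc, h.diag_mul, Matrix.mul_smul, Matrix.mul_one]

/-- the local data -/
structure Loc (A : ι → Matrix ι ι ℤ) (d : ι → ℤ) (m : ℕ) (δ : R[X]) (M : Matrix ι ι R[X]) : Prop where
  cg : ∀ a b, Cg m (d a) (M a b)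
  dvd : ∀ a b, X ^ xp d m a ∣ M a b
  tw : Tw A (X ^ m * δ) M
  iso : Iso A (X ^ m * δ) M

/-- the lowest terms -/
def lo (d : ι → ℤ) (m : ℕ) (M : Matrix ι ι R[X]) : Matrix ι ι R := Matrix.of fun a b => (M a b).coeff (xp d m a)

omit [Algebra k R] in
theorem Loc.quot (h : GrB A d m) {δ : R[X]} {M : Matrix ι ι R[X]} (hM : Loc A d m δ M) :
    ∃ B : Matrix ι ι R[X], M = (Matrix.diagonal fun a => X ^ xp d m a) * B ∧ CgM m B ∧ Tw A δ B ∧ Iso A δ B ∧
      cf 0 B = lo d m M := by
  choose B hB using hM.dvd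
  have hX : IsRegular ((X : R[X]) ^ m) := isRegular_X_pow m
  have e : M = (Matrix.diagonal fun a => X ^ xp d m a) * Matrix.of B := by
    ext1 a b
    rw [Matrix.diagonal_mul, hB]
    rfl
  have hc : ∀ a b n, (B a b).coeff n = (M a b).coeff (n + xp d m a) := fun a b n => by rw [hB, coeff_X_pow_mul]
  refine ⟨Matrix.of B, e, ?_, ?_, ?_, ?_⟩
  · intro a b n hn
    have h1 := hM.cg a b (n + xp d m a) (by rw [← hc]; exact hn)
    rw [Nat.cast_add, h.xp_cast] at h1
    have h2 : (n : ℤ) + 0 = ((n : ℤ) + (m - d a) + d a) - m := by ring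
    rw [h2]
    exact dvd_sub h1 (dvd_refl _)
  · intro x
    have h1 := hM.tw x
    rw [e, ← Matrix.mulVec_mulVec, ← Matrix.mul_assoc, h.tw_pow, Matrix.smul_mul] at h1
    have h2 := congrArg (fun N => (Matrix.diagonal fun a => (X : R[X]) ^ xq d m a) * N) h1
    simp only [Matrix.mul_smul, ← Matrix.mul_assoc, h.diag_mul, Matrix.smul_mul, Matrix.one_mul, smul_smul] at h2
    refine smul_cancel (hX.mul (hX.mul hX)) ?_
    rw [h2, smul_smul]
    congr 1
    ring
  · have h1 := hM.iso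
    have h2 := h.iso_pow (X : R[X])
    unfold Iso at h1 h2 ⊢
    rw [e, Matrix.transpose_mul] at h1
    refine smul_cancel (hX.mul hX) ?_
    calc (X ^ m * X ^ m : R[X]) • ((Matrix.of B)ᵀ * kil A R[X] * Matrix.of B)
        = (Matrix.of B)ᵀ * ((X ^ m * X ^ m : R[X]) • kil A R[X]) * Matrix.of B := by
          rw [Matrix.mul_smul, Matrix.smul_mul]
      _ = _ := by
          rw [← h2, smul_smul, show (X ^ m * X ^ m * (δ * δ) : R[X]) = X ^ m * δ * (X ^ m * δ) by ring, ← h1]
          simp only [Matrix.mul_assoc]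
  · ext a b
    rw [cf_apply, Matrix.of_apply, hc, zero_add]
    rfl

omit [Algebra k R] in
theorem Loc.tw_lo (h : GrB A d m) {δ : R[X]} {M : Matrix ι ι R[X]} (hM : Loc A d m δ M) :
    Tw A (δ.coeff 0) (lo d m M) ∧ Iso A (δ.coeff 0) (lo d m M) := by
  obtain ⟨B, -, -, h1, h2, h3⟩ := hM.quot h
  rw [← h3, cf_zero]
  exact ⟨h1.map (constantCoeff : R[X] →+* R), h2.map (constantCoeff : R[X] →+* R)⟩

omit [Algebra k R] in
theorem regular_of_coeff {δ : R[X]} (h : IsUnit (δ.coeff 0)) : IsRegular δ :=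
  isRegular_iff_mem_nonZeroDivisors.2 (mem_nonzeroDivisors_of_coeff_mem 0 h.mem_nonZeroDivisors)

/-- **Gluing, local part.** -/
theorem Loc.glue (hG : Good A k) (h : GrB A d m) {δ : R[X]} (hδ : Cg m 0 δ) (hu : IsUnit (δ.coeff 0))
    {M M' : Matrix ι ι R[X]} (hM : Loc A d m δ M) (hM' : Loc A d m δ M') {x x' : Matrix ι ι R} (hx : Tw A 1 x)
    (hxx : x * x' = 1) (hq : Sh d (· ≤ 0) (lo d m M' * x * st A k (lo d m M))) (a b : ι) :
    X ^ (m + m) ∣ (M' * x.map C * st A k M) a b := by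
  obtain ⟨B, e, c1, t1, i1, l1⟩ := hM.quot h
  obtain ⟨B', e', c2, t2, i2, l2⟩ := hM'.quot h
  obtain ⟨-, j1⟩ := hM.tw_lo h
  obtain ⟨-, j2⟩ := hM'.tw_lo h
  have hreg := regular_of_coeff hu
  set E := B' * x.map C * st A k B with hE
  have hEc : CgM m E := (c2.mul (cgM_map x)).mul c1.st
  have hx1 : Tw A 1 (x.map (C : R →+* R[X])) := by
    have := hx.map (C : R →+* R[X])
    rwa [map_one] at this
  have hEt : Tw A (δ * δ) E := by
    have := (t2.mul hx1).mul (hG.tw_st hreg i1 t1)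
    rwa [mul_one] at this
  have hE0 : cf 0 E = lo d m M' * x * st A k (lo d m M) := by
    rw [hE, cf_zero_mul, cf_zero_mul, cf_zero_C, cf_zero_st, l1, l2]
  have hEt0 : Tw A (δ.coeff 0 * δ.coeff 0) (cf 0 E) := by
    have := hEt.map (constantCoeff : R[X] →+* R)
    rwa [map_mul] at this
  obtain ⟨c, hc⟩ := hu.exists_left_inv
  set ε := δ.coeff 0 * δ.coeff 0 with hε
  have hcε : c * c * ε = 1 := by
    rw [hε]; linear_combination (c * δ.coeff 0 + 1) * hc
  set q' : Matrix ι ι R := (c * c) • (lo d m M * x' * st A k (lo d m M')) with hq'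
  have hq1 : cf 0 E * q' = ε • (1 : Matrix ι ι R) := by
    rw [hE0, hq', Matrix.mul_smul]
    calc (c * c) • (lo d m M' * x * st A k (lo d m M) * (lo d m M * x' * st A k (lo d m M')))
        = (c * c) • (lo d m M' * (x * (st A k (lo d m M) * lo d m M) * x') * st A k (lo d m M')) := by
          simp only [Matrix.mul_assoc]
      _ = _ := by
          rw [hG.st_mul_self j1, Matrix.mul_smul, Matrix.smul_mul, Matrix.mul_one, hxx, Matrix.mul_smul, Matrix.smul_mul,
            Matrix.mul_one, hG.self_mul_st hu.isRegular j2, smul_smul, smul_smul, ← hε, hcε, one_mul]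
  clear_value q'
  have hεr : IsRegular ε := hu.isRegular.mul hu.isRegular
  have hq2 : q' * cf 0 E = ε • (1 : Matrix ι ι R) := mul_comm_of_regular hεr hq1
  -- the relation in degree `m`
  have hrel : ∀ y : ι → R, ad A (cf 0 E *ᵥ y) * cf m E + ad A (cf m E *ᵥ y) * cf 0 E =
      ε • (cf m E * ad A y) + (δ * δ).coeff m • (cf 0 E * ad A y) := by
    intro y
    have h1 := congrArg (cf m) (hEt fun j => C (y j))
    rw [cf_mul_m h.pos (hEc.ad y), cf_ad, cf_ad, ← ad_map (C : R →+* R[X]),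
      cf_smul_m h.pos (hδ.mul0 hδ), cf_mul_C, cf_mul_C, mul_coeff_zero] at h1
    exact h1
  set μ := (δ * δ).coeff m with hμ
  have hder : ∀ y : ι → R, ad A ((cf m E * q' - (ε * μ * (c * c)) • (1 : Matrix ι ι R)) *ᵥ y) =
      (cf m E * q' - (ε * μ * (c * c)) • (1 : Matrix ι ι R)) * ad A y -
        ad A y * (cf m E * q' - (ε * μ * (c * c)) • (1 : Matrix ι ι R)) := by
    intro y
    have h1 := congrArg (· * q') (hrel (q' *ᵥ y))
    have h2 := hEt0 (q' *ᵥ y)
    rw [Matrix.mulVec_mulVec, hq1, Matrix.smul_mulVec, Matrix.one_mulVec, ad_smul, Matrix.smul_mul] at h2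
    have h3 : cf 0 E * ad A (q' *ᵥ y) = ad A y * cf 0 E := (smul_cancel hεr h2).symm
    have h4 : ad A (q' *ᵥ y) * q' = q' * ad A y := by
      refine smul_cancel hεr ?_
      calc ε • (ad A (q' *ᵥ y) * q') = q' * cf 0 E * ad A (q' *ᵥ y) * q' := by
            rw [hq2, Matrix.smul_mul, Matrix.smul_mul, Matrix.one_mul]
        _ = q' * ad A y * (cf 0 E * q') := by rw [Matrix.mul_assoc q', h3]; simp only [Matrix.mul_assoc]
        _ = _ := by rw [hq1, Matrix.mul_smul, Matrix.mul_one]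
    simp only [Matrix.add_mul, Matrix.smul_mul, Matrix.mul_assoc] at h1
    rw [Matrix.mulVec_mulVec, Matrix.mulVec_mulVec, hq1, h4, Matrix.smul_mulVec, Matrix.one_mulVec, ad_smul,
      Matrix.smul_mul, Matrix.mul_smul, Matrix.mul_one, ← Matrix.mul_assoc (cf 0 E), hq1, Matrix.smul_mul,
      Matrix.one_mul] at h1
    rw [Matrix.sub_mulVec, Matrix.smul_mulVec, Matrix.one_mulVec, ad_sub, ad_smul, Matrix.sub_mul, Matrix.mul_sub,
      Matrix.smul_mul, Matrix.mul_smul, Matrix.one_mul, Matrix.mul_one]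
    have h5 : ε * μ * (c * c) = μ := by linear_combination μ * hcε
    rw [h5]
    refine smul_cancel hεr ?_
    rw [smul_sub, smul_sub, smul_sub, smul_sub, Matrix.mul_assoc, smul_comm ε μ, eq_sub_of_add_eq' h1]
    abel
  obtain ⟨w, hw⟩ := hG.exists_eq_ad hder
  have hE1 : Sh d (· ≤ (m : ℤ)) (cf m E) := by
    have h1 : cf m E = (c * c) • ((ad A w + (ε * μ * (c * c)) • (1 : Matrix ι ι R)) * cf 0 E) := by
      rw [← hw, sub_add_cancel, Matrix.mul_assoc, hq2, Matrix.mul_smul, Matrix.mul_one, smul_smul, hcε, one_smul]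
    rw [h1]
    refine Sh.smul (Sh.mul (P := (· ≤ (m : ℤ))) (Q := (· ≤ 0)) (Sh.add ?_ ?_) (by rw [hE0]; exact hq) ?_) _
    · exact h.gr.sh fun a _ => h.ub a
    · exact (sh_one (P := (· ≤ (m : ℤ))) (Int.natCast_nonneg m)).smul _
    · intro s t hs ht
      show s + t ≤ m
      omega
  have hfin : M' * x.map C * st A k M =
      (Matrix.diagonal fun a => X ^ xp d m a) * E * (Matrix.diagonal fun a => X ^ xq d m a) := by
    rw [e', e, hG.st_mul, hG.st_diagonal h.gr (g := fun a => (X : R[X]) ^ xq d m a) (fun a b hab => by rw [h.xp_eq hab]),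
      hE]
    simp only [Matrix.mul_assoc]
  rw [hfin, Matrix.mul_diagonal, Matrix.diagonal_mul, mul_right_comm, ← pow_add, X_pow_dvd_iff]
  intro n hn
  rw [coeff_X_pow_mul']
  split_ifs with hs
  · by_contra h0
    have h1 := hEc a b _ h0
    rw [add_zero, Int.natCast_dvd_natCast] at h1
    have h2 := h.xp_cast a
    have h3 := h.xq_cast b
    have h4 := h.ub a
    have h5 := h.lb b
    obtain ⟨t, ht⟩ := h1
    rcases t with _ | _ | t
    · rw [ht, mul_zero] at h0
      have h6 : d a - d b ≤ 0 := hq a b (by rw [← hE0]; exact h0)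
      omega
    · rw [ht, zero_add, mul_one] at h0
      have h6 : d a - d b ≤ m := hE1 a b h0
      rw [zero_add, mul_one] at ht
      omega
    · have h6 : m * (t + 1 + 1) = m * t + m + m := by ring
      omega
  · rfl

/-- **Rigidity, local part.** -/
theorem loc_rigid (hG : Good A k) (h : GrB A d m) {δ : R[X]} (hu : IsUnit (δ.coeff 0)) {M : Matrix ι ι R[X]}
    (hM : Loc A d m δ M) {N : Matrix ι ι R} (hN : Sh d (· = -(m : ℤ)) N)
    (hd : ∀ a b, X ^ xp d m a ∣ (N.map C * M) a b) : N = 0 := by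
  have h1 : N * lo d m M = 0 := by
    ext a b
    by_cases ha : d a ≤ 0
    · have h2 := h.xp_cast a
      have h3 := X_pow_dvd_iff.1 (hd a b) (-d a).toNat (by have := h.pos; omega)
      rw [Matrix.mul_apply, finsetSum_coeff] at h3
      rw [Matrix.mul_apply, Matrix.zero_apply, ← h3]
      refine Finset.sum_congr rfl fun c _ => ?_
      rw [Matrix.map_apply, coeff_C_mul]
      by_cases h0 : N a c = 0
      · rw [h0, zero_mul, zero_mul]
      · have h4 : d a - d c = -m := hN a c h0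
        have h5 := h.xp_cast c
        have h6 : (-d a).toNat = xp d m c := by omega
        rw [h6]
        rfl
    · rw [Matrix.mul_apply, Matrix.zero_apply]
      refine Finset.sum_eq_zero fun c _ => ?_
      by_cases h0 : N a c = 0
      · rw [h0, zero_mul]
      · have h4 : d a - d c = -m := hN a c h0
        have h5 := h.ub c
        omega
  have h2 := hG.self_mul_st hu.isRegular (hM.tw_lo h).2
  refine smul_cancel (hu.isRegular.mul hu.isRegular) ?_
  rw [smul_zero, ← Matrix.mul_one N, ← Matrix.mul_smul, ← h2, ← Matrix.mul_assoc, h1, Matrix.zero_mul]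

end Cfsg.Agent.E8A.Reg5
end

-- part: E8A/Reg5/Orb
section
/-!
# Invariant forms of the icosahedral group (helper42)

* `pw I R e` : the product of the linear forms of the points, with exponents depending on the class; it is invariant;
* `pw_dvd` : an invariant family which vanishes at the base points is divisible by `pw`; `eq_zero_of_deg`;
* `cg_of_inv` : the exponents in the chart at a special point.
-/

set_option autoImplicit false
set_option linter.unusedSectionVars false

namespace Cfsg.Agent.E8A.Reg5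

open Matrix MvPolynomial

universe u v w

variable {k : Type u} [Field k] {R : Type v} [CommRing R] [Algebra k R] {S : Type w} [CommRing S] [Algebra k S]
variable {Γ P : Type} [Group Γ] [Fintype Γ] [Fintype P] {π : Γ →* A5} (I : Ico k Γ P π)

namespace Ico

variable (R) in
/-- the action on forms -/
noncomputable def s (γ : Γ) : Fm R →ₐ[R] Fm R := sb R (I.ρ γ).1

theorem s_s (γ γ' : Γ) (f : Fm R) : I.s R γ (I.s R γ' f) = I.s R (γ' * γ) f := by
  unfold s
  rw [sb_sb, map_mul]
  rfl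

theorem s_one (f : Fm R) : I.s R 1 f = f := by
  unfold s
  rw [map_one]
  exact sb_one f

theorem s_hom (γ : Γ) {f : Fm R} {n : ℕ} (h : f.IsHomogeneous n) : (I.s R γ f).IsHomogeneous n := sb_hom _ h

theorem s_C (γ : Γ) (a : R) : I.s R γ (C a) = C a := sb_C _ _

theorem mf_s (f : R →ₐ[k] S) (γ : Γ) (g : Fm R) : mf f (I.s R γ g) = I.s S γ (mf f g) := mf_sb _ _ _

variable (R) in
/-- the linear form of a point -/
noncomputable def l (x : P) : Fm R := lf R (I.v x)

theorem s_l (γ : Γ) (x : P) : I.s R γ (I.l R (I.mv γ x)) = C (algebraMap k R (I.sc γ x)⁻¹) * I.l R x := by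
  have h1 := sb_lf (R := R) (I.ρ γ).2 (I.v x)
  rw [I.mv_v, lf_smul, map_mul, sb_C] at h1
  unfold s l
  rw [← h1, ← mul_assoc, ← C_mul, ← map_mul, inv_mul_cancel₀ (I.sc_ne γ x), map_one, C_1, one_mul]

theorem s_inv_l (γ : Γ) (x : P) : I.s R γ⁻¹ (I.l R x) = C (algebraMap k R (I.sc γ x)) * I.l R (I.mv γ x) := by
  have h1 := congrArg (I.s R γ⁻¹) (I.s_l (R := R) γ x)
  rw [s_s, mul_inv_cancel, s_one, map_mul, s_C] at h1
  rw [h1, ← mul_assoc, ← C_mul, ← map_mul, mul_inv_cancel₀ (I.sc_ne γ x), map_one, C_1, one_mul]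

include I in
theorem exists_ne (x : P) : ∃ y, x ≠ y := by
  by_cases h : x = I.b none
  · refine ⟨I.b (some 0), fun h1 => ?_⟩
    have := I.b_cl none
    rw [← h, h1, I.b_cl] at this
    cases this
  · exact ⟨_, h⟩

theorem exists_w (x : P) : ∃ w, dt (I.v x) w = 1 := by
  obtain ⟨y, hy⟩ := I.exists_ne x
  exact exists_dt (I.indep x y hy)

theorem l_regular (x : P) : IsRegular (I.l R x) := by
  obtain ⟨w, hw⟩ := I.exists_w x
  exact lf_regular hw

variable (R) in
/-- products of linear forms -/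
noncomputable def pw (e : Option (Fin 3) → ℕ) : Fm R := ∏ x, I.l R x ^ e (I.cl x)

/-- the sizes of the orbits -/
def sz : Option (Fin 3) → ℕ := fun c => c.elim 60 ![30, 20, 12]

/-- the degree of `pw` -/
def dg (e : Option (Fin 3) → ℕ) : ℕ := 60 * e none + (30 * e (some 0) + 20 * e (some 1) + 12 * e (some 2))

theorem card_cl (c : Option (Fin 3)) : (Finset.univ.filter fun x => I.cl x = c).card = sz c := by
  have h := I.cnt c
  rcases c with _ | i
  · simpa only [mo, sz, _root_.Option.elim_none, _root_.mul_one] using h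
  · fin_cases i <;> simp only [mo, mm, sz, _root_.Fin.zero_eta, _root_.Fin.isValue, _root_.Option.elim_some, _root_.Matrix.cons_val_zero, _root_.Fin.mk_one, _root_.Matrix.cons_val_one, _root_.Fin.reduceFinMk, _root_.Matrix.cons_val] at h ⊢ <;> omega

theorem sum_cl (e : Option (Fin 3) → ℕ) : ∑ x, e (I.cl x) = dg e := by
  rw [← Finset.sum_fiberwise (s := Finset.univ) (g := I.cl) (f := fun x => e (I.cl x))]
  have : ∀ c, ∑ x ∈ Finset.univ with I.cl x = c, e (I.cl x) = sz c * e c := fun c => by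
    rw [Finset.sum_congr rfl (g := fun _ => e c) (fun x hx => by rw [(Finset.mem_filter.1 hx).2]), Finset.sum_const,
      card_cl, smul_eq_mul]
  simp only [this, Fintype.sum_option, Fin.sum_univ_three]
  rfl

theorem pw_hom (e : Option (Fin 3) → ℕ) : (I.pw R e).IsHomogeneous (dg e) := by
  rw [← I.sum_cl]
  exact prod_hom I.v (fun x => e (I.cl x)) Finset.univ

theorem pw_regular (e : Option (Fin 3) → ℕ) : IsRegular (I.pw R e) :=
  IsRegular.prod fun x _ => (I.l_regular x).pow _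

theorem pw_add (e e' : Option (Fin 3) → ℕ) : I.pw R (e + e') = I.pw R e * I.pw R e' := by
  unfold pw
  rw [← Finset.prod_mul_distrib]
  exact Finset.prod_congr rfl fun x _ => pow_add _ _ _

theorem mf_l (f : R →ₐ[k] S) (x : P) : mf f (I.l R x) = I.l S x := mf_lf f _

theorem mf_pw (f : R →ₐ[k] S) (e : Option (Fin 3) → ℕ) : mf f (I.pw R e) = I.pw S e := by
  unfold pw
  rw [map_prod]
  exact Finset.prod_congr rfl fun x _ => by rw [map_pow, mf_l]

theorem s_pw_aux (γ : Γ) (e : Option (Fin 3) → ℕ) :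
    I.s R γ (I.pw R e) = C (algebraMap k R (∏ x, (I.sc γ x)⁻¹ ^ e (I.cl x))) * I.pw R e := by
  have hb : Function.Bijective (I.mv γ) := Finite.injective_iff_bijective.1 (I.mv_inj γ)
  unfold pw
  conv_lhs => rw [← hb.prod_comp (fun x => I.l R x ^ e (I.cl x))]
  rw [map_prod, map_prod, map_prod, ← Finset.prod_mul_distrib]
  refine Finset.prod_congr rfl fun x _ => ?_
  rw [map_pow, s_l, I.mv_cl, mul_pow, map_pow, map_pow]

theorem s_pw (γ : Γ) (e : Option (Fin 3) → ℕ) : I.s R γ (I.pw R e) = I.pw R e := by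
  have hne : ∀ γ, (∏ x, (I.sc γ x)⁻¹ ^ e (I.cl x)) ≠ 0 := fun γ =>
    Finset.prod_ne_zero_iff.2 fun x _ => pow_ne_zero _ (inv_ne_zero (I.sc_ne γ x))
  let χ : Γ →* kˣ := MonoidHom.mk' (fun γ => Units.mk0 _ (hne γ)) fun γ γ' => by
    apply Units.ext
    show (∏ x, (I.sc (γ * γ') x)⁻¹ ^ e (I.cl x)) = (∏ x, (I.sc γ x)⁻¹ ^ e (I.cl x)) * ∏ x, (I.sc γ' x)⁻¹ ^ e (I.cl x)
    have h1 := I.s_s (R := k) γ' γ (I.pw k e)
    rw [s_pw_aux, map_mul, s_C, s_pw_aux, s_pw_aux, ← mul_assoc, ← C_mul] at h1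
    exact (C_injective _ _ ((I.pw_regular e).right h1)).symm
  have h1 : (∏ x, (I.sc γ x)⁻¹ ^ e (I.cl x)) = 1 := congrArg Units.val (DFunLike.congr_fun (I.perf χ) γ)
  rw [s_pw_aux, h1, map_one, C_1, one_mul]

theorem ev_pw (e : Option (Fin 3) → ℕ) (y : Fin 2 → k) :
    ev R y (I.pw R e) = algebraMap k R (∏ x, dt (I.v x) y ^ e (I.cl x)) := by
  unfold pw l
  rw [map_prod, map_prod]
  exact Finset.prod_congr rfl fun x _ => by rw [map_pow, ev_lf, map_pow]

/-- families which are invariant up to constant linear combinations -/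
def Fam {T : Type*} (W : T → Fm R) : Prop := ∀ (γ : Γ) (D : Fm R), (∀ t, D ∣ I.s R γ (W t)) → ∀ t, D ∣ W t

theorem pw_dvd {T : Type*} {W : T → Fm R} {n : ℕ} (hW : ∀ t, (W t).IsHomogeneous n) (hF : I.Fam W)
    {e : Option (Fin 3) → ℕ} (h : ∀ c t, I.l R (I.b c) ^ e c ∣ W t) (t : T) : I.pw R e ∣ W t := by
  refine prod_dvd I.v I.indep (fun x => e (I.cl x)) Finset.univ (hW t) fun x _ => ?_
  obtain ⟨γ, hγ⟩ := I.trans x
  refine hF γ⁻¹ _ (fun t' => ?_) t
  have h1 := map_dvd (I.s R γ⁻¹) (h (I.cl x) t')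
  rw [map_pow, s_inv_l, hγ, mul_pow] at h1
  exact Dvd.dvd.trans (Dvd.intro_left _ rfl) h1

theorem exists_pw_quot {T : Type*} {W : T → Fm R} {n : ℕ} (hW : ∀ t, (W t).IsHomogeneous n) (hF : I.Fam W)
    {e : Option (Fin 3) → ℕ} (h : ∀ c t, I.l R (I.b c) ^ e c ∣ W t) :
    ∃ W' : T → Fm R, (∀ t, W t = I.pw R e * W' t) ∧ ∀ t, (W' t).IsHomogeneous (n - dg e) := by
  choose W' h1 h2 _ using fun t => exists_quot (hW t) (I.pw_hom e) (I.pw_dvd hW hF h t)
  exact ⟨W', h1, h2⟩

theorem eq_zero_of_deg {T : Type*} {W : T → Fm R} {n : ℕ} (hW : ∀ t, (W t).IsHomogeneous n) (hF : I.Fam W)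
    {e : Option (Fin 3) → ℕ} (h : ∀ c t, I.l R (I.b c) ^ e c ∣ W t) (hn : n < dg e) (t : T) : W t = 0 := by
  obtain ⟨Q, h1, -, h2⟩ := exists_quot (hW t) (I.pw_hom e) (I.pw_dvd hW hF h t)
  rw [h1, h2 hn, mul_zero]

theorem fam_of_inv {f : Fm R} (h : ∀ γ, I.s R γ f = f) : I.Fam fun _ : Unit => f := fun γ D hD t => by
  have := hD t
  rwa [h] at this

variable (R) in
/-- the chart at a special point -/
noncomputable def c (i : Fin 3) : Fm R →ₐ[R] Polynomial R := ch R (I.v (I.b (some i))) (I.w i)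

theorem dvd_iff (i : Fin 3) {f : Fm R} {n : ℕ} (hf : f.IsHomogeneous n) (a : ℕ) :
    I.l R (I.b (some i)) ^ a ∣ f ↔ Polynomial.X ^ a ∣ I.c R i f := lf_pow_dvd_iff (I.dt_vw i) hf a

theorem c_l (i : Fin 3) : I.c R i (I.l R (I.b (some i))) = Polynomial.X := ch_lf_self (I.dt_vw i)

theorem c_C (i : Fin 3) (a : R) : I.c R i (C a) = Polynomial.C a := ch_C _ _ _

theorem c_mf (f : R →ₐ[k] S) (i : Fin 3) (g : Fm R) : I.c S i (mf f g) = (I.c R i g).map (f : R →+* S) := ch_mf _ _ _ _

/-- the root of unity -/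
def ζ (i : Fin 3) : k := I.η i ^ 2

theorem mm_pos (i : Fin 3) : 0 < mm i := by fin_cases i <;> simp [mm]

theorem ζ_ne (i : Fin 3) : I.ζ i ≠ 0 := (I.prim i).ne_zero (mm_pos i).ne'

theorem η_ne (i : Fin 3) : I.η i ≠ 0 := fun h => I.ζ_ne i (by rw [ζ, h]; simp)

theorem η_pow (i : Fin 3) (j : ℕ) : I.η i ^ (60 * j) = 1 := by
  have h := (I.prim i).pow_eq_one
  have h1 : ∃ t, 60 = 2 * mm i * t := by
    fin_cases i
    · exact ⟨15, rfl⟩
    · exact ⟨10, rfl⟩
    · exact ⟨6, rfl⟩
  obtain ⟨t, ht⟩ := h1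
  rw [ht, mul_assoc, mul_assoc, pow_mul, pow_mul, h, one_pow]

theorem cg_of_inv (i : Fin 3) {f : Fm R} {j : ℕ} (hf : f.IsHomogeneous (60 * j)) {e : ℤ}
    (h : I.s R (I.g i) f = C (algebraMap k R (I.ζ i ^ e)) * f) : Cg (mm i) e (I.c R i f) := by
  intro n hn
  have h1 := congrArg (fun g => (I.c R i g).coeff n) h
  simp only [map_mul, c_C, Polynomial.coeff_C_mul] at h1
  unfold s c at h1
  rw [ch_sb, I.g_v, I.g_w, coeff_ch_smul (I.dt_vw i) hf (I.η_ne i) (I.η_pow i j)] at h1
  have h2 : (I.ζ i)⁻¹ ^ n = I.ζ i ^ e := by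
    by_contra h3
    have h4 := isUnit_algebraMap (R := R) (sub_ne_zero.2 h3)
    apply hn
    refine h4.isRegular.left ?_
    show _ * _ = _ * (0 : R)
    rw [map_sub, sub_mul, mul_zero]
    exact sub_eq_zero.2 h1
  refine ((I.prim i).zpow_eq_one_iff_dvd _).1 ?_
  show I.ζ i ^ ((n : ℤ) + e) = 1
  rw [zpow_add₀ (I.ζ_ne i), ← h2, zpow_natCast, ← mul_pow, mul_inv_cancel₀ (I.ζ_ne i), one_pow]

/-- the exponents of the form `Δ` -/
def eD : Option (Fin 3) → ℕ := fun c => c.elim 0 mm

/-- the exponents of the form `Q` -/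
def eQ : Option (Fin 3) → ℕ := fun c => c.elim 1 fun _ => 0

theorem dg_eQ : dg eQ = 60 := rfl

variable (R) in
/-- the form of degree 180 -/
noncomputable def Δ : Fm R := I.pw R eD

variable (R) in
/-- the form of degree 60 which vanishes on the free orbit -/
noncomputable def Q : Fm R := I.pw R eQ

/-- the free base point -/
def v0 : Fin 2 → k := I.v (I.b none)

/-- the value of `Δ` at the free base point -/
noncomputable def D0 : k := ∏ x, dt (I.v x) I.v0 ^ eD (I.cl x)

theorem ev_Δ : ev R I.v0 (I.Δ R) = algebraMap k R I.D0 := I.ev_pw _ _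

theorem D0_ne : I.D0 ≠ 0 := by
  refine Finset.prod_ne_zero_iff.2 fun x _ => ?_
  by_cases h : x = I.b none
  · rw [h, I.b_cl]
    show _ ^ 0 ≠ (0 : k)
    rw [pow_zero]
    exact one_ne_zero
  · exact pow_ne_zero _ (I.indep _ _ h)

open Classical in
variable (R) in
/-- the local unit -/
noncomputable def δ (i : Fin 3) : Polynomial R :=
  I.c R i (∏ x ∈ Finset.univ.erase (I.b (some i)), I.l R x ^ eD (I.cl x))

theorem c_Δ (i : Fin 3) : I.c R i (I.Δ R) = Polynomial.X ^ mm i * I.δ R i := by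
  classical
  unfold Δ pw δ
  rw [← Finset.mul_prod_erase _ _ (Finset.mem_univ (I.b (some i))), map_mul, map_pow, c_l, I.b_cl]
  congr

open Classical in
/-- the value of the local unit -/
noncomputable def δ0 (i : Fin 3) : k :=
  ∏ x ∈ Finset.univ.erase (I.b (some i)), dt (I.v x) (I.v (I.b (some i))) ^ eD (I.cl x)

theorem δ0_ne (i : Fin 3) : I.δ0 i ≠ 0 := by
  classical
  exact Finset.prod_ne_zero_iff.2 fun x hx => pow_ne_zero _ (I.indep _ _ (Finset.ne_of_mem_erase hx))

theorem δ_coeff (i : Fin 3) : (I.δ R i).coeff 0 = algebraMap k R (I.δ0 i) := by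
  unfold δ δ0 c l
  rw [coeff_zero_ch, map_prod, map_prod]
  exact Finset.prod_congr rfl fun x _ => by rw [map_pow, ev_lf, map_pow]

theorem δ_unit (i : Fin 3) : IsUnit ((I.δ R i).coeff 0) := by
  rw [δ_coeff]; exact isUnit_algebraMap (I.δ0_ne i)

theorem δ_cg (i : Fin 3) : Cg (mm i) 0 (I.δ R i) := by
  have h1 : Cg (mm i) 0 (I.c R i (I.Δ R)) :=
    I.cg_of_inv i (j := 3) (I.pw_hom eD) (by rw [zpow_zero, map_one, C_1, one_mul]; exact I.s_pw _ _)
  intro n hn
  have h2 := h1 (n + mm i) (by rw [c_Δ, Polynomial.coeff_X_pow_mul]; exact hn)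
  rw [Nat.cast_add, add_zero] at h2
  rw [add_zero]
  exact (dvd_add_left (dvd_refl _)).1 h2

end Ico

end Cfsg.Agent.E8A.Reg5
end

-- part: E8A/Reg5/Str
section
/-!
# Trivializations and the gluing lemma (helper42)

* `Rep` : a representation by automorphisms; `Frm` : frames at the three special points;
* `Str` : a trivialization `Φ`; `Str.loc`, `Str.map`; `am` : the values at the special points;
* `Str.glue` : **gluing**.
-/

set_option autoImplicit false
set_option linter.unusedSectionVars false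

namespace Cfsg.Agent.E8A.Reg5

open Matrix MvPolynomial Ico

universe u v w

variable {ι : Type} [Fintype ι] [DecidableEq ι] {A : ι → Matrix ι ι ℤ}
variable {k : Type u} [Field k] {R : Type v} [CommRing R] [Algebra k R] {S : Type w} [CommRing S] [Algebra k S]
variable {Γ P : Type} [Group Γ] [Fintype Γ] [Fintype P] {π : Γ →* A5}

/-- constant matrices of forms -/
noncomputable abbrev cs (M : Matrix ι ι R) : Matrix ι ι (Fm R) := M.map C

variable (R) in
/-- constant matrices -/
noncomputable def fk (M : Matrix ι ι k) : Matrix ι ι R := M.map (algebraMap k R)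

theorem fk_mul (M N : Matrix ι ι k) : fk R (M * N) = fk R M * fk R N := Matrix.map_mul

theorem fk_one : fk R (1 : Matrix ι ι k) = 1 := Matrix.map_one _ (map_zero _) (map_one _)

theorem fk_map (f : R →ₐ[k] S) (M : Matrix ι ι k) : (fk R M).map f = fk S M := by
  ext a b
  exact f.commutes _

theorem fk_C (M : Matrix ι ι k) : cs (fk R M) = fk (Fm R) M := rfl

theorem Tw.fk {M : Matrix ι ι k} (h : Tw A 1 M) : Tw A 1 (fk R M) := by
  have := h.map (algebraMap k R)
  rwa [map_one] at this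

theorem Tw.map1 {M : Matrix ι ι R} (h : Tw A 1 M) (f : R →+* S) : Tw A 1 (M.map f) := by
  have := h.map f
  rwa [map_one] at this

theorem amap_mul {T : Type*} [CommSemiring T] [Algebra T R] [Algebra T S] (f : R →ₐ[T] S) (M N : Matrix ι ι R) :
    (M * N).map f = M.map f * N.map f := Matrix.map_mul (f := (f : R →+* S))

theorem amap_one {T : Type*} [CommSemiring T] [Algebra T R] [Algebra T S] (f : R →ₐ[T] S) :
    (1 : Matrix ι ι R).map f = 1 := Matrix.map_one _ (map_zero _) (map_one _)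

theorem amap_smul {T : Type*} [CommSemiring T] [Algebra T R] [Algebra T S] (f : R →ₐ[T] S) (c : R) (M : Matrix ι ι R) :
    (c • M).map f = f c • M.map f := by
  ext a b
  exact map_mul f _ _

theorem C_mul' (M N : Matrix ι ι R) : cs (M * N) = cs M * cs N := Matrix.map_mul

theorem C_one' : cs (1 : Matrix ι ι R) = 1 := Matrix.map_one _ (map_zero _) (map_one _)

theorem amap_C {T : Type*} [CommRing T] [Algebra R T] (f : Fm R →ₐ[R] T) (M : Matrix ι ι R) :
    (cs M).map f = M.map (algebraMap R T) := by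
  ext a b
  exact f.commutes _

theorem st_amap {T : Type*} [CommRing T] [Algebra R T] [Algebra k T] [IsScalarTower k R T] (f : Fm R →ₐ[R] T)
    (M : Matrix ι ι (Fm R)) : (st A k M).map f = st A k (M.map f) := st_map (f.restrictScalars k) M

/-- homogeneous matrices -/
def HomM (n : ℕ) (M : Matrix ι ι (Fm R)) : Prop := ∀ a b, (M a b).IsHomogeneous n

omit [Algebra k R] in
theorem HomM.mul {n n' : ℕ} {M N : Matrix ι ι (Fm R)} (hM : HomM n M) (hN : HomM n' N) : HomM (n + n') (M * N) :=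
  fun a b => by
    rw [Matrix.mul_apply]
    exact IsHomogeneous.sum _ _ _ fun c _ => (hM a c).mul (hN c b)

omit [Algebra k R] in
theorem homM_C (M : Matrix ι ι R) : HomM 0 (cs M) := fun _ _ => isHomogeneous_C _ _

omit [Algebra k R] in
theorem HomM.C_mul {n : ℕ} {M : Matrix ι ι (Fm R)} (hM : HomM n M) (N : Matrix ι ι R) : HomM n (cs N * M) := by
  have := (homM_C N).mul hM
  rwa [zero_add] at this

omit [Algebra k R] in
theorem HomM.mul_C {n : ℕ} {M : Matrix ι ι (Fm R)} (hM : HomM n M) (N : Matrix ι ι R) : HomM n (M * cs N) :=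
  hM.mul (homM_C N)

theorem kin_C' : kin A k (Fm R) = cs (kin A k R) := rfl

theorem HomM.st {n : ℕ} {M : Matrix ι ι (Fm R)} (hM : HomM n M) : HomM n (st A k M) := by
  unfold Reg5.st
  rw [kin_C', ← kil_map (C : R →+* Fm R)]
  exact (HomM.C_mul (M := Mᵀ) (fun a b => hM b a) _).mul_C _

omit [Algebra k R] in
theorem dvd_mul_mul {D : R} {M : Matrix ι ι R} (h : ∀ a b, D ∣ M a b) (L N : Matrix ι ι R) (a b : ι) :
    D ∣ (L * M * N) a b := by
  rw [Matrix.mul_apply]
  refine Finset.dvd_sum fun c _ => Dvd.dvd.mul_right ?_ _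
  rw [Matrix.mul_apply]
  exact Finset.dvd_sum fun e _ => Dvd.dvd.mul_left (h e c) _

variable (A) in
/-- a representation by automorphisms -/
structure Rep (I : Ico k Γ P π) (φ : Γ →* Matrix ι ι k) : Prop where
  tw : ∀ γ, Tw A 1 (φ γ)
  z : φ I.z = 1

theorem fk_inv (φ : Γ →* Matrix ι ι k) (γ : Γ) : fk R (φ γ) * fk R (φ γ⁻¹) = 1 := by
  rw [← fk_mul, ← map_mul, mul_inv_cancel, map_one, fk_one]

theorem fk_inv' (φ : Γ →* Matrix ι ι k) (γ : Γ) : fk R (φ γ⁻¹) * fk R (φ γ) = 1 := by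
  rw [← fk_mul, ← map_mul, inv_mul_cancel, map_one, fk_one]

variable (A) in
/-- frames at the special points -/
structure Frm (I : Ico k Γ P π) (d : Fin 3 → ι → ℤ) (φ : Γ →* Matrix ι ι k) (U V : Fin 3 → Matrix ι ι R) : Prop where
  inv : ∀ i, U i * V i = 1
  tw : ∀ i, Tw A 1 (U i)
  eq : ∀ i, U i * fk R (φ (I.g i)) = fk R (Matrix.diagonal fun a => I.ζ i ^ d i a) * U i

variable {I : Ico k Γ P π} {d : Fin 3 → ι → ℤ} {φ φ' : Γ →* Matrix ι ι k} {U V U' V' : Fin 3 → Matrix ι ι R}

theorem Frm.map (h : Frm A I d φ U V) (f : R →ₐ[k] S) : Frm A I d φ (fun i => (U i).map f) (fun i => (V i).map f) where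
  inv i := by rw [← amap_mul, h.inv, amap_one]
  tw i := (h.tw i).map1 (f : R →+* S)
  eq i := by rw [← fk_map f, ← fk_map f, ← amap_mul, ← amap_mul, h.eq]

/-- the exponents in the chart, for matrices with any column type -/
theorem Frm.cg (h : Frm A I d φ U V) (i : Fin 3) {j : ℕ} {x : ι → Fm R} (hx : ∀ a, (x a).IsHomogeneous (60 * j))
    (hi : (fun a => I.s R (I.g i) (x a)) = fk (Fm R) (φ (I.g i)) *ᵥ x) (a : ι) :
    Cg (mm i) (d i a) (I.c R i ((cs (U i) *ᵥ x) a)) := by
  refine I.cg_of_inv i (j := j) ?_ ?_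
  · exact IsHomogeneous.sum _ _ _ fun c _ => (hx c).C_mul _
  · have h1 := congrFun (mulVec_map (I.s R (I.g i) : Fm R →+* Fm R) (cs (U i)) x) a
    have h2 : (cs (U i)).map (I.s R (I.g i) : Fm R →+* Fm R) = cs (U i) := amap_C (I.s R (I.g i)) (U i)
    rw [h2] at h1
    refine h1.trans ?_
    show (cs (U i) *ᵥ fun a => I.s R (I.g i) (x a)) a = _
    rw [hi, Matrix.mulVec_mulVec, ← fk_C, ← C_mul', h.eq, C_mul', ← Matrix.mulVec_mulVec]
    rw [fk_C]
    unfold fk
    rw [Matrix.diagonal_map (map_zero _), Matrix.mulVec_diagonal]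
    rfl

variable (A) in
/-- a trivialization -/
structure Str (I : Ico k Γ P π) (d : Fin 3 → ι → ℤ) (φ : Γ →* Matrix ι ι k) (U : Fin 3 → Matrix ι ι R)
    (Φ : Matrix ι ι (Fm R)) : Prop where
  hom : HomM 180 Φ
  inv : ∀ γ, Φ.map (I.s R γ) = fk (Fm R) (φ γ) * Φ
  dvd : ∀ i a b, I.l R (I.b (some i)) ^ xp (d i) (mm i) a ∣ (cs (U i) * Φ) a b
  ev0 : Φ.map (ev R I.v0) = algebraMap k R I.D0 • (1 : Matrix ι ι R)
  tw : Tw A (I.Δ R) Φ
  iso : Iso A (I.Δ R) Φ

variable (I) in
/-- the local matrix -/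
noncomputable def lm (U : Fin 3 → Matrix ι ι R) (Φ : Matrix ι ι (Fm R)) (i : Fin 3) : Matrix ι ι (Polynomial R) :=
  (cs (U i) * Φ).map (I.c R i)

variable {Φ Φ' : Matrix ι ι (Fm R)}

theorem Str.loc (hF : Frm A I d φ U V) (h : Str A I d φ U Φ) (i : Fin 3) :
    Loc A (d i) (mm i) (I.δ R i) (lm I U Φ i) where
  cg a b := by
    refine hF.cg i (j := 3) (x := fun c => Φ c b) (fun c => h.hom c b) ?_ a
    funext c
    exact congrFun (congrFun (h.inv (I.g i)) c) b
  dvd a b := (I.dvd_iff i (h.hom.C_mul (U i) a b) _).1 (h.dvd i a b)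
  tw := by
    have := (((hF.tw i).map1 (C : R →+* Fm R)).mul h.tw).map (I.c R i : Fm R →+* Polynomial R)
    rw [one_mul] at this
    rw [← I.c_Δ]
    exact this
  iso := by
    have h1 : cs (U i) * cs (V i) = (1 : Matrix ι ι (Fm R)) := by rw [← C_mul', hF.inv, C_one']
    have := ((((hF.tw i).map1 (C : R →+* Fm R)).iso h1).mul h.iso).map (I.c R i : Fm R →+* Polynomial R)
    rw [one_mul] at this
    rw [← I.c_Δ]
    exact this

theorem C_map_mf (f : R →ₐ[k] S) (M : Matrix ι ι R) : (cs M).map (mf f) = cs (M.map f) := by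
  ext1 a b
  exact mf_C f _

theorem Str.map (h : Str A I d φ U Φ) (f : R →ₐ[k] S) : Str A I d φ (fun i => (U i).map f) (Φ.map (mf f)) where
  hom a b := mf_hom f (h.hom a b)
  inv γ := by
    rw [← fk_map (mf f), ← amap_mul, ← h.inv]
    ext1 a b
    exact (I.mf_s f γ _).symm
  dvd i a b := by
    have := map_dvd (mf f) (h.dvd i a b)
    rw [map_pow, I.mf_l] at this
    rw [← C_map_mf, ← amap_mul]
    exact this
  ev0 := by
    have : (Φ.map (mf f)).map (ev S I.v0) = (Φ.map (ev R I.v0)).map f := by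
      ext a b
      exact ev_mf f _ _
    rw [this, h.ev0, amap_smul, amap_one, f.commutes]
  tw := by
    have := h.tw.map (mf f : Fm R →+* Fm S)
    rw [← show mf f (I.Δ R) = I.Δ S from I.mf_pw f _]
    exact this
  iso := by
    have := h.iso.map (mf f : Fm R →+* Fm S)
    rw [← show mf f (I.Δ R) = I.Δ S from I.mf_pw f _]
    exact this

variable (I d) in
/-- the normalized values at the special points -/
noncomputable def am (U : Fin 3 → Matrix ι ι R) (Φ : Matrix ι ι (Fm R)) (i : Fin 3) : Matrix ι ι R :=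
  algebraMap k R (I.δ0 i)⁻¹ • lo (d i) (mm i) (lm I U Φ i)

theorem am_map (f : R →ₐ[k] S) (U : Fin 3 → Matrix ι ι R) (Φ : Matrix ι ι (Fm R)) (i : Fin 3) :
    (am I d U Φ i).map f = am I d (fun i => (U i).map f) (Φ.map (mf f)) i := by
  unfold am
  rw [amap_smul, f.commutes]
  congr 1
  ext a b
  unfold lm
  rw [← C_map_mf, ← amap_mul]
  show f (Polynomial.coeff (I.c R i _) _) = Polynomial.coeff (I.c S i (mf f _)) _
  rw [I.c_mf, Polynomial.coeff_map]
  rfl

theorem lo_eq (U : Fin 3 → Matrix ι ι R) (Φ : Matrix ι ι (Fm R)) (i : Fin 3) :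
    lo (d i) (mm i) (lm I U Φ i) = algebraMap k R (I.δ0 i) • am I d U Φ i := by
  unfold am
  rw [smul_smul, ← map_mul, mul_inv_cancel₀ (I.δ0_ne i), map_one, one_smul]

theorem Str.am_tw (hd : ∀ i, GrB A (d i) (mm i)) (hF : Frm A I d φ U V) (h : Str A I d φ U Φ) (i : Fin 3) :
    Tw A 1 (am I d U Φ i) ∧ Iso A 1 (am I d U Φ i) := by
  obtain ⟨h1, h2⟩ := (h.loc hF i).tw_lo (hd i)
  have e : algebraMap k R (I.δ0 i)⁻¹ * (I.δ R i).coeff 0 = 1 := by
    rw [I.δ_coeff, ← map_mul, inv_mul_cancel₀ (I.δ0_ne i), map_one]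
  have h3 := h1.smul (algebraMap k R (I.δ0 i)⁻¹)
  have h4 := h2.smul (algebraMap k R (I.δ0 i)⁻¹)
  rw [e] at h3 h4
  exact ⟨h3, h4⟩

theorem Str.am_st (hG : Good A k) (hd : ∀ i, GrB A (d i) (mm i)) (hF : Frm A I d φ U V) (h : Str A I d φ U Φ)
    (i : Fin 3) : am I d U Φ i * st A k (am I d U Φ i) = 1 := by
  have := hG.self_mul_st isRegular_one (h.am_tw hd hF i).2
  rwa [one_mul, one_smul] at this

theorem hom_zero_eq {f : Fm R} (h : f.IsHomogeneous 0) (y : Fin 2 → k) : f = C (ev R y f) := by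
  have h1 : f = C (coeff 0 f) := by rw [← homogeneousComponent_zero, homogeneousComponent_eq_self h]
  rw [h1, ev_C]

/-- **Gluing.** -/
theorem Str.glue (hG : Good A k) (hd : ∀ i, GrB A (d i) (mm i)) (hφ : Rep A I φ) (hF : Frm A I d φ U V)
    (hF' : Frm A I d φ' U' V') (h : Str A I d φ U Φ) (h' : Str A I d φ' U' Φ') {x x' : Matrix ι ι R} (hx : Tw A 1 x)
    (hxx : x * x' = 1) (hq : ∀ i, Sh (d i) (· ≤ 0) (am I d U' Φ' i * x * st A k (am I d U Φ i))) :
    Φ' * cs x = cs x * Φ ∧ ∀ γ, fk R (φ' γ) * x = x * fk R (φ γ) := by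
  set Ψ := Φ' * cs x * st A k Φ with hΨ
  have hΔ : IsRegular (I.Δ R) := I.pw_regular _
  have hD : IsRegular (algebraMap k R I.D0) := (isUnit_algebraMap I.D0_ne).isRegular
  have hhom : HomM 360 Ψ := (h'.hom.mul_C x).mul h.hom.st
  have hinv : ∀ γ, Ψ.map (I.s R γ) = fk (Fm R) (φ' γ) * Ψ * fk (Fm R) (φ γ⁻¹) := by
    intro γ
    rw [hΨ, amap_mul, amap_mul, st_amap, h.inv, h'.inv, amap_C, hG.st_mul,
      hG.st_eq_inv (hφ.tw γ).fk (fk_inv φ γ)]
    simp only [Matrix.mul_assoc]
    rfl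
  have hfam : I.Fam fun t : ι × ι => Ψ t.1 t.2 := by
    intro γ D hD t
    have h1 : Ψ = fk (Fm R) (φ' γ⁻¹) * Ψ.map (I.s R γ) * fk (Fm R) (φ γ) := by
      rw [hinv, ← Matrix.mul_assoc, ← Matrix.mul_assoc, fk_inv', Matrix.one_mul, Matrix.mul_assoc, fk_inv',
        Matrix.mul_one]
    rw [h1]
    exact dvd_mul_mul (fun a b => hD (a, b)) _ _ _ _
  have hdiv : ∀ c (t : ι × ι), I.l R (I.b c) ^ (eD + eD) c ∣ Ψ t.1 t.2 := by
    rintro (_ | i) t
    · show _ ^ 0 ∣ _
      rw [pow_zero]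
      exact one_dvd _
    · have hUV : cs (U i) * cs (V i) = (1 : Matrix ι ι (Fm R)) := by rw [← C_mul', hF.inv, C_one']
      have hVU : cs (V i) * cs (U i) = (1 : Matrix ι ι (Fm R)) := mul_eq_one_comm.1 hUV
      have hVU' : cs (V' i) * cs (U' i) = (1 : Matrix ι ι (Fm R)) :=
        mul_eq_one_comm.1 (by rw [← C_mul', hF'.inv, C_one'])
      have h1 : (cs (U' i) * Ψ * cs (V i)).map (I.c R i) =
          lm I U' Φ' i * x.map Polynomial.C * st A k (lm I U Φ i) := by
        unfold lm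
        rw [← st_amap, hG.st_mul, hG.st_eq_inv ((hF.tw i).map1 (C : R →+* Fm R)) hUV, hΨ]
        simp only [amap_mul, Matrix.mul_assoc]
        rw [amap_C (I.c R i) x]
        rfl
      have h2 : ∀ a b, I.l R (I.b (some i)) ^ (mm i + mm i) ∣ (cs (U' i) * Ψ * cs (V i)) a b := by
        intro a b
        rw [I.dvd_iff i ((hhom.C_mul (U' i)).mul_C (V i) a b)]
        have h3 := Loc.glue hG (hd i) (I.δ_cg i) (I.δ_unit i) (h.loc hF i) (h'.loc hF' i) hx hxx (by
          rw [lo_eq, lo_eq, st_smul, Matrix.mul_smul, Matrix.smul_mul, Matrix.smul_mul]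
          exact ((hq i).smul _).smul _) a b
        rw [← h1] at h3
        exact h3
      have h4 : Ψ = cs (V' i) * (cs (U' i) * Ψ * cs (V i)) * cs (U i) := by
        rw [← Matrix.mul_assoc, ← Matrix.mul_assoc, hVU', Matrix.one_mul, Matrix.mul_assoc, hVU, Matrix.mul_one]
      rw [h4]
      exact dvd_mul_mul h2 _ _ _ _
  obtain ⟨Y, hY1, hY2⟩ := I.exists_pw_quot (n := 360) (fun t : ι × ι => hhom t.1 t.2) hfam hdiv
  have hev : Ψ.map (ev R I.v0) = (algebraMap k R I.D0 * algebraMap k R I.D0) • x := by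
    rw [hΨ, amap_mul, amap_mul, st_amap, h.ev0, h'.ev0, amap_C, st_smul, hG.st_eq_inv tw_one (Matrix.mul_one 1)]
    simp only [Matrix.mul_smul, Matrix.smul_mul, Matrix.one_mul, Matrix.mul_one, smul_smul]
    rfl
  have h5 : Ψ = (I.Δ R * I.Δ R) • cs x := by
    ext1 a b
    have h6 := hY1 (a, b)
    have h7 : (Y (a, b)).IsHomogeneous 0 := hY2 (a, b)
    rw [I.pw_add] at h6
    have h8 := congrFun (congrFun hev a) b
    rw [Matrix.map_apply, h6, map_mul, map_mul, show ev R I.v0 (I.pw R eD) = _ from I.ev_Δ, Matrix.smul_apply,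
      smul_eq_mul] at h8
    rw [h6, hom_zero_eq h7 I.v0, (hD.mul hD).left h8]
    rfl
  have h9 : Φ' * cs x = cs x * Φ := by
    refine smul_cancel (hΔ.mul hΔ) ?_
    rw [← Matrix.smul_mul (I.Δ R * I.Δ R) (cs x) Φ, ← h5, hΨ, Matrix.mul_assoc _ (st A k Φ), hG.st_mul_self h.iso,
      Matrix.mul_smul, Matrix.mul_one]
  refine ⟨h9, fun γ => ?_⟩
  have h10 := congrArg (fun M : Matrix ι ι (Fm R) => M.map (I.s R γ)) h9
  simp only [amap_mul, h.inv, h'.inv, amap_C] at h10
  have h11 : (x.map (algebraMap R (Fm R))) = cs x := rfl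
  rw [h11, Matrix.mul_assoc, h9] at h10
  have h12 := congrArg (fun M : Matrix ι ι (Fm R) => M.map (ev R I.v0)) h10
  simp only [amap_mul, h.ev0, amap_C, ← fk_C, Matrix.mul_smul, Matrix.mul_one] at h12
  exact smul_cancel hD h12

end Cfsg.Agent.E8A.Reg5
end

-- part: E8A/Reg5/Sec
section
/-!
# Sections (helper42)

* `Sec I φ n x` : invariant sections of degree `n`; `Cd I d U i x` : the condition at the special point `i`;
* `Hs` : both; the trace form and the bracket of sections; division by invariant forms.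
-/

set_option autoImplicit false
set_option linter.unusedSectionVars false

namespace Cfsg.Agent.E8A.Reg5

open Matrix MvPolynomial Ico

universe u v w

variable {ι : Type} [Fintype ι] [DecidableEq ι] {A : ι → Matrix ι ι ℤ}
variable {k : Type u} [Field k] {R : Type v} [CommRing R] [Algebra k R] {S : Type w} [CommRing S] [Algebra k S]
variable {Γ P : Type} [Group Γ] [Fintype Γ] [Fintype P] {π : Γ →* A5}

section Loc

variable {d : ι → ℤ} {m : ℕ}

omit [Algebra k R] in
theorem GrB.kf_dvd (h : GrB A d m) {t : R} {y y' : ι → R} (hy : ∀ a, t ^ xp d m a ∣ y a) (hy' : ∀ a, t ^ xp d m a ∣ y' a) :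
    t ^ (m + m) ∣ kf A y y' := by
  rw [kf_eq_sum]
  refine Finset.dvd_sum fun a _ => Finset.dvd_sum fun b _ => ?_
  by_cases h0 : kil A R a b = 0
  · rw [h0, zero_mul]
    exact dvd_zero _
  · have h1 := h.gr.kil_ne h0
    have h2 := h.xp_cast a
    have h3 := h.xp_cast b
    rw [show m + m = xp d m a + xp d m b by omega, pow_add]
    exact Dvd.dvd.mul_left (mul_dvd_mul (hy a) (hy' b)) _

omit [Algebra k R] in
theorem GrB.br_dvd (h : GrB A d m) {t : R} {y y' : ι → R} (hy : ∀ a, t ^ xp d m a ∣ y a) (hy' : ∀ a, t ^ xp d m a ∣ y' a)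
    (c : ι) : t ^ (m + xp d m c) ∣ (ad A y *ᵥ y') c := by
  show _ ∣ ∑ b, ad A y c b * y' b
  refine Finset.dvd_sum fun b _ => ?_
  rw [ad_apply, Finset.sum_mul]
  refine Finset.dvd_sum fun j _ => ?_
  by_cases h0 : A j c b = 0
  · rw [h0, Int.cast_zero, mul_zero, zero_mul]
    exact dvd_zero _
  · have h1 := h.gr j c b h0
    have h2 := h.xp_cast j
    have h3 := h.xp_cast b
    have h4 := h.xp_cast c
    rw [show m + xp d m c = xp d m j + xp d m b by omega, pow_add, mul_right_comm]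
    exact Dvd.dvd.mul_right (mul_dvd_mul (hy j) (hy' b)) _

omit [Algebra k R] in
theorem kf_dvd_right {t : R} (y : ι → R) {y' : ι → R} (hy' : ∀ a, t ∣ y' a) : t ∣ kf A y y' := by
  rw [kf_eq_sum]
  exact Finset.dvd_sum fun a _ => Finset.dvd_sum fun b _ => Dvd.dvd.mul_left (Dvd.dvd.mul_left (hy' b) _) _

omit [Algebra k R] in
theorem dvd_mulVec {t : R} (M : Matrix ι ι R) {y : ι → R} (hy : ∀ a, t ∣ y a) (a : ι) : t ∣ (M *ᵥ y) a :=
  Finset.dvd_sum fun b _ => Dvd.dvd.mul_left (hy b) _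

end Loc

theorem amulVec_map {T : Type*} [CommSemiring T] [Algebra T R] [Algebra T S] (f : R →ₐ[T] S) (M : Matrix ι ι R)
    (x : ι → R) : (fun j => f ((M *ᵥ x) j)) = M.map f *ᵥ fun j => f (x j) := mulVec_map (f : R →+* S) M x

theorem aad_map {T : Type*} [CommSemiring T] [Algebra T R] [Algebra T S] (f : R →ₐ[T] S) (x : ι → R) :
    (ad A x).map f = ad A fun j => f (x j) := ad_map (f : R →+* S) x

theorem akf_map {T : Type*} [CommSemiring T] [Algebra T R] [Algebra T S] (f : R →ₐ[T] S) (x y : ι → R) :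
    f (kf A x y) = kf A (fun j => f (x j)) fun j => f (y j) := kf_map (f : R →+* S) x y

omit [Algebra k R] in
theorem hom_mulVec {n : ℕ} (M : Matrix ι ι R) {x : ι → Fm R} (hx : ∀ a, (x a).IsHomogeneous n) (a : ι) :
    ((cs M *ᵥ x) a).IsHomogeneous n := IsHomogeneous.sum _ _ _ fun c _ => (hx c).C_mul _

omit [Algebra k R] in
theorem hom_int (z : ℤ) : ((z : ℤ) : Fm R).IsHomogeneous 0 := by
  rw [← map_intCast (C : R →+* Fm R)]
  exact isHomogeneous_C _ _

omit [Algebra k R] in
theorem hom_br {n n' : ℕ} {x y : ι → Fm R} (hx : ∀ a, (x a).IsHomogeneous n) (hy : ∀ a, (y a).IsHomogeneous n')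
    (c : ι) : ((ad A x *ᵥ y) c).IsHomogeneous (n + n') := by
  refine IsHomogeneous.sum _ _ _ fun b _ => IsHomogeneous.mul ?_ (hy b)
  show (ad A x c b).IsHomogeneous n
  rw [ad_apply]
  exact IsHomogeneous.sum _ _ _ fun j _ => (hx j).mul (hom_int _)

omit [Algebra k R] in
theorem hom_kf {n n' : ℕ} {x y : ι → Fm R} (hx : ∀ a, (x a).IsHomogeneous n) (hy : ∀ a, (y a).IsHomogeneous n') :
    (kf A x y).IsHomogeneous (n + n') := by
  rw [kf_eq_sum, ← kil_map (C : R →+* Fm R)]
  exact IsHomogeneous.sum _ _ _ fun a _ => IsHomogeneous.sum _ _ _ fun b _ => ((hx a).mul (hy b)).C_mul _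

/-- invariant sections -/
structure Sec (I : Ico k Γ P π) (φ : Γ →* Matrix ι ι k) (n : ℕ) (x : ι → Fm R) : Prop where
  hom : ∀ a, (x a).IsHomogeneous n
  inv : ∀ γ, (fun a => I.s R γ (x a)) = fk (Fm R) (φ γ) *ᵥ x

/-- the condition at a special point -/
def Cd (I : Ico k Γ P π) (d : Fin 3 → ι → ℤ) (U : Fin 3 → Matrix ι ι R) (i : Fin 3) (x : ι → Fm R) : Prop :=
  ∀ a, I.l R (I.b (some i)) ^ xp (d i) (mm i) a ∣ (cs (U i) *ᵥ x) a

variable {I : Ico k Γ P π} {d : Fin 3 → ι → ℤ} {φ : Γ →* Matrix ι ι k} {U V : Fin 3 → Matrix ι ι R} {n n' : ℕ}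
  {x y : ι → Fm R}

theorem sec_zero : Sec I φ n (0 : ι → Fm R) where
  hom _ := isHomogeneous_zero _ _ _
  inv γ := by
    rw [Matrix.mulVec_zero]
    funext a
    exact map_zero _

theorem Sec.add (hx : Sec I φ n x) (hy : Sec I φ n y) : Sec I φ n (x + y) where
  hom a := (hx.hom a).add (hy.hom a)
  inv γ := by
    rw [Matrix.mulVec_add, ← hx.inv, ← hy.inv]
    funext a
    exact map_add _ _ _

theorem Sec.mul (hx : Sec I φ n x) {f : Fm R} (hf : f.IsHomogeneous n') (hi : ∀ γ, I.s R γ f = f) :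
    Sec I φ (n' + n) (f • x) where
  hom a := hf.mul (hx.hom a)
  inv γ := by
    rw [Matrix.mulVec_smul, ← hx.inv]
    funext a
    show I.s R γ (f * x a) = f * I.s R γ (x a)
    rw [map_mul, hi]

theorem smul_eq_C (c : R) (x : ι → Fm R) : c • x = (C c : Fm R) • x := by
  funext a
  exact smul_eq_C_mul _ _

theorem Sec.smul (hx : Sec I φ n x) (c : R) : Sec I φ n (c • x) := by
  have := hx.mul (isHomogeneous_C (Fin 2) c) (fun γ => I.s_C γ c)
  rwa [zero_add, ← smul_eq_C] at this

theorem Sec.fam (hx : Sec I φ n x) : I.Fam x := by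
  intro γ D hD a
  have h1 : x = fk (Fm R) (φ γ⁻¹) *ᵥ fun a => I.s R γ (x a) := by
    rw [hx.inv, Matrix.mulVec_mulVec, fk_inv', Matrix.one_mulVec]
  rw [h1]
  exact dvd_mulVec _ hD a

theorem Sec.map (hx : Sec I φ n x) (f : R →ₐ[k] S) : Sec I φ n fun a => mf f (x a) where
  hom a := mf_hom f (hx.hom a)
  inv γ := by
    rw [← fk_map (mf f), ← amulVec_map, ← hx.inv]
    funext a
    exact (I.mf_s f γ _).symm

theorem Sec.br (hφ : Rep A I φ) (hx : Sec I φ n x) (hy : Sec I φ n' y) : Sec I φ (n + n') (ad A x *ᵥ y) where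
  hom := hom_br hx.hom hy.hom
  inv γ := by
    rw [amulVec_map, aad_map, hx.inv, hy.inv, (hφ.tw γ).fk.br, one_smul]

theorem Sec.kf_inv (hφ : Rep A I φ) (hx : Sec I φ n x) (hy : Sec I φ n' y) (γ : Γ) : I.s R γ (kf A x y) = kf A x y := by
  rw [akf_map, hx.inv, hy.inv, (hφ.tw γ).fk.kf_same (fk_inv φ γ)]

theorem Sec.quot (hx : Sec I φ n x) {e : Option (Fin 3) → ℕ} (h : ∀ c a, I.l R (I.b c) ^ e c ∣ x a) :
    ∃ y, x = I.pw R e • y ∧ Sec I φ (n - dg e) y := by
  obtain ⟨y, h1, h2⟩ := I.exists_pw_quot hx.hom hx.fam h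
  have h3 : x = I.pw R e • y := _root_.funext h1
  refine ⟨y, h3, h2, fun γ => ?_⟩
  have h4 := hx.inv γ
  rw [h3, Matrix.mulVec_smul] at h4
  funext a
  have h5 := congrFun h4 a
  simp only [Pi.smul_apply, smul_eq_mul, map_mul, I.s_pw] at h5
  exact (I.pw_regular e).left h5

theorem cd_zero (i : Fin 3) : Cd I d U i 0 := fun a => by
  rw [Matrix.mulVec_zero]
  exact dvd_zero _

theorem Cd.add {i : Fin 3} (hx : Cd I d U i x) (hy : Cd I d U i y) : Cd I d U i (x + y) := fun a => by
  rw [Matrix.mulVec_add]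
  exact dvd_add (hx a) (hy a)

theorem Cd.mul {i : Fin 3} (hx : Cd I d U i x) (f : Fm R) : Cd I d U i (f • x) := fun a => by
  rw [Matrix.mulVec_smul]
  exact Dvd.dvd.mul_left (hx a) f

theorem Cd.map {i : Fin 3} (hx : Cd I d U i x) (f : R →ₐ[k] S) : Cd I d (fun i => (U i).map f) i fun a => mf f (x a) := by
  intro a
  have := map_dvd (mf f) (hx a)
  rw [map_pow, I.mf_l] at this
  rw [← C_map_mf, ← amulVec_map]
  exact this

theorem Frm.cs_inv (hF : Frm A I d φ U V) (i : Fin 3) : cs (U i) * cs (V i) = 1 := by rw [← C_mul', hF.inv, C_one']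

theorem Frm.cs_tw (hF : Frm A I d φ U V) (i : Fin 3) : Tw A 1 (cs (U i)) := (hF.tw i).map1 (C : R →+* Fm R)

theorem Frm.dvd_of (hF : Frm A I d φ U V) (i : Fin 3) {D : Fm R} (h : ∀ a, D ∣ (cs (U i) *ᵥ x) a) (a : ι) : D ∣ x a := by
  have h1 : x = cs (V i) *ᵥ (cs (U i) *ᵥ x) := by
    rw [Matrix.mulVec_mulVec, mul_eq_one_comm.1 (hF.cs_inv i), Matrix.one_mulVec]
  rw [h1]
  exact dvd_mulVec _ h a

theorem Cd.kf_dvd (hd : ∀ i, GrB A (d i) (mm i)) (hF : Frm A I d φ U V) {i : Fin 3} (hx : Cd I d U i x)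
    (hy : Cd I d U i y) : I.l R (I.b (some i)) ^ (mm i + mm i) ∣ kf A x y := by
  rw [← (hF.cs_tw i).kf_same (hF.cs_inv i)]
  exact (hd i).kf_dvd hx hy

theorem Cd.br_dvd (hd : ∀ i, GrB A (d i) (mm i)) (hF : Frm A I d φ U V) {i : Fin 3} (hx : Cd I d U i x)
    (hy : Cd I d U i y) (a : ι) :
    I.l R (I.b (some i)) ^ (mm i + xp (d i) (mm i) a) ∣ (cs (U i) *ᵥ (ad A x *ᵥ y)) a := by
  have h1 := (hF.cs_tw i).br x y
  rw [one_smul] at h1
  rw [← h1]
  exact (hd i).br_dvd hx hy a

omit [Algebra k R] in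
theorem X_pow_dvd_of_unit {δ f : Polynomial R} (hu : IsUnit (δ.coeff 0)) {a : ℕ} (h : Polynomial.X ^ a ∣ δ * f) :
    Polynomial.X ^ a ∣ f := by
  refine IsCoprime.dvd_of_dvd_mul_left (IsCoprime.pow_left ?_) h
  obtain ⟨c, hc⟩ := hu.exists_left_inv
  refine ⟨-(Polynomial.C c * δ.divX), Polynomial.C c, ?_⟩
  have h1 := Polynomial.divX_mul_X_add δ
  have h2 : Polynomial.C c * Polynomial.C (δ.coeff 0) = 1 := by rw [← map_mul, hc, map_one]
  linear_combination h2 - Polynomial.C c * h1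

theorem pw_unit (i : Fin 3) {e : Option (Fin 3) → ℕ} (he : e (some i) = 0) : IsUnit ((I.c R i (I.pw R e)).coeff 0) := by
  unfold Ico.c
  rw [coeff_zero_ch, I.ev_pw]
  refine isUnit_algebraMap (Finset.prod_ne_zero_iff.2 fun x _ => ?_)
  by_cases h : x = I.b (some i)
  · rw [h, I.b_cl, he, pow_zero]
    exact one_ne_zero
  · exact pow_ne_zero _ (I.indep _ _ h)

theorem Cd.of_pw {i : Fin 3} {e : Option (Fin 3) → ℕ} (he : e (some i) = 0) (hy : ∀ a, (y a).IsHomogeneous n)
    (h : Cd I d U i (I.pw R e • y)) : Cd I d U i y := by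
  intro a
  have h1 := map_dvd (I.c R i) (h a)
  rw [Matrix.mulVec_smul, map_pow, I.c_l, Pi.smul_apply, smul_eq_mul, map_mul] at h1
  rw [I.dvd_iff i (hom_mulVec _ hy a)]
  exact X_pow_dvd_of_unit (pw_unit i he) h1

theorem Cd.of_Δ {i : Fin 3} (hy : ∀ a, (y a).IsHomogeneous n)
    (h : ∀ a, I.l R (I.b (some i)) ^ (mm i + xp (d i) (mm i) a) ∣ (cs (U i) *ᵥ (I.Δ R • y)) a) : Cd I d U i y := by
  intro a
  have h1 := map_dvd (I.c R i) (h a)
  rw [Matrix.mulVec_smul, map_pow, I.c_l, Pi.smul_apply, smul_eq_mul, map_mul, I.c_Δ, pow_add, mul_assoc] at h1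
  obtain ⟨z, hz⟩ := h1
  rw [mul_assoc] at hz
  rw [I.dvd_iff i (hom_mulVec _ hy a)]
  exact X_pow_dvd_of_unit (I.δ_unit i) ⟨z, (Polynomial.isRegular_X_pow _).left hz⟩

/-- sections which satisfy all conditions -/
structure Hs (I : Ico k Γ P π) (d : Fin 3 → ι → ℤ) (φ : Γ →* Matrix ι ι k) (U : Fin 3 → Matrix ι ι R) (n : ℕ)
    (x : ι → Fm R) : Prop where
  sec : Sec I φ n x
  cd : ∀ i, Cd I d U i x

theorem Hs.kf_eq_zero (hd : ∀ i, GrB A (d i) (mm i)) (hφ : Rep A I φ) (hF : Frm A I d φ U V) (hx : Hs I d φ U n x)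
    (hy : Hs I d φ U n' y) (h : n + n' < 360) : kf A x y = 0 := by
  refine I.eq_zero_of_deg (W := fun _ : Unit => kf A x y) (fun _ => hom_kf hx.sec.hom hy.sec.hom)
    (I.fam_of_inv (hx.sec.kf_inv hφ hy.sec)) (e := eD + eD) ?_ h ()
  rintro (_ | i) _
  · show _ ^ 0 ∣ _
    rw [pow_zero]
    exact one_dvd _
  · exact (hx.cd i).kf_dvd hd hF (hy.cd i)

theorem Hs.kf_eq (hd : ∀ i, GrB A (d i) (mm i)) (hφ : Rep A I φ) (hF : Frm A I d φ U V) (hx : Hs I d φ U 180 x)
    (hy : Hs I d φ U 180 y) : ∃ c : R, kf A x y = I.Δ R * I.Δ R * C c := by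
  obtain ⟨Y, h1, h2⟩ := I.exists_pw_quot (W := fun _ : Unit => kf A x y) (fun _ => hom_kf hx.sec.hom hy.sec.hom)
    (I.fam_of_inv (hx.sec.kf_inv hφ hy.sec)) (e := eD + eD) (by
      rintro (_ | i) _
      · show _ ^ 0 ∣ _
        rw [pow_zero]
        exact one_dvd _
      · exact (hx.cd i).kf_dvd hd hF (hy.cd i))
  refine ⟨ev R I.v0 (Y ()), ?_⟩
  have h3 : (Y ()).IsHomogeneous 0 := h2 ()
  rw [← hom_zero_eq h3 I.v0, h1 (), I.pw_add]
  rfl

theorem Hs.br (hd : ∀ i, GrB A (d i) (mm i)) (hφ : Rep A I φ) (hF : Frm A I d φ U V) (hx : Hs I d φ U n x)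
    (hy : Hs I d φ U n' y) : ∃ z, ad A x *ᵥ y = I.Δ R • z ∧ Hs I d φ U (n + n' - 180) z := by
  have h0 := fun i => (hx.cd i).br_dvd hd hF (hy.cd i)
  obtain ⟨z, h1, h2⟩ := (hx.sec.br hφ hy.sec).quot (e := eD) (by
    rintro (_ | i) a
    · show _ ^ 0 ∣ _
      rw [pow_zero]
      exact one_dvd _
    · exact hF.dvd_of i (fun b => (pow_dvd_pow _ (Nat.le_add_right _ _)).trans (h0 i b)) a)
  refine ⟨z, h1, h2, fun i => Cd.of_Δ h2.hom fun a => ?_⟩
  have h3 := h0 i a
  rwa [h1] at h3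

theorem Hs.quot (hx : Hs I d φ U n x) (h0 : ∀ a, ev R I.v0 (x a) = 0) : ∃ y, x = I.Q R • y ∧ Hs I d φ U (n - 60) y := by
  obtain ⟨y, h1, h2⟩ := hx.sec.quot (e := eQ) (by
    rintro (_ | i) a
    · obtain ⟨w, hw⟩ := I.exists_w (I.b none)
      show lf R _ ^ 1 ∣ _
      rw [lf_pow_dvd_iff hw (hx.sec.hom a), pow_one, Polynomial.X_dvd_iff, coeff_zero_ch]
      exact h0 a
    · show _ ^ 0 ∣ _
      rw [pow_zero]
      exact one_dvd _)
  refine ⟨y, h1, h2, fun i => Cd.of_pw (e := eQ) rfl h2.hom ?_⟩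
  rw [← h1]
  exact hx.cd i

end Cfsg.Agent.E8A.Reg5
end

-- part: E8A/Reg5/Iface2
section
/-!
# `UNIQ`: the second layer of boxes (helper42)

See `notes/E8A/reg5b.md`.
-/

set_option autoImplicit false

namespace Cfsg.Agent.E8A.Reg5

open Cfsg Cfsg.Lie Matrix
open Cfsg.Agent.LangThm (van rk)
open Cfsg.Agent.ChevalleyStructure.JacMain (adA)

universe u

/-- the structure constants of `E₈` -/
noncomputable abbrev A8 : chevE8.Idx → Matrix chevE8.Idx chevE8.Idx ℤ := adA chevE8

/-- the coordinates of a family of matrices -/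
def coM {T ι R : Type*} (g : T → Matrix ι ι R) : T × ι × ι → R := fun t => g t.1 t.2.1 t.2.2

/-- the algebra map to the dual numbers given by a derivation -/
noncomputable def dual {k K : Type u} [Field k] [Field K] [Algebra k K] (D : Derivation k K K) :
    K →ₐ[k] DualNumber K where
  toFun a := TrivSqZeroExt.inl a + TrivSqZeroExt.inr (D a)
  map_one' := by ext <;> simp
  map_mul' a b := by ext <;> simp [Derivation.leibniz, mul_comm]
  map_zero' := by ext <;> simp only [_root_.TrivSqZeroExt.inl_zero, _root_.map_zero, _root_.DualNumber.inr_eq_smul_eps, _root_.zero_smul, _root_.add_zero, _root_.TrivSqZeroExt.fst_zero, _root_.TrivSqZeroExt.snd_zero]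
  map_add' a b := by ext <;> simp
  commutes' c := by ext <;> simp [TrivSqZeroExt.algebraMap_eq_inl', Derivation.map_algebraMap]

/-- the inclusion in the dual numbers -/
noncomputable abbrev inD (k K : Type u) [Field k] [Field K] [Algebra k K] : K →ₐ[k] DualNumber K :=
  TrivSqZeroExt.inlAlgHom k K K

/-- The frames can be moved in all directions of lowest degree. -/
def Mov {ι : Type} [Fintype ι] [DecidableEq ι] (A : ι → Matrix ι ι ℤ) (d : Fin 3 → ι → ℤ) (k : Type u) {K : Type u} [Field k]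
    [Field K] [Algebra k K] (U : Fin 3 → Matrix ι ι K) : Prop :=
  ∀ (i : Fin 3) (β : ι), d i β = -(mm i : ℤ) → ∃ f : K →ₐ[k] DualNumber K, (∀ a, (f a).fst = a) ∧
    (∀ j, j ≠ i → (U j).map f = (U j).map (inD k K)) ∧
    (U i).map (inD k K) = (1 + (DualNumber.eps : DualNumber K) • ad A (Pi.single β (1 : DualNumber K))) * (U i).map f

/-- the number of the linear conditions -/
def Cnt {ι : Type} [Fintype ι] (d : Fin 3 → ι → ℤ) : Prop :=
  ∑ i : Fin 3, ((Finset.univ.filter fun a => d i a ≤ 0).card + (Finset.univ.filter fun a => d i a = -(mm i : ℤ)).card) ≤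
    2 * Fintype.card ι

/-- **TRIV**: the trivialization (helper42). -/
def TRIV : Prop := ∀ (ι : Type) [Fintype ι] [DecidableEq ι] (A : ι → Matrix ι ι ℤ) (k K : Type u) [Field k] [Field K]
  [Algebra k K] (Γ P : Type) [Group Γ] [Fintype Γ] [Fintype P] (π : Γ →* A5) (I : Ico k Γ P π) (d : Fin 3 → ι → ℤ)
  (φ : Γ →* Matrix ι ι k) (U V : Fin 3 → Matrix ι ι K), Good A k → (∀ i, GrB A (d i) (mm i)) → Rep A I φ →
    Frm A I d φ U V → (∀ v : ι → k, (∀ γ, φ γ *ᵥ v = v) → v = 0) →
    (∀ h : ι → K, ad A h * ad A h * ad A h = ad A h → h = 0) → Cnt d → Mov A d k U → ∃ Φ, Str A I d φ U Φ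

/-- **INST**: the hypotheses hold for `E₈`. -/
def INST : Prop := (∀ (k : Type u) [Field k] (p : ℕ) [CharP k p], 7 ≤ p → Good A8 k) ∧ (∀ i, GrB A8 (lam i) (mm i)) ∧
  Cnt lam ∧ Fintype.card {t : Fin 3 × chevE8.Idx // lam t.1 t.2 = -(mm t.1 : ℤ)} = 26

/-- **PAR**: a generic point of `G × P₀ × P₁ × P₂` (`718 = 248 + 170 + 156 + 144`). -/
def PAR : Prop := ∀ (k : Type u) [Field k] [IsAlgClosed k], ∃ (Ω : Type u) (_ : Field Ω) (_ : Algebra k Ω)
  (g g' : Option (Fin 3) → Matrix chevE8.Idx chevE8.Idx Ω), (∀ c, g c * g' c = 1) ∧ (∀ c, Tw A8 1 (g c)) ∧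
    (∀ i, Sh (lam i) (· ≤ 0) (g (some i))) ∧ (∀ i, Sh (lam i) (· ≤ 0) (g' (some i))) ∧
    IntermediateField.adjoin k (Set.range (coM g)) = ⊤ ∧ 718 ≤ rk k (coM g)

/-- **EXT**: adjoining independent elements. -/
def EXT : Prop := ∀ (k Ω : Type u) [Field k] [Field Ω] [Algebra k Ω] (T σ : Type) [Finite T] [Fintype σ] [DecidableEq σ]
  (x : T → Ω), IntermediateField.adjoin k (Set.range x) = ⊤ →
    ∃ (K : Type u) (_ : Field K) (_ : Algebra k K) (j : Ω →ₐ[k] K) (b : σ → K),
      IntermediateField.adjoin k (Set.range (Sum.elim b fun t => j (x t))) = ⊤ ∧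
      (Fintype.card σ : ℕ∞) + rk k x ≤ rk k (Sum.elim b fun t => j (x t)) ∧
      ∀ s, ∃ D : Derivation k K K, ∀ t, D (b t) = if t = s then 1 else 0

/-- **DER**: the rank from derivations. -/
def DER : Prop := ∀ (k K : Type u) [Field k] [Field K] [Algebra k K] (T T' : Type) [Finite T] (x : T → K) (y : T' → K),
  IntermediateField.adjoin k (Set.range x) = ⊤ → (∀ D : Derivation k K K, (∀ t, D (y t) = 0) → ∀ t, D (x t) = 0) →
    rk k x ≤ rk k y

/-- **AMAL**: points with the same vanishing ideal become equal in a common extension. -/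
def AMAL : Prop := ∀ (k Ω Ω' : Type u) [Field k] [Field Ω] [Field Ω'] [Algebra k Ω] [Algebra k Ω'] (T : Type) (v : T → Ω)
  (v' : T → Ω'), van k v = van k v' → ∃ (K : Type u) (_ : Field K) (_ : Algebra k K) (f : Ω →ₐ[k] K) (f' : Ω' →ₐ[k] K),
    ∀ t, f (v t) = f' (v' t)

/-- **SPEC**: specialization of an intertwining automorphism. -/
def SPEC : Prop := ∀ (ι : Type) [Fintype ι] [DecidableEq ι] (A : ι → Matrix ι ι ℤ) (k K : Type u) [Field k] [IsAlgClosed k]
  [Field K] [Algebra k K] (T : Type) (φ φ' : T → Matrix ι ι k) (x x' : Matrix ι ι K), x * x' = 1 → Tw A 1 x →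
    (∀ t, fk K (φ' t) * x = x * fk K (φ t)) →
    ∃ y y' : Matrix ι ι k, y * y' = 1 ∧ Tw A 1 y ∧ ∀ t, φ' t * y = y * φ t

/-- **FIN**: the assembly. -/
def FIN : Prop := TRIV.{u} → INST.{u} → PAR.{u} → EXT.{u} → DER.{u} → AMAL.{u} → SPEC.{u} → ICO.{u} → AUT.{u} → N3.{u} →
  CLS.{u} → GEN.{u} → UNIQ.{u}

end Cfsg.Agent.E8A.Reg5
end

private theorem dce_6cbc0d0b5340 : _root_.True := by
  try have : _root_.True := by simp only [_root_.Cfsg.Agent.E8A.Reg5.st.congr_simp]
  try have : _root_.True := by simp only [_root_.Cfsg.Agent.E8A.Reg5.Ico.ζ.eq_1]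
  try have : _root_.True := by simp only [_root_.Cfsg.Agent.E8A.Reg5.ex.eq_1]
  try have : _root_.True := by simp only [_root_.Cfsg.Agent.E8A.Reg5.mm.eq_1]
  try have : _root_.True := by simp only [_root_.Cfsg.Agent.E8A.Reg5.mo.eq_1]
  try have : _root_.True := by simp only [_root_.Cfsg.Agent.E8A.Reg5.kin.congr_simp]
  try have : _root_.True := by simp only [_root_.Cfsg.Agent.E8A.Reg5.kil.eq_1]
  try have : _root_.True := by simp only [_root_.Cfsg.Agent.E8A.Reg5.ad.eq_1]
  try have : _root_.True := by simp only [_root_.Cfsg.Agent.E8A.Reg5.Ico.sz.eq_1]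
  exact _root_.True.intro
end

-- part: E8A/Reg5/Dim
section
prune_inst 0x21404404312202000018859073201e2296000002000b8c00c5e10b0e03c1244029430e21bb30070340a004404038042813100000420000000a2004004005010000800000f089010002009e000000000000000000000000000000008000020004000000000
set_option linter.all false
open scoped Cfsg.Agent.FastGrp

/-!
# Dimensions of the spaces of sections (helper42)
-/

set_option autoImplicit false
set_option linter.unusedSectionVars false

namespace Cfsg.Agent.E8A.Reg5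

open Matrix MvPolynomial Ico Module

universe u

section Lin

variable {K M N : Type*} [Field K] [AddCommGroup M] [Module K M] [AddCommGroup N] [Module K N]

theorem finrank_eq_map_add (W : Submodule K M) [FiniteDimensional K W] (f : M →ₗ[K] N) :
    finrank K W = finrank K (W.map f) + finrank K (W ⊓ LinearMap.ker f : Submodule K M) := by
  rw [← (f.domRestrict W).finrank_range_add_finrank_ker, LinearMap.range_domRestrict, LinearMap.ker_domRestrict,
    ← Submodule.finrank_map_subtype_eq, Submodule.map_comap_subtype]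

theorem finrank_ge_map_add {W W' : Submodule K M} [FiniteDimensional K W] (f : M →ₗ[K] N) {g : M →ₗ[K] M}
    (hg : Function.Injective g) (h : ∀ x ∈ W', g x ∈ W ∧ f (g x) = 0) :
    finrank K (W.map f) + finrank K W' ≤ finrank K W := by
  rw [finrank_eq_map_add W f, (Submodule.equivMapOfInjective g hg W').finrank_eq]
  have : FiniteDimensional K (W ⊓ LinearMap.ker f : Submodule K M) := Submodule.finiteDimensional_inf_left _ _
  refine Nat.add_le_add_left (Submodule.finrank_mono ?_) _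
  rintro _ ⟨x, hx, rfl⟩
  exact h x hx

theorem finrank_le_map_add {W W' : Submodule K M} [FiniteDimensional K W] [FiniteDimensional K W'] (f : M →ₗ[K] N)
    (g : M →ₗ[K] M) (h : ∀ x ∈ W, f x = 0 → ∃ y ∈ W', g y = x) : finrank K W ≤ finrank K (W.map f) + finrank K W' := by
  rw [finrank_eq_map_add W f]
  refine Nat.add_le_add_left (le_trans (Submodule.finrank_mono (t := W'.map g) ?_) (Submodule.finrank_map_le g W')) _
  rintro x ⟨h1, h2⟩
  exact h x h1 h2

end Lin

variable {ι : Type} [Fintype ι] [DecidableEq ι] {A : ι → Matrix ι ι ℤ}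
variable {k : Type u} [Field k] {K : Type u} [Field K] [Algebra k K]
variable {Γ P : Type} [Group Γ] [Fintype Γ] [Fintype P] {π : Γ →* A5}
variable {I : Ico k Γ P π} {d : Fin 3 → ι → ℤ} {φ : Γ →* Matrix ι ι k} {U V : Fin 3 → Matrix ι ι K}

variable (I φ K) in
/-- the invariant sections -/
noncomputable def VS (n : ℕ) : Submodule K (ι → Fm K) where
  carrier := {x | Sec I φ n x}
  add_mem' := Sec.add
  zero_mem' := sec_zero
  smul_mem' c _ hx := Sec.smul hx c

variable (I d φ U) in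
/-- the sections -/
noncomputable def HS (n : ℕ) : Submodule K (ι → Fm K) where
  carrier := {x | Hs I d φ U n x}
  add_mem' hx hy := ⟨hx.sec.add hy.sec, fun i => (hx.cd i).add (hy.cd i)⟩
  zero_mem' := ⟨sec_zero, cd_zero⟩
  smul_mem' c _ hx := ⟨hx.sec.smul c, fun i => by rw [smul_eq_C]; exact (hx.cd i).mul _⟩

variable (I K ι) in
/-- the value at the free point -/
noncomputable def evv : (ι → Fm K) →ₗ[K] (ι → K) := (ev K I.v0).toLinearMap.compLeft ι

theorem evv_apply (x : ι → Fm K) : evv ι K I x = fun a => ev K I.v0 (x a) := rfl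

variable (ι) in
/-- multiplication by a form -/
noncomputable def mF (f : Fm K) : (ι → Fm K) →ₗ[K] (ι → Fm K) := (LinearMap.lsmul (Fm K) (ι → Fm K) f).restrictScalars K

theorem mF_apply (f : Fm K) (x : ι → Fm K) : mF ι f x = f • x := rfl

theorem evv_smul (f : Fm K) (x : ι → Fm K) : evv ι K I (f • x) = ev K I.v0 f • evv ι K I x := by
  funext a
  exact map_mul (ev K I.v0) _ _

theorem fin_VS (n : ℕ) : FiniteDimensional K (VS K I φ n) := by
  have h1 : (Submodule.pi Set.univ fun _ : ι => homogeneousSubmodule (Fin 2) K n).FG :=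
    Submodule.fg_pi fun _ => homogeneousSubmodule_fg _ _ n
  have h2 := Module.Finite.iff_fg.2 h1
  exact Submodule.finiteDimensional_of_le (S₂ := Submodule.pi Set.univ fun _ : ι => homogeneousSubmodule (Fin 2) K n)
    fun x hx a _ => Sec.hom hx a

theorem fin_HS (n : ℕ) : FiniteDimensional K (HS I d φ U n) :=
  have := fin_VS (K := K) (I := I) (φ := φ) n
  Submodule.finiteDimensional_of_le (S₂ := VS K I φ n) fun _ hx => Hs.sec hx

theorem ev_Q : ev K I.v0 (I.Q K) = 0 := by
  unfold Ico.Q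
  rw [I.ev_pw, Finset.prod_eq_zero (Finset.mem_univ (I.b none)), map_zero]
  rw [I.b_cl]
  show dt I.v0 I.v0 ^ 1 = 0
  rw [dt_self, pow_one]

variable (I K) in
theorem exists_form (e : ℕ) : ∃ f : Fm K, f.IsHomogeneous (60 * (e + 1)) ∧ ev K I.v0 f ≠ 0 ∧
    ∀ x, I.cl x = none → x ≠ I.b none → ev K (I.v x) f = 0 := by
  classical
  let s := (Finset.univ.filter fun x => I.cl x = none).erase (I.b none)
  have hs : s.card = 59 := by
    have h0 : I.b none ∈ Finset.univ.filter fun x => I.cl x = none := Finset.mem_filter.2 ⟨Finset.mem_univ _, I.b_cl _⟩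
    rw [Finset.card_erase_of_mem h0, I.card_cl]
    rfl
  refine ⟨(∏ x ∈ s, lf K (I.v x) ^ 1) * lf K (I.v (I.b (some 0))) ^ (60 * e + 1), ?_, ?_, fun x h1 h2 => ?_⟩
  · have := (prod_hom (R := K) I.v (fun _ => 1) s).mul ((lf_hom (R := K) (I.v (I.b (some 0)))).pow (60 * e + 1))
    rwa [Finset.sum_const, hs, show 59 • 1 + 1 * (60 * e + 1) = 60 * (e + 1) by rw [smul_eq_mul]; ring] at this
  · rw [map_mul, map_prod, map_pow, ev_lf]
    refine mul_ne_zero (Finset.prod_ne_zero_iff.2 fun x hx => ?_) (pow_ne_zero _ ?_)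
    · rw [pow_one, ev_lf]
      exact (isUnit_algebraMap (I.indep _ _ (Finset.ne_of_mem_erase hx))).ne_zero
    · refine (isUnit_algebraMap (I.indep _ _ fun h => ?_)).ne_zero
      have := I.b_cl (some 0)
      rw [h, I.b_cl] at this
      cases this
  · rw [map_mul, map_prod, Finset.prod_eq_zero (i := x), zero_mul]
    · exact Finset.mem_erase.2 ⟨h2, Finset.mem_filter.2 ⟨Finset.mem_univ _, h1⟩⟩
    · rw [pow_one, ev_lf, dt_self, map_zero]

theorem exists_sec (hG : Good A k) (hφ : Rep A I φ) (e : ℕ) (w : ι → K) :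
    ∃ x ∈ VS K I φ (60 * (e + 1)), evv ι K I x = w := by
  classical
  obtain ⟨f, h1, h2, h3⟩ := exists_form K I e
  have h4 : (2 : K) ≠ 0 := by
    have := (isUnit_algebraMap (R := K) hG.two).ne_zero
    rwa [map_ofNat] at this
  let w' : ι → K := (2 * ev K I.v0 f)⁻¹ • w
  have hC : ∀ γ, fk (Fm K) (φ γ) *ᵥ (fun a => C (w' a)) = fun a => C ((fk K (φ γ) *ᵥ w') a) := fun γ =>
    (mulVec_map (C : K →+* Fm K) (fk K (φ γ)) w').symm
  refine ⟨∑ γ, I.s K γ f • (fk (Fm K) (φ γ⁻¹) *ᵥ fun a => C (w' a)), ⟨fun a => ?_, fun γ' => ?_⟩, ?_⟩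
  · rw [Finset.sum_apply]
    refine IsHomogeneous.sum _ _ _ fun γ _ => ?_
    rw [hC]
    exact (I.s_hom γ h1).mul (isHomogeneous_C _ _)
  · rw [Matrix.mulVec_sum]
    conv_rhs => rw [← Equiv.sum_comp (Equiv.mulRight γ')]
    funext a
    rw [Finset.sum_apply, Finset.sum_apply, map_sum]
    refine Finset.sum_congr rfl fun γ _ => ?_
    rw [Matrix.mulVec_smul, Matrix.mulVec_mulVec, ← fk_mul, ← map_mul, Equiv.coe_mulRight, _root_.mul_inv_rev,
      mul_inv_cancel_left, hC, Pi.smul_apply, Pi.smul_apply, smul_eq_mul, smul_eq_mul, map_mul, I.s_s, I.s_C]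
  · have h5 : ∀ γ, evv ι K I (I.s K γ f • (fk (Fm K) (φ γ⁻¹) *ᵥ fun a => C (w' a))) =
        ev K ((I.ρ γ).1 *ᵥ I.v0) f • (fk K (φ γ⁻¹) *ᵥ w') := by
      intro γ
      rw [evv_smul, hC, ← ev_sb]
      congr 1
      funext a
      exact ev_C _ _
    rw [map_sum, Finset.sum_eq_add_of_mem 1 I.z (Finset.mem_univ _) (Finset.mem_univ _) I.z_ne.symm]
    · have h6 : φ I.z⁻¹ = 1 := by rw [← mul_one (φ I.z⁻¹), ← hφ.z, ← map_mul, inv_mul_cancel, map_one, hφ.z]
      rw [h5, h5, inv_one, map_one φ, h6, fk_one, Matrix.one_mulVec, map_one, I.ρ_z, Matrix.neg_mulVec,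
        show (1 : _root_.Matrix.SpecialLinearGroup (Fin 2) k).1 = 1 from rfl, Matrix.one_mulVec, ← neg_one_smul k I.v0, ev_smul h1,
        Even.neg_one_pow ⟨30 * (e + 1), by ring⟩, map_one, one_mul, ← add_smul, ← two_mul, smul_smul,
        mul_inv_cancel₀ (mul_ne_zero h4 h2), one_smul]
    · intro γ _ hγ
      rw [h5]
      unfold Ico.v0
      rw [I.mv_v, ev_smul h1, h3 _ (by rw [I.mv_cl, I.b_cl]) (fun h => (I.free γ h).elim hγ.1 hγ.2), mul_zero, zero_smul]

theorem le_finrank_VS (hG : Good A k) (hφ : Rep A I φ) (e : ℕ) : e * Fintype.card ι ≤ finrank K (VS K I φ (60 * e)) := by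
  induction e with
  | zero => rw [zero_mul]; exact Nat.zero_le _
  | succ e ih =>
    have := fin_VS (K := K) (I := I) (φ := φ) (60 * (e + 1))
    have h1 := finrank_ge_map_add (W := VS K I φ (60 * (e + 1))) (W' := VS K I φ (60 * e)) (evv ι K I)
      (g := mF ι (I.Q K)) (fun x y h => _root_.funext fun a => (I.pw_regular eQ).left (congrFun h a)) (fun x hx => by
        refine ⟨?_, by rw [mF_apply, evv_smul, ev_Q, zero_smul]⟩
        have := Sec.mul hx (I.pw_hom eQ) (fun γ => I.s_pw γ eQ)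
        rwa [dg_eQ, show 60 + 60 * e = 60 * (e + 1) by ring] at this)
    rw [show (VS K I φ (60 * (e + 1))).map (evv ι K I) = ⊤ from eq_top_iff.2 fun w _ => exists_sec hG hφ e w,
      finrank_top, Module.finrank_fintype_fun_eq_card] at h1
    rw [add_mul, one_mul]
    omega

theorem finrank_VS_le (hd : ∀ i, GrB A (d i) (mm i)) (hF : Frm A I d φ U V) (hc : Cnt d) (e : ℕ) :
    finrank K (VS K I φ (60 * e)) ≤ finrank K (HS I d φ U (60 * e)) + 2 * Fintype.card ι := by
  have := fin_VS (K := K) (I := I) (φ := φ) (60 * e)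
  have := fin_HS (I := I) (d := d) (φ := φ) (U := U) (60 * e)
  let T : Type := Σ i : Fin 3, {a // d i a ≤ 0} ⊕ {a // d i a = -(mm i : ℤ)}
  let L : Fin 3 → ι → ℕ → (ι → Fm K) →ₗ[K] K := fun i a n =>
    Polynomial.lcoeff K n ∘ₗ (I.c K i).toLinearMap ∘ₗ LinearMap.proj a ∘ₗ (Matrix.mulVecLin (cs (U i))).restrictScalars K
  let f : (ι → Fm K) →ₗ[K] (T → K) := LinearMap.pi fun t =>
    Sum.elim (fun a => L t.1 a.1 (-d t.1 a.1).toNat) (fun a => L t.1 a.1 0) t.2
  have h1 := finrank_le_map_add (W := VS K I φ (60 * e)) (W' := HS I d φ U (60 * e)) f LinearMap.id (fun x hx h0 => by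
    refine ⟨x, ⟨hx, fun i a => ?_⟩, rfl⟩
    rw [I.dvd_iff i (hom_mulVec _ hx.hom a), Polynomial.X_pow_dvd_iff]
    intro n hn
    by_contra h2
    obtain ⟨t, ht⟩ := hF.cg i hx.hom (hx.inv _) a n h2
    have h3 := (hd i).xp_cast a
    have h4 := (hd i).lb a
    have h5 : (0 : ℤ) < mm i := Int.natCast_pos.2 (mm_pos i)
    have h6 : t < 1 := by
      by_contra h7
      have := Int.mul_le_mul_of_nonneg_left (not_lt.1 h7) h5.le
      omega
    have h7 : -1 ≤ t := by
      by_contra h7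
      have := Int.mul_le_mul_of_nonneg_left (show t ≤ -2 by omega) h5.le
      omega
    apply h2
    rcases (show t = 0 ∨ t = -1 by omega) with rfl | rfl
    · rw [show n = (-d i a).toNat by omega]
      exact congrFun h0 ⟨i, Sum.inl ⟨a, by omega⟩⟩
    · rw [show n = 0 by omega]
      exact congrFun h0 ⟨i, Sum.inr ⟨a, by omega⟩⟩)
  have h2 := Submodule.finrank_le ((VS K I φ (60 * e)).map f)
  have h3 : Fintype.card T ≤ 2 * Fintype.card ι := by
    refine le_trans (le_of_eq ?_) hc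
    rw [Fintype.card_sigma]
    exact Finset.sum_congr rfl fun i _ => by rw [Fintype.card_sum, Fintype.card_subtype, Fintype.card_subtype]
  rw [Module.finrank_fintype_fun_eq_card] at h2
  omega

theorem finrank_HS_succ (e : ℕ) : finrank K (HS I d φ U (60 * (e + 1))) ≤
    finrank K ((HS I d φ U (60 * (e + 1))).map (evv ι K I)) + finrank K (HS I d φ U (60 * e)) := by
  have := fin_HS (I := I) (d := d) (φ := φ) (U := U) (60 * e)
  have := fin_HS (I := I) (d := d) (φ := φ) (U := U) (60 * (e + 1))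
  refine finrank_le_map_add _ (mF ι (I.Q K)) fun x hx h0 => ?_
  obtain ⟨y, h1, h2⟩ := Hs.quot hx (congrFun h0)
  exact ⟨y, h2, h1.symm⟩

theorem fix_eq_zero (I : Ico k Γ P π) (h : ∀ v : ι → k, (∀ γ, φ γ *ᵥ v = v) → v = 0) {R : Type*} [CommRing R] [Algebra k R]
    {w : ι → R} (hw : ∀ γ, fk R (φ γ) *ᵥ w = w) : w = 0 := by
  have h1 : ∑ γ, φ γ = 0 := ext_mulVec fun j => by
    rw [Matrix.zero_mulVec]
    refine h _ fun γ => ?_
    rw [Matrix.mulVec_mulVec, Finset.mul_sum, ← Equiv.sum_comp (Equiv.mulLeft γ) fun γ => φ γ]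
    simp only [← map_mul, Equiv.coe_mulLeft]
  have h2 : ∑ γ, fk R (φ γ) = 0 := by
    ext a b
    have := congrArg (algebraMap k R) (congrFun (congrFun h1 a) b)
    rw [Matrix.sum_apply, map_sum, Matrix.zero_apply, map_zero] at this
    rw [Matrix.sum_apply]
    exact this
  have h3 := congrArg (· *ᵥ w) h2
  simp only [Matrix.sum_mulVec, hw, Matrix.zero_mulVec, Finset.sum_const, Finset.card_univ] at h3
  funext a
  refine (isUnit_algebraMap (R := R) I.card).isRegular.left ?_
  have h4 := congrFun h3 a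
  rw [Pi.smul_apply, nsmul_eq_mul] at h4
  show _ * _ = _ * (0 : R)
  rw [map_natCast, mul_zero]
  exact h4

theorem Sec.eq_zero (h : ∀ v : ι → k, (∀ γ, φ γ *ᵥ v = v) → v = 0) {x : ι → Fm K} (hx : Sec I φ 0 x) : x = 0 := by
  refine fix_eq_zero I h fun γ => ?_
  rw [← hx.inv]
  funext a
  rw [hom_zero_eq (hx.hom a) I.v0, I.s_C]

end Cfsg.Agent.E8A.Reg5
end

-- part: E8A/Reg5/Van
section
prune_inst 0x2540444431e202000018859073201e229e0001b2000b8c00b5e10f4e0fc7f443a0430e61fb701f03c1b81c647038046813100100422000000a203400411f01a080840000f089010c46009f800080000000000000000000000000008000061004000000000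
set_option linter.all false
open scoped Cfsg.Agent.FastGrp

/-!
# The bracket of sections of small degree vanishes (helper42)
-/

set_option autoImplicit false
set_option linter.unusedSectionVars false

namespace Cfsg.Agent.E8A.Reg5

open Matrix MvPolynomial Ico

universe u

variable {ι : Type} [Fintype ι] [DecidableEq ι] {A : ι → Matrix ι ι ℤ}
variable {k : Type u} [Field k] {K : Type u} [Field K] [Algebra k K]
variable {Γ P : Type} [Group Γ] [Fintype Γ] [Fintype P] {π : Γ →* A5}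

theorem eps_mul_eq {a b : DualNumber K} (h : a.fst = b.fst) : DualNumber.eps * a = DualNumber.eps * b := by
  ext <;> simp [h]

theorem eps_mf {f : K →ₐ[k] DualNumber K} (hf : ∀ a, (f a).fst = a) (g : Fm K) :
    C DualNumber.eps * mf f g = C DualNumber.eps * mf (inD k K) g := by
  ext1 s
  rw [coeff_C_mul, coeff_C_mul, mf_apply, mf_apply, coeff_map, coeff_map]
  exact eps_mul_eq (hf _)

variable {I : Ico k Γ P π} {d : Fin 3 → ι → ℤ} {φ : Γ →* Matrix ι ι k} {U V : Fin 3 → Matrix ι ι K} {n n' : ℕ}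
  {x y : ι → Fm K}

theorem dvd_of_eps (i : Fin 3) {g : Fm K} (hg : g.IsHomogeneous n) {a : ℕ}
    (h : I.l (DualNumber K) (I.b (some i)) ^ a ∣ C DualNumber.eps * mf (inD k K) g) : I.l K (I.b (some i)) ^ a ∣ g := by
  have h1 := map_dvd (I.c (DualNumber K) i) h
  rw [map_pow, I.c_l, map_mul, I.c_C, I.c_mf, Polynomial.X_pow_dvd_iff] at h1
  rw [I.dvd_iff i hg, Polynomial.X_pow_dvd_iff]
  intro j hj
  have h2 := congrArg TrivSqZeroExt.snd (h1 j hj)
  rw [Polynomial.coeff_C_mul, Polynomial.coeff_map] at h2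
  simpa using h2

theorem map_single {R S : Type*} [CommRing R] [CommRing S] (f : R →+* S) (β : ι) :
    (fun j => f ((Pi.single β 1 : ι → R) j)) = Pi.single β 1 := by
  funext j
  by_cases h : j = β
  · rw [h, Pi.single_eq_same, Pi.single_eq_same, map_one]
  · rw [Pi.single_eq_of_ne h, Pi.single_eq_of_ne h, map_zero]

theorem Hs.kf_br_dvd (hG : Good A k) (hd : ∀ i, GrB A (d i) (mm i)) (hφ : Rep A I φ) (hF : Frm A I d φ U V)
    (hM : Mov A d k U) (hx : Hs I d φ U n x) (hy : Hs I d φ U n' y) (h : n + n' ≤ 240) (i : Fin 3) {β : ι}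
    (hβ : d i β = -(mm i : ℤ)) :
    I.l K (I.b (some i)) ^ (mm i + mm i) ∣ kf A (Pi.single β 1) (cs (U i) *ᵥ (ad A x *ᵥ y)) := by
  obtain ⟨f, hf, h1, h2⟩ := hM i β hβ
  set xf : ι → Fm (DualNumber K) := fun a => mf f (x a) with hxf
  set y0 : ι → Fm (DualNumber K) := fun a => mf (inD k K) (y a) with hy0
  have hF0 := hF.map (inD k K)
  have sx : Sec I φ n xf := hx.sec.map f
  have sy : Sec I φ n' y0 := hy.sec.map _
  have cx := fun j => (hx.cd j).map f
  have cy := fun j => (hy.cd j).map (inD k K)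
  set e : ι → Fm (DualNumber K) := Pi.single β 1 with he
  set u := cs ((U i).map f) *ᵥ xf with hu
  set w := cs ((U i).map (inD k K)) *ᵥ y0 with hw
  have h3 : cs ((U i).map (inD k K)) *ᵥ xf = u + (C DualNumber.eps : Fm (DualNumber K)) • (ad A e *ᵥ u) := by
    rw [h2, C_mul', ← Matrix.mulVec_mulVec, ← hu]
    have : cs (1 + (DualNumber.eps : DualNumber K) • ad A (Pi.single β (1 : DualNumber K))) =
        1 + (C DualNumber.eps : Fm (DualNumber K)) • ad A e := by
      rw [he, ← map_single (C : DualNumber K →+* Fm (DualNumber K)) β, ← ad_map, ← C_one']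
      ext1 a b
      simp only [Matrix.map_apply, Matrix.add_apply, Matrix.smul_apply, smul_eq_mul, map_add, map_mul]
    rw [this, Matrix.add_mulVec, Matrix.one_mulVec, Matrix.smul_mulVec]
  have h4 : kf A xf y0 = kf A u w + C DualNumber.eps * kf A e (ad A u *ᵥ w) := by
    rw [← (hF0.cs_tw i).kf_same (hF0.cs_inv i), h3, kf_add_left, kf_smul_left, hG.kf_inv]
  have h5 : I.l (DualNumber K) (I.b (some i)) ^ (mm i + mm i) ∣ kf A u w := (hd i).kf_dvd (cx i) (cy i)
  have h6 : kf A xf y0 = 0 := by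
    refine I.eq_zero_of_deg (W := fun _ : Unit => kf A xf y0) (fun _ => hom_kf sx.hom sy.hom)
      (I.fam_of_inv (sx.kf_inv hφ sy)) (e := fun c => c.elim 0 fun j => if j = i then mm j else mm j + mm j) ?_ ?_ ()
    · rintro (_ | j) _
      · show _ ^ 0 ∣ _
        rw [pow_zero]
        exact one_dvd _
      · show _ ^ (if j = i then mm j else mm j + mm j) ∣ _
        split_ifs with hj
        · rw [hj, h4]
          refine dvd_add ((pow_dvd_pow _ (Nat.le_add_right _ _)).trans h5) (Dvd.dvd.mul_left (kf_dvd_right _ fun a => ?_) _)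
          exact (pow_dvd_pow _ (Nat.le_add_right _ _)).trans ((hd i).br_dvd (cx i) (cy i) a)
        · refine Cd.kf_dvd hd hF0 (fun a => ?_) (cy j)
          have := cx j a
          beta_reduce at this ⊢
          rwa [h1 j hj] at this
    · have : dg (fun c => c.elim 0 fun j => if j = i then mm j else mm j + mm j) = 300 := by
        fin_cases i <;> rfl
      omega
  have h7 : I.l (DualNumber K) (I.b (some i)) ^ (mm i + mm i) ∣ C DualNumber.eps * kf A e (ad A u *ᵥ w) := by
    rw [h6] at h4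
    rw [eq_neg_of_add_eq_zero_right h4.symm]
    exact h5.neg_right
  have h8 : (C DualNumber.eps : Fm (DualNumber K)) • u =
      (C DualNumber.eps : Fm (DualNumber K)) • fun a => mf (inD k K) ((cs (U i) *ᵥ x) a) := by
    rw [hu, hxf, ← C_map_mf, ← amulVec_map]
    funext a
    exact eps_mf hf _
  have h9 : w = fun a => mf (inD k K) ((cs (U i) *ᵥ y) a) := by rw [hw, hy0, ← C_map_mf, ← amulVec_map]
  have h10 := (hF.cs_tw i).br x y
  rw [one_smul] at h10
  refine dvd_of_eps i (n := 0 + (n + n')) (hom_kf (fun a => ?_) (hom_mulVec _ (hom_br hx.sec.hom hy.sec.hom))) ?_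
  · rw [← map_single (C : K →+* Fm K) β]
    exact isHomogeneous_C _ _
  · rw [akf_map, ← h10, amulVec_map, aad_map, ← h9, ← kf_smul_right, ← Matrix.smul_mulVec, ← ad_smul, ← h8, ad_smul,
      Matrix.smul_mulVec, kf_smul_right]
    have := map_single (mf (inD k K) : Fm K →+* Fm (DualNumber K)) β
    rw [show (fun j => mf (inD k K) ((Pi.single β 1 : ι → Fm K) j)) = e from this]
    exact h7

theorem Good.dvd_top {R : Type*} [CommRing R] [Algebra k R] (hG : Good A k) {d : ι → ℤ} (hd : Gr A d) {m : ℤ} {D : R}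
    {z : ι → R} (h : ∀ β, d β = -m → D ∣ kf A (Pi.single β 1) z) {a : ι} (ha : d a = m) : D ∣ z a := by
  let z' : ι → R := fun c => if d c = m then z c else 0
  have h1 : ∀ β, D ∣ (kil A R *ᵥ z') β := by
    intro β
    by_cases hβ : d β = -m
    · have h2 := h β hβ
      rw [kf_eq, single_one_dotProduct] at h2
      have h3 : (kil A R *ᵥ z') β = (kil A R *ᵥ z) β := by
        refine Finset.sum_congr rfl fun c _ => ?_
        by_cases h0 : kil A R β c = 0
        · show kil A R β c * _ = kil A R β c * _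
          rw [h0, zero_mul, zero_mul]
        · have := hd.kil_ne h0
          show _ * (if d c = m then z c else 0) = _
          rw [if_pos (by omega)]
      rwa [h3]
    · refine Finset.dvd_sum fun c _ => ?_
      by_cases h0 : kil A R β c = 0
      · show D ∣ kil A R β c * _
        rw [h0, zero_mul]
        exact dvd_zero _
      · have := hd.kil_ne h0
        show D ∣ _ * (if d c = m then z c else 0)
        rw [if_neg (by omega), mul_zero]
        exact dvd_zero _
  have h4 := dvd_mulVec (kin A k R) h1 a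
  rw [Matrix.mulVec_mulVec, hG.kin_mul, Matrix.one_mulVec] at h4
  simpa [z', ha] using h4

/-- **Vanishing.** -/
theorem Hs.br_eq_zero (hG : Good A k) (hd : ∀ i, GrB A (d i) (mm i)) (hφ : Rep A I φ) (hF : Frm A I d φ U V)
    (hM : Mov A d k U) (hx : Hs I d φ U n x) (hy : Hs I d φ U n' y) (h : n + n' ≤ 240) : ad A x *ᵥ y = 0 := by
  have hs := hx.sec.br hφ hy.sec
  funext c
  refine I.eq_zero_of_deg hs.hom hs.fam (e := fun c => c.elim 0 fun j => mm j + 1) ?_ ?_ c
  · rintro (_ | i) a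
    · show _ ^ 0 ∣ _
      rw [pow_zero]
      exact one_dvd _
    · refine hF.dvd_of i (fun b => ?_) a
      show _ ^ (mm i + 1) ∣ _
      by_cases hb : d i b = mm i
      · refine (pow_dvd_pow _ (Nat.add_le_add_left (mm_pos i) _)).trans ?_
        exact hG.dvd_top (hd i).gr (fun β hβ => hx.kf_br_dvd hG hd hφ hF hM hy h i hβ) hb
      · refine (pow_dvd_pow _ (Nat.add_le_add_left ?_ _)).trans ((hx.cd i).br_dvd hd hF (hy.cd i) b)
        have h1 := (hd i).xp_cast b
        have h2 := (hd i).ub b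
        omega
  · have : dg (fun c => c.elim 0 fun j => mm j + 1) = 242 := rfl
    omega

end Cfsg.Agent.E8A.Reg5
end

-- part: E8A/Reg5/Ab
section
prune_inst 0x2140440431e002000018859273201e629e0004b200088c00aca10f4e0fc1e460a9c32861bb70050342b294c57831046813100000422000000a203400011f01a080864a00e7ed030c6e009f800000000000000000000000000000008000020000000000000
set_option linter.all false
open scoped Cfsg.Agent.FastGrp

/-!
# Filtrations with three steps (helper42)
-/

set_option autoImplicit false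
set_option linter.unusedSectionVars false

namespace Cfsg.Agent.E8A.Reg5

open Matrix

universe u v

variable {ι : Type} [Fintype ι] [DecidableEq ι] {A : ι → Matrix ι ι ℤ}
variable {k : Type u} [Field k] {K : Type v} [Field K] [Algebra k K]

theorem exists_proj (N : Submodule K (ι → K)) :
    ∃ p : Matrix ι ι K, (∀ x, p *ᵥ x ∈ N) ∧ ∀ x ∈ N, p *ᵥ x = x := by
  obtain ⟨M, hM⟩ := N.exists_isCompl
  refine ⟨LinearMap.toMatrix' (N.subtype ∘ₗ N.projectionOnto M hM), fun x => ?_, fun x hx => ?_⟩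
  · rw [LinearMap.toMatrix'_mulVec]
    exact Subtype.mem _
  · rw [LinearMap.toMatrix'_mulVec]
    exact congrArg Subtype.val (Submodule.projectionOnto_apply_left hM ⟨x, hx⟩)

theorem Good.orth (hG : Good A k) {N Q : Submodule K (ι → K)} (h : ∀ x ∈ N, ∀ y ∈ Q, kf A x y = 0) :
    Module.finrank K N + Module.finrank K Q ≤ Fintype.card ι ∧
      (Fintype.card ι ≤ Module.finrank K N + Module.finrank K Q → ∀ x, (∀ y ∈ N, kf A x y = 0) → x ∈ Q) := by
  let B : LinearMap.BilinForm K (ι → K) := LinearMap.mk₂ K (kf A) kf_add_left kf_smul_left kf_add_right kf_smul_right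
  have hB : B.Nondegenerate := ⟨fun x hx => hG.nondeg fun j => hx _, fun x hx => hG.nondeg fun j => by
    rw [kf_symm]; exact hx _⟩
  have h1 := LinearMap.BilinForm.finrank_orthogonal hB N
  have h2 : Q ≤ B.orthogonal N := fun y hy x hx => h x hx y hy
  have h3 := Submodule.finrank_mono h2
  have h4 := Submodule.finrank_le N
  rw [Module.finrank_fintype_fun_eq_card] at h1 h4
  refine ⟨by omega, fun h5 x hx => ?_⟩
  rw [Submodule.eq_of_le_of_finrank_le h2 (by omega)]
  intro y hy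
  show kf A y x = 0
  rw [kf_symm]
  exact hx y hy

theorem Good.eq_bot (hG : Good A k) (h3 : ∀ h : ι → K, ad A h * ad A h * ad A h = ad A h → h = 0)
    {N Q : Submodule K (ι → K)} (nn : ∀ x ∈ N, ∀ y ∈ N, ad A x *ᵥ y = 0) (nq : ∀ x ∈ N, ∀ y ∈ Q, ad A x *ᵥ y ∈ N)
    (nl : ∀ x ∈ N, ∀ y, ad A x *ᵥ y ∈ Q) (qq : ∀ x ∈ Q, ∀ y ∈ Q, ad A x *ᵥ y ∈ Q)
    (o1 : ∀ x, (∀ y ∈ N, kf A x y = 0) → x ∈ Q) (o2 : ∀ x, (∀ y ∈ Q, kf A x y = 0) → x ∈ N) : N = ⊥ := by
  obtain ⟨p, p1, p2⟩ := exists_proj N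
  obtain ⟨r, r1, r2⟩ := exists_proj Q
  have qn : ∀ x ∈ Q, ∀ y ∈ N, ad A x *ᵥ y ∈ N := fun x hx y hy => by
    rw [hG.anti]; exact N.neg_mem (nq y hy x hx)
  have ln : ∀ x, ∀ y ∈ N, ad A x *ᵥ y ∈ Q := fun x y hy => by
    rw [hG.anti]; exact Q.neg_mem (nl y hy x)
  let f : (ι → K) →ₗ[K] K :=
    { toFun := fun y => Matrix.trace ((p - (1 - r)) * ad A y)
      map_add' := fun y z => by rw [ad_add, Matrix.mul_add, Matrix.trace_add]
      map_smul' := fun c y => by rw [ad_smul, Matrix.mul_smul, Matrix.trace_smul]; rfl }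
  obtain ⟨h, hh⟩ := hG.exists_dual f
  have key : ∀ x y, kf A (ad A h *ᵥ x) y = Matrix.trace (((p - (1 - r)) * ad A x - ad A x * (p - (1 - r))) * ad A y) := by
    intro x y
    rw [hG.kf_inv, hh]
    show Matrix.trace ((p - (1 - r)) * ad A _) = _
    generalize p - (1 - r) = H
    rw [hG.jacR, Matrix.mul_sub, Matrix.sub_mul, Matrix.trace_sub, Matrix.trace_sub, ← Matrix.mul_assoc,
      ← Matrix.mul_assoc, Matrix.trace_mul_comm (_ * ad A y) (ad A x), ← Matrix.mul_assoc]
  have a1 : ∀ x ∈ N, ad A h *ᵥ x = x := by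
    intro x hx
    have e1 : ad A x * p = 0 := ext_mulVec fun j => by
      rw [← Matrix.mulVec_mulVec, nn x hx _ (p1 _), Matrix.zero_mulVec]
    have e2 : r * ad A x = ad A x := ext_mulVec fun j => by rw [← Matrix.mulVec_mulVec, r2 _ (nl x hx _)]
    have e3 : p * ad A x * r = ad A x * r := ext_mulVec fun j => by
      rw [Matrix.mul_assoc, ← Matrix.mulVec_mulVec, ← Matrix.mulVec_mulVec, p2 _ (nq x hx _ (r1 _))]
    refine sub_eq_zero.1 (hG.nondeg fun j => ?_)
    have e4 : r * (ad A (Pi.single j 1) * p) = ad A (Pi.single j 1) * p := ext_mulVec fun c => by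
      rw [← Matrix.mulVec_mulVec, ← Matrix.mulVec_mulVec, r2 _ (ln _ _ (p1 _))]
    have e5 : (p - (1 - r)) * ad A x - ad A x * (p - (1 - r)) = ad A x + p * ad A x * (1 - r) := by
      simp only [Matrix.sub_mul, Matrix.mul_sub, Matrix.one_mul, Matrix.mul_one, e1, e2, e3]
      abel
    rw [kf_sub_left, key, e5, Matrix.add_mul, Matrix.trace_add, Matrix.mul_assoc, Matrix.mul_assoc,
      Matrix.trace_mul_comm p, Matrix.mul_assoc, Matrix.mul_assoc, Matrix.sub_mul, Matrix.one_mul, e4, sub_self,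
      Matrix.mul_zero, Matrix.trace_zero, add_zero]
    exact sub_self _
  have a2 : ∀ x ∈ Q, ad A h *ᵥ x ∈ N := by
    intro x hx
    refine o2 _ fun y hy => ?_
    have e1 : ∀ z ∈ Q, p * (ad A z * p) = ad A z * p := fun z hz => ext_mulVec fun j => by
      rw [← Matrix.mulVec_mulVec, ← Matrix.mulVec_mulVec, p2 _ (qn z hz _ (p1 _))]
    have e2 : ∀ z ∈ Q, r * (ad A z * r) = ad A z * r := fun z hz => ext_mulVec fun j => by
      rw [← Matrix.mulVec_mulVec, ← Matrix.mulVec_mulVec, r2 _ (qq z hz _ (r1 _))]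
    have e5 : (p - (1 - r)) * ad A x - ad A x * (p - (1 - r)) = p * ad A x * (1 - p) + r * ad A x * (1 - r) := by
      simp only [Matrix.sub_mul, Matrix.mul_sub, Matrix.one_mul, Matrix.mul_one, Matrix.mul_assoc, e1 x hx, e2 x hx]
      abel
    rw [key, e5, Matrix.add_mul, Matrix.trace_add]
    simp only [Matrix.mul_assoc]
    rw [Matrix.trace_mul_comm p, Matrix.trace_mul_comm r]
    simp only [Matrix.mul_assoc, Matrix.sub_mul, Matrix.one_mul, e1 y hy, e2 y hy, sub_self, Matrix.mul_zero,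
      Matrix.trace_zero, add_zero]
  have a3 : ∀ x, ad A h *ᵥ x + x ∈ Q := fun x => o1 _ fun y hy => by
    rw [kf_add_left, hG.kf_inv', a1 y hy, neg_add_cancel]
  have h0 : h = 0 := h3 h (ext_mulVec fun j => by
    have := a1 _ (a2 _ (a3 (Pi.single j 1)))
    simp only [Matrix.mulVec_add] at this
    rw [← Matrix.mulVec_mulVec, ← Matrix.mulVec_mulVec]
    exact add_right_cancel (this.trans (add_comm _ _)))
  rw [eq_bot_iff]
  intro x hx
  rw [← a1 x hx, h0, ad_zero, Matrix.zero_mulVec]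
  exact Submodule.zero_mem _

end Cfsg.Agent.E8A.Reg5
end

-- part: E8A/Reg5/Triv
section
prune_inst 0x2140440431e202000018859273201e62da000422000b8c00a4a10f0e0fc1c46389430f21bb70150340be14c45038846813100000420000000a203400011f01a080864000e2c9010c46009f800000000000000000000000000000008000020004000000000
set_option linter.all false
open scoped Cfsg.Agent.FastGrp

/-!
# The trivialization (helper42)

`triv : TRIV`.
-/

set_option autoImplicit false
set_option linter.unusedSectionVars false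

namespace Cfsg.Agent.E8A.Reg5

open Matrix MvPolynomial Ico Module

universe u

variable {ι : Type} [Fintype ι] [DecidableEq ι] {A : ι → Matrix ι ι ℤ}
variable {k : Type u} [Field k] {K : Type u} [Field K] [Algebra k K]
variable {Γ P : Type} [Group Γ] [Fintype Γ] [Fintype P] {π : Γ →* A5}
variable {I : Ico k Γ P π} {d : Fin 3 → ι → ℤ} {φ : Γ →* Matrix ι ι k} {U V : Fin 3 → Matrix ι ι K}

variable (I d φ U) in
/-- the values of the sections -/
noncomputable def FS (e : ℕ) : Submodule K (ι → K) := (HS I d φ U (60 * e)).map (evv ι K I)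

theorem evv_br (x y : ι → Fm K) : evv ι K I (ad A x *ᵥ y) = ad A (evv ι K I x) *ᵥ evv ι K I y := by
  rw [evv_apply, amulVec_map, aad_map]
  rfl

theorem evv_kf (x y : ι → Fm K) : ev K I.v0 (kf A x y) = kf A (evv ι K I x) (evv ι K I y) := akf_map _ _ _

theorem FS_kf (hd : ∀ i, GrB A (d i) (mm i)) (hφ : Rep A I φ) (hF : Frm A I d φ U V) {e e' : ℕ} (h : e + e' ≤ 5) :
    ∀ x ∈ FS I d φ U e, ∀ y ∈ FS I d φ U e', kf A x y = 0 := by
  rintro _ ⟨x, hx, rfl⟩ _ ⟨y, hy, rfl⟩
  rw [← evv_kf, Hs.kf_eq_zero hd hφ hF hx hy (by omega), map_zero]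

theorem FS_br (hd : ∀ i, GrB A (d i) (mm i)) (hφ : Rep A I φ) (hF : Frm A I d φ U V) {e e' e'' : ℕ}
    (h : e + e' = e'' + 3) : ∀ x ∈ FS I d φ U e, ∀ y ∈ FS I d φ U e', ad A x *ᵥ y ∈ FS I d φ U e'' := by
  rintro _ ⟨x, hx, rfl⟩ _ ⟨y, hy, rfl⟩
  obtain ⟨z, h1, h2⟩ := Hs.br hd hφ hF hx hy
  rw [show 60 * e + 60 * e' - 180 = 60 * e'' by omega] at h2
  rw [← evv_br, h1, evv_smul]
  exact Submodule.smul_mem _ _ ⟨z, h2, rfl⟩

theorem FS_van (hG : Good A k) (hd : ∀ i, GrB A (d i) (mm i)) (hφ : Rep A I φ) (hF : Frm A I d φ U V)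
    (hM : Mov A d k U) {e e' : ℕ} (h : e + e' ≤ 4) : ∀ x ∈ FS I d φ U e, ∀ y ∈ FS I d φ U e', ad A x *ᵥ y = 0 := by
  rintro _ ⟨x, hx, rfl⟩ _ ⟨y, hy, rfl⟩
  rw [← evv_br, Hs.br_eq_zero hG hd hφ hF hM hx hy (by omega), map_zero]

theorem FS_three (hG : Good A k) (hd : ∀ i, GrB A (d i) (mm i)) (hφ : Rep A I φ) (hF : Frm A I d φ U V)
    (hfix : ∀ v : ι → k, (∀ γ, φ γ *ᵥ v = v) → v = 0) (h3 : ∀ h : ι → K, ad A h * ad A h * ad A h = ad A h → h = 0)
    (hc : Cnt d) (hM : Mov A d k U) : FS I d φ U 3 = ⊤ ∧ HS I d φ U 120 = ⊥ := by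
  have s : ∀ e, finrank K (HS I d φ U (60 * (e + 1))) ≤ finrank K (FS I d φ U (e + 1)) + finrank K (HS I d φ U (60 * e)) :=
    finrank_HS_succ
  have z0 : finrank K (HS I d φ U (60 * 0)) = 0 := by
    rw [show HS I d φ U (60 * 0) = ⊥ from eq_bot_iff.2 fun x hx => Sec.eq_zero hfix (Hs.sec hx), finrank_bot]
  have s0 := s 0
  have s1 := s 1
  have s2 := s 2
  have s3 := s 3
  have s4 := s 4
  have t1 := le_finrank_VS (K := K) hG hφ 5
  have t2 := finrank_VS_le hd hF hc 5
  obtain ⟨o14, -⟩ := hG.orth (FS_kf hd hφ hF (e := 1) (e' := 4) le_rfl)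
  obtain ⟨o23, p23⟩ := hG.orth (FS_kf hd hφ hF (e := 2) (e' := 3) le_rfl)
  obtain ⟨-, p32⟩ := hG.orth (FS_kf hd hφ hF (e := 3) (e' := 2) le_rfl)
  have o5 := Submodule.finrank_le (FS I d φ U 5)
  have top : ∀ e, Fintype.card ι ≤ finrank K (FS I d φ U e) → FS I d φ U e = ⊤ := fun e h =>
    Submodule.eq_top_of_finrank_eq (le_antisymm (Submodule.finrank_le _) (by rwa [Module.finrank_fintype_fun_eq_card]))
  rw [Module.finrank_fintype_fun_eq_card] at o5
  simp only [Nat.reduceAdd] at s0 s1 s2 s3 s4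
  have f5 := top 5 (by omega)
  have f1 : FS I d φ U 1 = ⊥ := eq_bot_iff.2 fun x hx => hG.sandwich (ext_mulVec fun j => by
    rw [← Matrix.mulVec_mulVec, Matrix.zero_mulVec]
    exact FS_van hG hd hφ hF hM (e := 1) (e' := 3) le_rfl x hx _
      (FS_br hd hφ hF (e := 1) (e' := 5) rfl x hx _ (f5 ▸ Submodule.mem_top)))
  have g1 : finrank K (FS I d φ U 1) = 0 := by rw [f1, finrank_bot]
  have f4 := top 4 (by omega)
  have f2 : FS I d φ U 2 = ⊥ := hG.eq_bot h3 (Q := FS I d φ U 3) (FS_van hG hd hφ hF hM le_rfl)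
    (FS_br hd hφ hF rfl) (fun x hx y => FS_br hd hφ hF (e := 2) (e' := 4) rfl x hx y (f4 ▸ Submodule.mem_top))
    (FS_br hd hφ hF rfl) (p23 (by omega)) (p32 (by omega))
  have g2 : finrank K (FS I d φ U 2) = 0 := by rw [f2, finrank_bot]
  have := fin_HS (I := I) (d := d) (φ := φ) (U := U) (60 * 2)
  exact ⟨top 3 (by omega), Submodule.finrank_eq_zero.1 (show finrank K (HS I d φ U (60 * 2)) = 0 by omega)⟩

theorem exists_str (hd : ∀ i, GrB A (d i) (mm i)) (hφ : Rep A I φ) (hF : Frm A I d φ U V)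
    (h3 : FS I d φ U 3 = ⊤) (h2 : HS I d φ U 120 = ⊥) : ∃ Φ, Str A I d φ U Φ := by
  have hD : algebraMap k K I.D0 ≠ 0 := (isUnit_algebraMap I.D0_ne).ne_zero
  have inj : ∀ x ∈ HS I d φ U 180, ∀ y ∈ HS I d φ U 180, evv ι K I x = evv ι K I y → x = y := by
    intro x hx y hy h
    obtain ⟨z, h4, h5⟩ := Hs.quot (Submodule.sub_mem _ hx hy)
      (congrFun (show evv ι K I (x - y) = 0 by rw [map_sub, h, sub_self]))
    have h6 : z ∈ HS I d φ U 120 := h5
    rw [h2, Submodule.mem_bot] at h6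
    rw [h6, smul_zero] at h4
    exact sub_eq_zero.1 h4
  have ex : ∀ b : ι, ∃ s ∈ HS I d φ U 180, evv ι K I s = algebraMap k K I.D0 • Pi.single b 1 := fun b =>
    (show algebraMap k K I.D0 • Pi.single b 1 ∈ FS I d φ U 3 from h3 ▸ Submodule.mem_top)
  choose s hs1 hs2 using ex
  let Φ : Matrix ι ι (Fm K) := Matrix.of fun a b => s b a
  have hΦ : ∀ b, Φ *ᵥ Pi.single b 1 = s b := fun b => by
    rw [Matrix.mulVec_single_one]
    rfl
  have hC : ∀ y : ι → K, Φ *ᵥ (fun a => C (y a)) = ∑ b, y b • s b := fun y => by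
    funext a
    rw [Finset.sum_apply]
    refine Finset.sum_congr rfl fun b _ => ?_
    rw [Pi.smul_apply, smul_eq_C_mul, mul_comm]
    rfl
  refine ⟨Φ, fun a b => (hs1 b).sec.hom a, fun γ => ?_, fun i a b => (hs1 b).cd i a, ?_, tw_of_basis fun j => ?_,
    iso_of_kf fun i j => ?_⟩
  · ext1 a b
    exact congrFun ((hs1 b).sec.inv γ) a
  · ext a b
    have := congrFun (hs2 b) a
    rw [Pi.smul_apply, Pi.single_apply] at this
    rw [Matrix.smul_apply, Matrix.one_apply, ← this]
    rfl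
  · refine ext_mulVec fun b => ?_
    obtain ⟨z, h4, h5⟩ := Hs.br hd hφ hF (hs1 j) (hs1 b)
    have h6 : (ad A (Pi.single j 1) *ᵥ Pi.single b 1 : ι → Fm K) =
        fun a => C ((ad A (Pi.single j (1 : K)) *ᵥ Pi.single b 1) a) := by
      rw [mulVec_map (C : K →+* Fm K), ad_map, map_single, map_single]
    rw [← Matrix.mulVec_mulVec, hΦ, hΦ, Matrix.smul_mulVec, ← Matrix.mulVec_mulVec, h4, h6, hC]
    congr 1
    refine inj _ h5 _ (Submodule.sum_mem _ fun c _ => Submodule.smul_mem _ _ (hs1 c)) ?_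
    have h7 := congrArg (evv ι K I) h4
    rw [evv_br, evv_smul, I.ev_Δ, hs2, hs2, ad_smul, Matrix.smul_mulVec, Matrix.mulVec_smul] at h7
    rw [← smul_right_injective _ hD h7, map_sum]
    simp only [map_smul, hs2, smul_comm _ (algebraMap k K I.D0), ← Finset.smul_sum]
    rw [← eq_sum_single]
  · obtain ⟨c, hc⟩ := Hs.kf_eq hd hφ hF (hs1 i) (hs1 j)
    have h7 := congrArg (ev K I.v0) hc
    rw [evv_kf, hs2, hs2, kf_smul_left, kf_smul_right, kf_single, map_mul, map_mul, I.ev_Δ, ev_C, mul_assoc] at h7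
    rw [hΦ, hΦ, hc, ← mul_left_cancel₀ hD (mul_left_cancel₀ hD h7), ← kil_map (C : K →+* Fm K)]
    rfl

/-- **TRIV** -/
theorem triv : TRIV.{u} := by
  intro ι _ _ A k K _ _ _ Γ P _ _ _ π I d φ U V hG hd hφ hF hfix h3 hc hM
  obtain ⟨h1, h2⟩ := FS_three hG hd hφ hF hfix h3 hc hM
  exact exists_str hd hφ hF h1 h2

end Cfsg.Agent.E8A.Reg5
end

-- part: E8A/Reg5/Triv_mg
section

end

-- part: E8A/Reg5/Uniq
section
prune_inst 0x40000000c0000000000000100000000000000000000000000000000000040000000800002001000020000000000040000000000000000000000000000000000000000000010008400000000080000000000000000000000000000000000000000000000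
set_option linter.all false
open scoped Cfsg.Agent.FastGrp

-- part: E8A/Reg5/Fin1
section
/-!
# The box FIN, part 1: frames, data, rigidity (helper43)

* `xv`, `uu`, `vv` : the frames with parameters; `frm_uu`, `mov_uu`;
* `Dat`, `gam`, `Dat.glue` : the data and the gluing;
* `Dat.rigid` : a derivation which kills the three products kills all parameters.
-/

set_option autoImplicit false
set_option linter.unusedSectionVars false

namespace Cfsg.Agent.E8A.Reg5.Fin

open Matrix MvPolynomial Ico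

universe u v w

variable {ι : Type} [Fintype ι] [DecidableEq ι] {A : ι → Matrix ι ι ℤ}
variable {k : Type u} [Field k] {R : Type v} [CommRing R] [Algebra k R] {S : Type w} [CommRing S] [Algebra k S]
variable {Γ P : Type} [Group Γ] [Fintype Γ] [Fintype P] {π : Γ →* A5}
variable {I : Ico k Γ P π} {d : Fin 3 → ι → ℤ} {φ φ' : Γ →* Matrix ι ι k}

/-- the parameters -/
abbrev Par (d : Fin 3 → ι → ℤ) : Type := {t : Fin 3 × ι // d t.1 t.2 = -(mm t.1 : ℤ)}

/-- the vector of lowest degree with given parameters -/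
def xv (b : Par d → R) (i : Fin 3) : ι → R := fun a => if h : d i a = -(mm i : ℤ) then b ⟨(i, a), h⟩ else 0

omit [Algebra k R] in
theorem xv_sp (b : Par d → R) (i : Fin 3) : Sp (d i) (· = -(mm i : ℤ)) (xv b i) := by
  intro a ha
  by_contra h
  exact ha (dif_neg h)

theorem xv_map (f : R →ₐ[k] S) (b : Par d → R) (i : Fin 3) : (fun a => f (xv b i a)) = xv (fun t => f (b t)) i := by
  funext a
  unfold xv
  split_ifs
  · rfl
  · exact map_zero f

omit [Algebra k R] in
theorem xv_add (b e : Par d → R) (ε : R) (i : Fin 3) : xv (fun t => b t + ε * e t) i = xv b i + ε • xv e i := by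
  funext a
  rw [Pi.add_apply, Pi.smul_apply, smul_eq_mul]
  unfold xv
  split_ifs
  · rfl
  · rw [mul_zero, add_zero]

omit [Algebra k R] in
theorem xv_self (b : Par d → R) (t : Par d) : xv b t.1.1 t.1.2 = b t := dif_pos t.2

omit [Algebra k R] in
theorem sh3 {e : ι → ℤ} {m : ℕ} (h : GrB A e m) {L M N : Matrix ι ι R} (hL : Sh e (· = -(m : ℤ)) L)
    (hM : Sh e (· = -(m : ℤ)) M) (hN : Sh e (· = -(m : ℤ)) N) : L * M * N = 0 := by
  have h1 : Sh e (· = -(m : ℤ) + -(m : ℤ) + -(m : ℤ)) (L * M * N) :=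
    (hL.mul hM (T := (· = -(m : ℤ) + -(m : ℤ))) fun s t hs ht => by rw [hs, ht]).mul hN fun s t hs ht => by rw [hs, ht]
  refine h1.eq_zero fun a b hab => ?_
  have := h.lb a
  have := h.ub b
  have := h.pos
  omega

theorem ad_comm (hG : Good A k) {e : ι → ℤ} {m : ℕ} (h : GrB A e m) {x y : ι → R} (hx : Sp e (· = -(m : ℤ)) x)
    (hy : Sp e (· = -(m : ℤ)) y) : ad A x * ad A y = ad A y * ad A x := by
  have h1 : Sp e (· = -(m : ℤ) + -(m : ℤ)) (ad A x *ᵥ y) := (h.gr.sh hx).sp hy fun s t hs ht => by rw [hs, ht]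
  have h2 : ad A x *ᵥ y = 0 := by
    funext a
    by_contra ha
    have h3 : e a = -(m : ℤ) + -(m : ℤ) := h1 a ha
    have := h.lb a
    have := h.pos
    omega
  rw [← sub_eq_zero, ← hG.jacR, h2, ad_zero]

variable (A k) in
/-- the frames -/
noncomputable def uu (c' : Fin 3 → Matrix ι ι k) (b : Par d → R) (i : Fin 3) : Matrix ι ι R :=
  ex k (-ad A (xv b i)) * fk R (c' i)

variable (A k) in
/-- their inverses -/
noncomputable def vv (c : Fin 3 → Matrix ι ι k) (b : Par d → R) (i : Fin 3) : Matrix ι ι R :=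
  fk R (c i) * ex k (ad A (xv b i))

theorem uu_map (f : R →ₐ[k] S) (c' : Fin 3 → Matrix ι ι k) (b : Par d → R) (i : Fin 3) :
    (uu A k c' b i).map f = uu A k c' (fun t => f (b t)) i := by
  unfold uu
  rw [amap_mul, fk_map, ex_map, ← ad_neg, ← ad_neg, ← xv_map f]
  congr 2
  refine (ad_map (f : R →+* S) _).trans ?_
  congr 1
  funext a
  exact map_neg f _

theorem diag_comm {e : ι → ℤ} {m : ℕ} {ζ : k} (h0 : ζ ≠ 0) (hζ : ζ ^ m = 1) {M : Matrix ι ι R}
    (hM : Sh e (fun s => (m : ℤ) ∣ s) M) :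
    M * fk R (diagonal fun a => ζ ^ e a) = fk R (diagonal fun a => ζ ^ e a) * M := by
  unfold fk
  rw [Matrix.diagonal_map (map_zero _)]
  ext a b
  rw [Matrix.mul_diagonal, Matrix.diagonal_mul, mul_comm]
  by_cases h : M a b = 0
  · rw [h, mul_zero, mul_zero]
  · obtain ⟨c, hc⟩ := hM a b h
    have h1 : e a = e b + m * c := by omega
    rw [h1, zpow_add₀ h0, _root_.zpow_mul, zpow_natCast, hζ, _root_.one_zpow, mul_one]

theorem frm_uu (hG : Good A k) (hd : ∀ i, GrB A (d i) (mm i)) {c c' : Fin 3 → Matrix ι ι k} (hc : ∀ i, c i * c' i = 1)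
    (ht : ∀ i, Tw A 1 (c i)) (he : ∀ i, φ (I.g i) * c i = c i * diagonal fun a => I.ζ i ^ d i a) (b : Par d → R) :
    Frm A I d φ (uu A k c' b) (vv A k c b) := by
  have hs : ∀ i, Sh (d i) (· = -(mm i : ℤ)) (ad A (xv b i)) := fun i => (hd i).gr.sh (xv_sp b i)
  have hc' : ∀ i, c' i * c i = 1 := fun i => mul_eq_one_comm.1 (hc i)
  refine ⟨fun i => ?_, fun i => ?_, fun i => ?_⟩
  · unfold uu vv
    rw [Matrix.mul_assoc, ← Matrix.mul_assoc (fk R (c' i)), ← fk_mul, hc', fk_one, Matrix.one_mul]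
    exact mul_eq_one_comm.1 (ex_mul_neg hG.two (sh3 (hd i) (hs i) (hs i) (hs i)))
  · refine Tw.mul1 ?_ ((ht i).inv (hc i)).fk
    rw [← ad_neg]
    refine hG.tw_ex ?_
    rw [ad_neg]
    exact sh3 (hd i) (hs i).neg (hs i).neg (hs i).neg
  · unfold uu
    have h1 : c' i * φ (I.g i) = (diagonal fun a => I.ζ i ^ d i a) * c' i := by
      calc c' i * φ (I.g i) = c' i * (φ (I.g i) * c i) * c' i := by
            rw [Matrix.mul_assoc, Matrix.mul_assoc, hc, Matrix.mul_one]
        _ = _ := by rw [he, ← Matrix.mul_assoc, hc', Matrix.one_mul]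
    rw [Matrix.mul_assoc, ← fk_mul, h1, fk_mul, ← Matrix.mul_assoc, ← Matrix.mul_assoc]
    congr 1
    refine diag_comm (m := mm i) (I.ζ_ne i) (I.prim i).pow_eq_one ?_
    exact Sh.exp ((hs i).neg.mono fun s h => by rw [h]; exact (dvd_refl _).neg_right) (dvd_zero _)
      fun s t => dvd_add

theorem uu_add (hG : Good A k) (hd : ∀ i, GrB A (d i) (mm i)) (c' : Fin 3 → Matrix ι ι k) (b e : Par d → R) {ε : R}
    (hε : ε * ε = 0) (i : Fin 3) :
    uu A k c' (fun t => b t + ε * e t) i = (1 - ε • ad A (xv e i)) * uu A k c' b i := by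
  have hb : Sh (d i) (· = -(mm i : ℤ)) (ad A (xv b i)) := (hd i).gr.sh (xv_sp b i)
  have he : Sh (d i) (· = -(mm i : ℤ)) (ad A (xv e i)) := (hd i).gr.sh (xv_sp e i)
  have h1 : ex k (-(ε • ad A (xv e i))) = 1 - ε • ad A (xv e i) := by
    unfold ex
    rw [Matrix.neg_mul, Matrix.mul_neg, neg_neg, Matrix.smul_mul, Matrix.mul_smul, smul_smul ε, hε, zero_smul, smul_zero,
      add_zero, sub_eq_add_neg]
  unfold uu
  rw [xv_add, ad_add, ad_smul, ← Matrix.mul_assoc, ← h1, ex_mul hG.two, neg_add, add_comm]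
  · rw [Matrix.neg_mul, Matrix.mul_neg, Matrix.neg_mul, Matrix.mul_neg, Matrix.smul_mul, Matrix.mul_smul,
      ad_comm hG (hd i) (xv_sp e i) (xv_sp b i)]
  · exact sh3 (hd i) (he.smul ε).neg (he.smul ε).neg hb.neg
  · exact sh3 (hd i) (he.smul ε).neg hb.neg hb.neg

/-! ### dual numbers -/

section Dual

variable {K : Type u} [Field K] [Algebra k K]

theorem dual_eq (D : Derivation k K K) (a : K) :
    dual D a = inD k K a + (DualNumber.eps : DualNumber K) * inD k K (D a) := by
  show TrivSqZeroExt.inl a + TrivSqZeroExt.inr (D a) = TrivSqZeroExt.inl a + DualNumber.eps * TrivSqZeroExt.inl (D a)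
  ext <;> simp

theorem map_dual (D : Derivation k K K) (M : Matrix ι ι K) :
    M.map (dual D) = M.map (inD k K) + (DualNumber.eps : DualNumber K) • (M.map D).map (inD k K) := by
  ext1 a b
  exact dual_eq D _

theorem eps_cancel {M N : Matrix ι ι K}
    (h : (DualNumber.eps : DualNumber K) • M.map (inD k K) = (DualNumber.eps : DualNumber K) • N.map (inD k K)) : M = N := by
  ext a b
  have h1 := congrArg TrivSqZeroExt.snd (congrFun (congrFun h a) b)
  simpa using h1

theorem map_dual_iff (D : Derivation k K K) (M : Matrix ι ι K) :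
    M.map (dual D) = M.map (inD k K) ↔ ∀ a b, D (M a b) = 0 := by
  rw [map_dual, add_eq_left]
  constructor
  · intro h a b
    have h1 : M.map D = 0 := eps_cancel (k := k) (by rw [h, Matrix.map_zero _ (map_zero _), smul_zero])
    exact congrFun (congrFun h1 a) b
  · intro h
    have h1 : M.map D = 0 := by
      ext a b
      exact h a b
    rw [h1, Matrix.map_zero _ (map_zero _), smul_zero]

theorem uu_dual (hG : Good A k) (hd : ∀ i, GrB A (d i) (mm i)) (c' : Fin 3 → Matrix ι ι k) (b : Par d → K)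
    (D : Derivation k K K) (i : Fin 3) : (uu A k c' b i).map (dual D) =
      (1 - (DualNumber.eps : DualNumber K) • (ad A (xv (fun t => D (b t)) i)).map (inD k K)) *
        (uu A k c' b i).map (inD k K) := by
  have h1 : (ad A (xv (fun t => D (b t)) i)).map (inD k K) = ad A (xv (fun t => inD k K (D (b t))) i) := by
    rw [← xv_map (inD k K)]
    exact ad_map (inD k K : K →+* DualNumber K) _
  rw [uu_map, uu_map, h1, ← uu_add hG hd c' _ _ DualNumber.eps_mul_eps]
  congr 1
  funext t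
  exact dual_eq D _

theorem mov_uu (hG : Good A k) (hd : ∀ i, GrB A (d i) (mm i)) (c' : Fin 3 → Matrix ι ι k) {b : Par d → K}
    (hb : ∀ s, ∃ D : Derivation k K K, ∀ t, D (b t) = if t = s then 1 else 0) : Mov A d k (uu A k c' b) := by
  intro i β hβ
  obtain ⟨D, hD⟩ := hb ⟨(i, β), hβ⟩
  refine ⟨dual D, fun a => ?_, fun j hj => ?_, ?_⟩
  · show (TrivSqZeroExt.inl a + TrivSqZeroExt.inr (D a)).fst = a
    simp
  · have h1 : xv (fun t => D (b t)) j = 0 := by
      funext a
      unfold xv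
      split_ifs with h
      · exact (hD _).trans (if_neg fun e => hj (congrArg (fun t : Par d => t.1.1) e))
      · rfl
    rw [uu_dual hG hd, h1, ad_zero, Matrix.map_zero _ (map_zero _), smul_zero, sub_zero, Matrix.one_mul]
  · have h1 : xv (fun t => D (b t)) i = Pi.single β 1 := by
      funext a
      unfold xv
      by_cases e : a = β
      · subst e
        rw [dif_pos hβ, Pi.single_eq_same]
        exact (hD _).trans (if_pos rfl)
      · rw [Pi.single_eq_of_ne e]
        split_ifs with h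
        · exact (hD _).trans (if_neg fun e' => e (congrArg (fun t : Par d => t.1.2) e'))
        · rfl
    have h2 : (ad A (Pi.single β (1 : K))).map (inD k K) = ad A (Pi.single β (1 : DualNumber K)) := by
      refine (ad_map (inD k K : K →+* DualNumber K) _).trans ?_
      congr 1
      funext a
      by_cases e : a = β
      · rw [e, Pi.single_eq_same, Pi.single_eq_same, map_one]
      · rw [Pi.single_eq_of_ne e, Pi.single_eq_of_ne e, map_zero]
    rw [uu_dual hG hd, h1, h2, ← Matrix.mul_assoc, Matrix.add_mul, Matrix.one_mul, Matrix.mul_sub, Matrix.mul_one,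
      Matrix.smul_mul, Matrix.mul_smul, smul_smul, DualNumber.eps_mul_eps, zero_smul, sub_zero, sub_add_cancel,
      Matrix.one_mul]

end Dual

/-! ### the data -/

variable (A) in
/-- the data -/
structure Dat (I : Ico k Γ P π) (d : Fin 3 → ι → ℤ) (φ : Γ →* Matrix ι ι k) (U V : Fin 3 → Matrix ι ι R)
    (Φ : Matrix ι ι (Fm R)) (g g' : Option (Fin 3) → Matrix ι ι R) : Prop where
  frm : Frm A I d φ U V
  str : Str A I d φ U Φ
  inv : ∀ c, g c * g' c = 1
  tw : ∀ c, Tw A 1 (g c)
  sh : ∀ i, Sh (d i) (· ≤ 0) (g (some i))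
  sh' : ∀ i, Sh (d i) (· ≤ 0) (g' (some i))

variable {U V U' V' : Fin 3 → Matrix ι ι R} {Φ Φ' : Matrix ι ι (Fm R)} {g g' h h' : Option (Fin 3) → Matrix ι ι R}

theorem Dat.map (H : Dat A I d φ U V Φ g g') (f : R →ₐ[k] S) :
    Dat A I d φ (fun i => (U i).map f) (fun i => (V i).map f) (Φ.map (mf f)) (fun c => (g c).map f)
      (fun c => (g' c).map f) where
  frm := H.frm.map f
  str := H.str.map f
  inv c := by rw [← amap_mul, H.inv, amap_one]
  tw c := (H.tw c).map1 (f : R →+* S)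
  sh i := (H.sh i).map f
  sh' i := (H.sh' i).map f

variable (A I d) in
/-- the three products -/
noncomputable def gam (U : Fin 3 → Matrix ι ι R) (Φ : Matrix ι ι (Fm R)) (g : Option (Fin 3) → Matrix ι ι R) (i : Fin 3) :
    Matrix ι ι R := g none * st A k (am I d U Φ i) * g (some i)

theorem gam_map (f : R →ₐ[k] S) (U : Fin 3 → Matrix ι ι R) (Φ : Matrix ι ι (Fm R)) (g : Option (Fin 3) → Matrix ι ι R)
    (i : Fin 3) : (gam A I d U Φ g i).map f =
      gam A I d (fun i => (U i).map f) (Φ.map (mf f)) (fun c => (g c).map f) i := by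
  unfold gam
  rw [amap_mul, amap_mul, st_map, am_map]

theorem Dat.gam_tw (hG : Good A k) (hd : ∀ i, GrB A (d i) (mm i)) (H : Dat A I d φ U V Φ g g') (i : Fin 3) :
    Tw A 1 (gam A I d U Φ g i) ∧ gam A I d U Φ g i * (g' (some i) * am I d U Φ i * g' none) = 1 := by
  obtain ⟨h1, h2⟩ := H.str.am_tw hd H.frm i
  refine ⟨((H.tw none).mul1 (hG.tw_st isRegular_one h2 h1)).mul1 (H.tw _), ?_⟩
  unfold gam
  have h3 := mul_eq_one_comm.1 (H.str.am_st hG hd H.frm i)
  calc _ = g none * (st A k (am I d U Φ i) * (g (some i) * g' (some i)) * am I d U Φ i) * g' none := by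
        simp only [Matrix.mul_assoc]
    _ = 1 := by rw [H.inv, Matrix.mul_one, h3, Matrix.mul_one, H.inv]

theorem Dat.glue (hG : Good A k) (hd : ∀ i, GrB A (d i) (mm i)) (hφ : Rep A I φ) (H : Dat A I d φ U V Φ g g')
    (H' : Dat A I d φ' U' V' Φ' h h') (he : ∀ i, gam A I d U Φ g i = gam A I d U' Φ' h i) :
    (h' none * g none) * (g' none * h none) = 1 ∧ Tw A 1 (h' none * g none) ∧
      Φ' * cs (h' none * g none) = cs (h' none * g none) * Φ ∧
      ∀ γ, fk R (φ' γ) * (h' none * g none) = (h' none * g none) * fk R (φ γ) := by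
  have h1 : (h' none * g none) * (g' none * h none) = 1 := by
    rw [Matrix.mul_assoc, ← Matrix.mul_assoc (g none), H.inv, Matrix.one_mul, mul_eq_one_comm.1 (H'.inv none)]
  have h2 : Tw A 1 (h' none * g none) := ((H'.tw none).inv (H'.inv none)).mul1 (H.tw none)
  refine ⟨h1, h2, Str.glue hG hd hφ H.frm H'.frm H.str H'.str h2 h1 fun i => ?_⟩
  have h3 : am I d U' Φ' i * (h' none * g none) * st A k (am I d U Φ i) = h (some i) * g' (some i) := by
    calc _ = am I d U' Φ' i * h' none * (gam A I d U Φ g i * g' (some i)) := by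
          unfold gam
          rw [Matrix.mul_assoc _ (g (some i)), H.inv, Matrix.mul_one]
          simp only [Matrix.mul_assoc]
      _ = am I d U' Φ' i * ((h' none * h none) * st A k (am I d U' Φ' i)) * (h (some i) * g' (some i)) := by
          rw [he]
          unfold gam
          simp only [Matrix.mul_assoc]
      _ = _ := by
          rw [mul_eq_one_comm.1 (H'.inv none), Matrix.one_mul, H'.str.am_st hG hd H'.frm, Matrix.one_mul]
  rw [h3]
  exact (H'.sh i).mul (H.sh' i) fun s t hs ht => add_nonpos hs ht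

theorem nofix_ext (I : Ico k Γ P π) (hf : ∀ v : ι → k, (∀ γ, φ γ *ᵥ v = v) → v = 0) {K : Type v} [Field K] [Algebra k K]
    {w : ι → K} (hw : ∀ γ, fk K (φ γ) *ᵥ w = w) : w = 0 := by
  have h1 : ∑ γ, φ γ = 0 := by
    refine ext_mulVec fun j => ?_
    rw [Matrix.zero_mulVec]
    refine hf _ fun γ => ?_
    rw [Matrix.mulVec_mulVec, Finset.mul_sum]
    congr 1
    exact Fintype.sum_equiv (Equiv.mulLeft γ) _ _ fun x => (map_mul φ γ x).symm
  have h2 : ∑ γ, fk K (φ γ) = 0 := by
    have h3 := map_sum (algebraMap k K).mapMatrix (fun γ => φ γ) Finset.univ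
    rw [h1, map_zero] at h3
    exact h3.symm
  have h4 : (Fintype.card Γ : K) • w = 0 := by
    have h5 := congrArg (fun M => M *ᵥ w) h2
    simp only [Matrix.sum_mulVec, hw, Matrix.zero_mulVec, Finset.sum_const, Finset.card_univ] at h5
    rwa [Nat.cast_smul_eq_nsmul]
  refine (smul_eq_zero.1 h4).resolve_left ?_
  rw [← map_natCast (algebraMap k K)]
  exact (map_ne_zero _).2 I.card

/-- **Rigidity.** -/
theorem Dat.rigid {K : Type u} [Field K] [Algebra k K] (hG : Good A k) (hd : ∀ i, GrB A (d i) (mm i)) (hφ : Rep A I φ)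
    (hf : ∀ v : ι → k, (∀ γ, φ γ *ᵥ v = v) → v = 0) {c' : Fin 3 → Matrix ι ι k} {b : Par d → K}
    {V : Fin 3 → Matrix ι ι K} {Φ : Matrix ι ι (Fm K)} {g g' : Option (Fin 3) → Matrix ι ι K}
    (H : Dat A I d φ (uu A k c' b) V Φ g g') (D : Derivation k K K)
    (hD : ∀ i a e, D (gam A I d (uu A k c' b) Φ g i a e) = 0) : (∀ t, D (b t) = 0) ∧ ∀ c a e, D (g c a e) = 0 := by
  have Hf := H.map (dual D)
  have Hz := H.map (inD k K)
  have he : ∀ i, gam A I d (fun i => (uu A k c' b i).map (dual D)) (Φ.map (mf (dual D))) (fun c => (g c).map (dual D)) i =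
      gam A I d (fun i => (uu A k c' b i).map (inD k K)) (Φ.map (mf (inD k K))) (fun c => (g c).map (inD k K)) i := by
    intro i
    rw [← gam_map, ← gam_map]
    exact (map_dual_iff D _).2 (hD i)
  obtain ⟨-, h2, h3, h4⟩ := Dat.glue hG hd hφ Hf Hz he
  obtain ⟨N, hN⟩ : ∃ N, N = g' none * (g none).map D := ⟨_, rfl⟩
  have hx : (g' none).map (inD k K) * (g none).map (dual D) =
      1 + (DualNumber.eps : DualNumber K) • N.map (inD k K) := by
    rw [map_dual, Matrix.mul_add, ← amap_mul, mul_eq_one_comm.1 (H.inv none), amap_one, Matrix.mul_smul, ← amap_mul, hN]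
  rw [hx] at h2 h3 h4
  have h5 : ∀ y, ad A (N *ᵥ y) = N * ad A y - ad A y * N := by
    intro y
    have h6 := h2 fun j => inD k K (y j)
    have e1 : N.map (inD k K) *ᵥ (fun j => inD k K (y j)) = fun j => inD k K ((N *ᵥ y) j) :=
      (mulVec_map (inD k K : K →+* DualNumber K) N y).symm
    have e2 : ∀ z : ι → K, ad A (fun j => inD k K (z j)) = (ad A z).map (inD k K) := fun z =>
      (ad_map (inD k K : K →+* DualNumber K) z).symm
    rw [one_smul, Matrix.add_mulVec, Matrix.one_mulVec, Matrix.smul_mulVec, e1, ad_add, ad_smul, e2, e2, Matrix.add_mul,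
      Matrix.mul_add, Matrix.mul_add, Matrix.add_mul, Matrix.mul_one, Matrix.mul_one, Matrix.one_mul, Matrix.mul_smul,
      Matrix.smul_mul, Matrix.smul_mul, Matrix.mul_smul, smul_smul, DualNumber.eps_mul_eps, zero_smul, add_zero,
      add_assoc, add_right_inj, ← amap_mul, ← amap_mul, ← smul_add,
      ← Matrix.map_add _ (map_add (inD k K))] at h6
    rw [← eps_cancel h6, add_sub_cancel_left]
  obtain ⟨w, hw⟩ := hG.exists_eq_ad h5
  have h6 : w = 0 := by
    refine nofix_ext I hf fun γ => hG.ad_inj ?_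
    have h7 := h4 γ
    rw [Matrix.mul_add, Matrix.add_mul, Matrix.mul_one, Matrix.one_mul, add_right_inj, Matrix.mul_smul, Matrix.smul_mul,
      ← fk_map (inD k K), ← amap_mul, ← amap_mul] at h7
    rw [(hφ.tw γ).fk.conj (fk_inv φ γ), ← hw, eps_cancel h7, Matrix.mul_assoc, fk_inv, Matrix.mul_one]
  rw [h6, ad_zero] at hw
  have h7 : (g none).map D = 0 := by
    rw [← Matrix.one_mul ((g none).map D), ← H.inv none, Matrix.mul_assoc, ← hN, hw, Matrix.mul_zero]
  rw [hw, Matrix.map_zero _ (map_zero _), smul_zero, add_zero, C_one', Matrix.mul_one, Matrix.one_mul] at h3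
  have h8 : ∀ t, D (b t) = 0 := by
    intro t
    obtain ⟨E, hE⟩ : ∃ E, E = (DualNumber.eps : DualNumber K) • (ad A (xv (fun t => D (b t)) t.1.1)).map (inD k K) :=
      ⟨_, rfl⟩
    have h9 : E = 0 := by
      refine loc_rigid hG (hd t.1.1) (I.δ_unit t.1.1) (Hz.str.loc Hz.frm t.1.1) ?_ fun a e => ?_
      · rw [hE]
        exact (((hd t.1.1).gr.sh (xv_sp _ _)).map _).smul _
      · have h10 := Hf.str.dvd t.1.1 a e
        have h11 := Hz.str.dvd t.1.1 a e
        rw [← h3, uu_dual hG hd, ← hE, Matrix.sub_mul, Matrix.one_mul] at h10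
        have h12 := dvd_sub h11 h10
        have e3 : cs ((uu A k c' b t.1.1).map (inD k K) - E * (uu A k c' b t.1.1).map (inD k K)) =
            cs ((uu A k c' b t.1.1).map (inD k K)) - cs E * cs ((uu A k c' b t.1.1).map (inD k K)) := by
          rw [← C_mul']
          exact Matrix.map_sub _ (map_sub _) _ _
        rw [e3, Matrix.sub_mul, Matrix.sub_apply, sub_sub_cancel, Matrix.mul_assoc,
          I.dvd_iff _ ((Hz.str.hom.C_mul _).C_mul E a e)] at h12
        have e4 := congrFun (congrFun (amap_mul (I.c (DualNumber K) t.1.1) (cs E)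
          (cs ((uu A k c' b t.1.1).map (inD k K)) * Φ.map (mf (inD k K)))) a) e
        rw [Matrix.map_apply, amap_C] at e4
        rw [e4] at h12
        exact h12
    have h10 : ad A (xv (fun t => D (b t)) t.1.1) = 0 :=
      eps_cancel (k := k) (by rw [← hE, h9, Matrix.map_zero _ (map_zero _), smul_zero])
    have h11 := congrFun (hG.ad_eq_zero h10) t.1.2
    rwa [xv_self] at h11
  refine ⟨h8, ?_⟩
  rintro (_ | i)
  · exact fun a e => congrFun (congrFun h7 a) e
  · have h9 : (fun i => (uu A k c' b i).map (dual D)) = fun i => (uu A k c' b i).map (inD k K) := by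
      funext j
      have h10 : xv (fun t => D (b t)) j = 0 := by
        funext a
        unfold xv
        split_ifs
        · exact h8 _
        · rfl
      rw [uu_dual hG hd, h10, ad_zero, Matrix.map_zero _ (map_zero _), smul_zero, sub_zero, Matrix.one_mul]
    have h10 := he i
    unfold gam at h10
    beta_reduce at h10
    rw [h9, ← h3, (map_dual_iff D (g none)).2 fun a e => congrFun (congrFun h7 a) e] at h10
    rw [← map_dual_iff]
    have h11 := congrArg (fun M => am I d (fun i => (uu A k c' b i).map (inD k K)) (Φ.map (mf (inD k K))) i *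
      (g' none).map (inD k K) * M) h10
    have h12 : ∀ M, am I d (fun i => (uu A k c' b i).map (inD k K)) (Φ.map (mf (inD k K))) i * (g' none).map (inD k K) *
        ((g none).map (inD k K) * st A k (am I d (fun i => (uu A k c' b i).map (inD k K)) (Φ.map (mf (inD k K))) i) * M) =
        M := by
      intro M
      calc _ = am I d (fun i => (uu A k c' b i).map (inD k K)) (Φ.map (mf (inD k K))) i *
            (((g' none).map (inD k K) * (g none).map (inD k K)) *
              st A k (am I d (fun i => (uu A k c' b i).map (inD k K)) (Φ.map (mf (inD k K))) i)) * M := by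
            simp only [Matrix.mul_assoc]
        _ = M := by
            rw [mul_eq_one_comm.1 (Hz.inv none), Matrix.one_mul, Hz.str.am_st hG hd Hz.frm, Matrix.one_mul]
    simp only [h12] at h11
    exact h11

end Cfsg.Agent.E8A.Reg5.Fin
end

-- part: E8A/Reg5/Fin
section
/-!
# The box FIN, part 2: the assembly (helper43)
-/

set_option autoImplicit false
set_option linter.unusedSectionVars false
set_option maxRecDepth 100000

namespace Cfsg.Agent.E8A.Reg5.Fin

open Cfsg Cfsg.Lie Matrix MvPolynomial Ico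
open Cfsg.Agent.LangThm (van rk mem_van rk_le_of_van_le)

universe u

section Gen

variable {ι : Type} [Fintype ι] [DecidableEq ι] {A : ι → Matrix ι ι ℤ}
variable {k : Type u} [Field k]
variable {Γ P : Type} [Group Γ] [Fintype Γ] [Fintype P] {π : Γ →* A5}
variable {I : Ico k Γ P π} {d : Fin 3 → ι → ℤ} {φ φ' : Γ →* Matrix ι ι k}

theorem rk_le_map {K K' : Type u} [Field K] [Field K'] [Algebra k K] [Algebra k K'] (e : K →ₐ[k] K') {T : Type}
    (y : T → K) : rk k y ≤ rk k fun t => e (y t) := by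
  refine rk_le_of_van_le fun p hp => ?_
  rw [mem_van] at hp ⊢
  apply (e : K →+* K').injective
  rw [map_zero, ← hp]
  exact (MvPolynomial.comp_aeval_apply y e p)

/-- the generic data -/
theorem exists_dat (hT : TRIV.{u}) (hE : EXT.{u}) (hD : DER.{u}) (hG : Good A k) (hd : ∀ i, GrB A (d i) (mm i))
    (hφ : Rep A I φ) (hf : ∀ v : ι → k, (∀ γ, φ γ *ᵥ v = v) → v = 0) (hc : Cnt d)
    (h3 : ∀ (K : Type u) [Field K] [Algebra k K] (h : ι → K), ad A h * ad A h * ad A h = ad A h → h = 0)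
    {c c' : Fin 3 → Matrix ι ι k} (hcc : ∀ i, c i * c' i = 1) (ht : ∀ i, Tw A 1 (c i))
    (he : ∀ i, φ (I.g i) * c i = c i * diagonal fun a => I.ζ i ^ d i a)
    {Ω : Type u} [Field Ω] [Algebra k Ω] {g g' : Option (Fin 3) → Matrix ι ι Ω} (h1 : ∀ c, g c * g' c = 1)
    (h2 : ∀ c, Tw A 1 (g c)) (h4 : ∀ i, Sh (d i) (· ≤ 0) (g (some i))) (h5 : ∀ i, Sh (d i) (· ≤ 0) (g' (some i)))
    (h6 : IntermediateField.adjoin k (Set.range (coM g)) = ⊤) :
    ∃ (K : Type u) (_ : Field K) (_ : IsAlgClosed K) (_ : Algebra k K) (U V : Fin 3 → Matrix ι ι K)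
      (Φ : Matrix ι ι (Fm K)) (h h' : Option (Fin 3) → Matrix ι ι K), Dat A I d φ U V Φ h h' ∧
      (Fintype.card (Par d) : ℕ∞) + rk k (coM g) ≤ rk k (co3 (gam A I d U Φ h)) := by
  obtain ⟨K, _, _, j, b, e1, e2, e3⟩ := hE k Ω (Option (Fin 3) × ι × ι) (Par d) (coM g) h6
  have hF := frm_uu (I := I) hG hd hcc ht he b
  obtain ⟨Φ, hΦ⟩ := hT ι A k K Γ P π I d φ _ _ hG hd hφ hF hf (h3 K) hc (mov_uu hG hd c' e3)
  have H : Dat A I d φ (uu A k c' b) (vv A k c b) Φ (fun c => (g c).map j) (fun c => (g' c).map j) :=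
    ⟨hF, hΦ, fun c => by rw [← amap_mul, h1, amap_one], fun c => (h2 c).map1 (j : Ω →+* K), fun i => (h4 i).map j,
      fun i => (h5 i).map j⟩
  have h7 := hD k K _ _ (Sum.elim b fun t => j (coM g t)) (co3 (gam A I d (uu A k c' b) Φ fun c => (g c).map j)) e1 (by
    intro D hD0
    obtain ⟨h8, h9⟩ := H.rigid hG hd hφ hf D fun i a e => hD0 (i, a, e)
    rintro (t | t)
    · exact h8 t
    · exact h9 t.1 t.2.1 t.2.2)
  let e : K →ₐ[k] AlgebraicClosure K := IsScalarTower.toAlgHom k K (AlgebraicClosure K)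
  refine ⟨AlgebraicClosure K, inferInstance, inferInstance, inferInstance, _, _, _, _, _, H.map e, ?_⟩
  refine (e2.trans h7).trans ((rk_le_map e _).trans (le_of_eq ?_))
  congr 1
  funext t
  exact congrFun (congrFun (gam_map e _ _ _ t.1) t.2.1) t.2.2

end Gen

/-- the matrices of the group elements -/
noncomputable def mxH (k : Type u) [Field k] : G8 k →* Matrix chevE8.Idx chevE8.Idx k :=
  (Units.coeHom _).comp (chevE8.group k).subtype

theorem tw_mx {k : Type u} [Field k] (g : G8 k) : Tw A8 1 (mx g) := fun x => by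
  rw [one_smul]
  exact (adm_conj g x).symm

theorem aut_of_tw (hA : AUT.{u}) {K : Type u} [Field K] [IsAlgClosed K] (p : ℕ) [CharP K p] (hp : 7 ≤ p)
    {a a' : Matrix chevE8.Idx chevE8.Idx K} (h : a * a' = 1) (ht : Tw A8 1 a) : ∃ g : G8 K, mx g = a :=
  hA K p hp a a' h fun x => by
    have h1 := ht x
    rw [one_smul] at h1
    exact h1.symm

/-- **FIN** -/
theorem fin : FIN.{u} := by
  intro hT hI hP hE hD hAm hS hIco hA hN hC hGen F _ _ p _ hp φ φ' hφ hφ'
  obtain ⟨Γ, P, _, _, _, π, ⟨I⟩⟩ := hIco (Kb F) p hp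
  obtain ⟨hG, hd, hc, h26⟩ := hI
  have hG := hG (Kb F) p hp
  obtain ⟨Ω, _, _, g, g', g1, g2, g3, g4, g5, g6⟩ := hP (Kb F)
  have hrep : ∀ ψ : A5 →* G8 (Kb F), Rep A8 I (((mxH (Kb F)).comp ψ).comp π) := fun ψ =>
    ⟨fun γ => tw_mx (ψ (π γ)), by rw [MonoidHom.comp_apply, I.π_z, map_one]⟩
  have key : ∀ ψ : A5 →* G8 (Kb F), NoFix ψ → ∃ (K : Type u) (_ : Field K) (_ : Algebra (Kb F) K)
      (U V : Fin 3 → Matrix chevE8.Idx chevE8.Idx K) (Φ : Matrix chevE8.Idx chevE8.Idx (Fm K))
      (h h' : Option (Fin 3) → Matrix chevE8.Idx chevE8.Idx K) (γ : Fin 3 → G8 K),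
      Dat A8 I lam (((mxH (Kb F)).comp ψ).comp π) U V Φ h h' ∧ (∀ i, mx (γ i) = gam A8 I lam U Φ h i) ∧
        744 ≤ rk (Kb F) (co3 fun i => mx (γ i)) := by
    intro ψ hψ
    choose c hc' using fun i => hC F p hp ψ hψ i (π (I.g i)) (I.ζ i) (I.ord i) (I.prim i)
    obtain ⟨K, _, _, _, U, V, Φ, h, h', H, hr⟩ := exists_dat (I := I) hT hE hD hG hd (hrep ψ) (fun v hv => hψ v fun a => by
        obtain ⟨γ, rfl⟩ := I.surj a
        exact hv γ) hc (fun K _ _ h hh => by
        have := charP_of_injective_algebraMap (algebraMap (Kb F) K).injective p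
        exact hN K p hp h hh) (c := fun i => mx (c i)) (c' := fun i => mx (c i)⁻¹) (fun i => mx_mul_inv (c i))
      (fun i => tw_mx (c i)) hc' g1 g2 g3 g4 g5
    have := charP_of_injective_algebraMap (algebraMap (Kb F) K).injective p
    choose γ hγ using fun i => aut_of_tw hA p hp (H.gam_tw hG hd i).2 (H.gam_tw hG hd i).1
    refine ⟨K, inferInstance, inferInstance, U, V, Φ, h, h', γ, H, hγ, ?_⟩
    rw [show (fun i => mx (γ i)) = gam A8 I lam U Φ h from _root_.funext hγ]
    refine le_trans ?_ hr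
    rw [h26]
    calc (744 : ℕ∞) = ((26 : ℕ) : ℕ∞) + 718 := by norm_num
      _ ≤ _ := add_le_add le_rfl g6
  obtain ⟨K, _, _, U, V, Φ, h, h', γ, H, e, hr⟩ := key φ hφ
  obtain ⟨K', _, _, U', V', Φ', l, l', γ', H', e', hr'⟩ := key φ' hφ'
  obtain ⟨L, _, _, f, f', hf⟩ := hAm (Kb F) K K' _ _ _ (hGen (Kb F) K K' γ γ' hr hr')
  obtain ⟨h1, h2, -, h3⟩ := Dat.glue hG hd (hrep φ) (H.map f) (H'.map f') fun i => by
    rw [← gam_map, ← gam_map, ← e, ← e']
    ext a b
    exact hf (i, a, b)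
  obtain ⟨y, y', h4, h5, h6⟩ := hS _ A8 (Kb F) L Γ _ _ _ _ h1 h2 h3
  obtain ⟨x, hx⟩ := aut_of_tw hA p hp h4 h5
  refine ⟨x, fun a => mx_injective ?_⟩
  obtain ⟨t, rfl⟩ := I.surj a
  rw [mx_mul, mx_mul, hx]
  exact (h6 t).symm

end Cfsg.Agent.E8A.Reg5.Fin
end

-- part: E8A/Reg5/Inst
section
/-!
# The box INST (helper44)
-/

set_option autoImplicit false
set_option maxRecDepth 100000

namespace Cfsg.Agent.E8A.Reg5.Aut

open Cfsg Cfsg.Lie Matrix
open Cfsg.Agent.ChevalleyStructure
open Cfsg.Agent.H942.E8Tab (e8T)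
open Cfsg.Agent.H288.E8L (wt adA_wt)

universe u

theorem lam_bd : ∀ (i : Fin 3) (a : chevE8.Idx), -(mm i : ℤ) ≤ lam i a ∧ lam i a ≤ mm i := by
  intro i a
  rcases a with a | a
  · show -(mm i : ℤ) ≤ 0 ∧ (0 : ℤ) ≤ mm i
    omega
  · revert i a
    decide +kernel

theorem cnt_lam : Cnt lam := by
  unfold Cnt
  decide +kernel

theorem card_low : Fintype.card {t : Fin 3 × chevE8.Idx // lam t.1 t.2 = -(mm t.1 : ℤ)} = 26 := by
  rw [Fintype.card_subtype]
  decide +kernel

/-- **INST** -/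
theorem inst : INST.{u} := by
  refine ⟨fun k _ p _ hp => ?_, fun i => ⟨fun j a b h => ?_, ?_, fun a => (lam_bd i a).1, fun a => (lam_bd i a).2⟩,
    cnt_lam, card_low⟩
  · have h1 : ∀ n : ℕ, 0 < n → n < 7 → (n : k) ≠ 0 := fun n h0 hn h => by
      have := Nat.le_of_dvd h0 ((CharP.cast_eq_zero_iff k p n).1 h)
      omega
    exact ⟨JacAll.jac_all chevE8 e8T.inList, kil k p hp, by exact_mod_cast h1 2 (by norm_num) (by norm_num),
      by exact_mod_cast h1 3 (by norm_num) (by norm_num)⟩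
  · exact congrFun (adA_wt j a b h) (nd i)
  · revert i
    decide

end Cfsg.Agent.E8A.Reg5.Aut
end

-- part: E8A/Reg5/Gen
section
/-!
# `GEN` : points of `G³` of rank 744 have the same vanishing ideal (helper41)

Two points are specializations of one generic triple of words, and every point has rank at most `3 * (120 + 8 + 120)`.
-/

set_option autoImplicit false
set_option maxRecDepth 100000

namespace Cfsg.Agent.E8A.Reg5.Gen

open Cfsg Cfsg.Lie Matrix MvPolynomial
open Cfsg.Agent.ChevalleyStructure Cfsg.Agent.ChevalleyStructure.Elts Cfsg.Agent.ChevalleyStructure.Ring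
open Cfsg.Agent.LangThm (van rk mem_van rk_le_of_van_le rk_le_card rk_le_of_algebraic van_eq_of_rk_le)
open Cfsg.Agent.H942.E8Tab (e8T)

universe u

section Words

variable {D : ChevalleyDatum}

theorem exists_word (hD : InList D) {K : Type u} [Field K] {g : GL D.Idx K} (hg : g ∈ D.group K) :
    ∃ w : List (ℕ × K), (g : Matrix D.Idx D.Idx K) = wordR D K w := by
  have h : ∃ w : List (ℕ × K), g = wordG hD w := by
    induction hg using Subgroup.closure_induction'' with
    | mem x hx =>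
      obtain ⟨r, t, h⟩ := hx
      refine ⟨[(r.val, t)], ?_⟩
      rw [wordG_cons, wordG_nil, mul_one, eq_xG_iff, h, x_of_lt r.2]
    | inv_mem x hx =>
      obtain ⟨r, t, h⟩ := hx
      have e : x = xG hD r.val t := by rw [eq_xG_iff, h, x_of_lt r.2]
      refine ⟨[(r.val, -t)], ?_⟩
      rw [wordG_cons, wordG_nil, mul_one, e, xG_inv]
    | one => exact ⟨[], rfl⟩
    | mul x y _ _ hx hy =>
      obtain ⟨w, rfl⟩ := hx
      obtain ⟨w', rfl⟩ := hy
      exact ⟨w ++ w', by rw [wordG_append]⟩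
  obtain ⟨w, hw⟩ := h
  exact ⟨w, (eq_wordG_iff hD g w).1 hw⟩

theorem wordR_zero {R : Type*} [CommRing R] (w : List (ℕ × R)) (hw : ∀ p ∈ w, p.2 = 0) : wordR D R w = 1 := by
  induction w with
  | nil => rfl
  | cons p w ih =>
    rw [wordR_cons, hw p List.mem_cons_self, xR_zero, ih fun q hq => hw q (List.mem_cons_of_mem _ hq), one_mul]

/-- the entries lie in a subring -/
def Ent {ι R : Type*} [CommRing R] (B : Subring R) (M : Matrix ι ι R) : Prop := ∀ i j, M i j ∈ B

theorem Ent.mul {ι R : Type*} [Fintype ι] [CommRing R] {B : Subring R} {M N : Matrix ι ι R} (hM : Ent B M)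
    (hN : Ent B N) : Ent B (M * N) := fun i j => by
  rw [Matrix.mul_apply]
  exact sum_mem fun l _ => mul_mem (hM i l) (hN l j)

theorem ent_word {R : Type*} [CommRing R] {B : Subring R} (w : List (ℕ × R)) (hw : ∀ p ∈ w, p.2 ∈ B) :
    Ent B (wordR D R w) := by
  induction w with
  | nil =>
    intro i j
    rw [wordR_nil, Matrix.one_apply]
    split_ifs
    · exact one_mem _
    · exact zero_mem _
  | cons p w ih =>
    rw [wordR_cons]
    refine Ent.mul (fun i j => ?_) (ih fun q hq => hw q (List.mem_cons_of_mem _ hq))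
    have h := xR_map D B.subtype p.1 ⟨p.2, hw p List.mem_cons_self⟩
    have h' : xR D R p.1 p.2 i j = B.subtype (xR D ↥B p.1 ⟨p.2, hw p List.mem_cons_self⟩ i j) :=
      (congrFun (congrFun h i) j).symm
    rw [h']
    exact SetLike.coe_mem _

end Words

variable {k : Type u} [Field k]

theorem van_le_map {σ A A' : Type*} [CommRing A] [CommRing A'] [Algebra k A] [Algebra k A'] (φ : A →ₐ[k] A') (v : σ → A) :
    van k v ≤ van k fun i => φ (v i) := by
  intro P hP
  rw [mem_van] at hP ⊢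
  rw [← comp_aeval_apply, hP, map_zero]

theorem van_map_le {σ A A' : Type*} [CommRing A] [CommRing A'] [Algebra k A] [Algebra k A'] (φ : A →ₐ[k] A')
    (hφ : Function.Injective φ) (v : σ → A) : (van k fun i => φ (v i)) ≤ van k v := by
  intro P hP
  rw [mem_van] at hP ⊢
  rw [← comp_aeval_apply] at hP
  exact hφ (hP.trans (map_zero φ).symm)

/-- the 248 parameters of an element -/
theorem exists_params {Ω : Type u} [Field Ω] [Algebra k Ω] (g : G8 Ω) :
    ∃ c : Fin 120 ⊕ Fin 8 ⊕ Fin 120 → Ω, ∀ B : Subfield Ω, (∀ a : k, algebraMap k Ω a ∈ B) → (∀ j, c j ∈ B) →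
      Ent B.toSubring (mx g) := by
  have hG := RootComb.good_of_mem e8T.inList
  obtain ⟨u, hu, m, hm, v, hv, e, -⟩ := BpExc.FixNorm.exists_form e8T.inList g.2
  obtain ⟨m₀, -, t, ht, rfl⟩ := BpExc.Emb.mono_decomp e8T.inList (algebraMap k Ω) hm
  obtain ⟨a, ⟨-, ha⟩, -⟩ := (S1026.result chevE8 e8T.inList).1 u hu
  obtain ⟨b, ⟨-, hb⟩, -⟩ := (S1026.result chevE8 e8T.inList).1 v hv
  obtain ⟨c, -, hc⟩ := S1034.result chevE8 e8T.inList t ht
  refine ⟨Sum.elim (fun j => a (120 + j.val)) (Sum.elim (fun j => c j.val) fun j => b (120 + j.val)), fun B hk hB => ?_⟩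
  have hpos : ∀ f : ℕ → Ω, (∀ j : Fin 120, f (120 + j.val) ∈ B) →
      Ent B.toSubring (chevE8.wordMat Ω (chevE8.posRoots.map fun r => (r, f r))) := by
    intro f hf
    refine ent_word _ fun p hp => ?_
    obtain ⟨r, hr, rfl⟩ := List.mem_map.1 hp
    have h1 : chevE8.IsPosRoot r := of_decide_eq_true (List.mem_filter.1 hr).2
    obtain ⟨h2, h3⟩ := hG.isPosRoot_iff.1 h1
    rw [nroots8] at h2 h3
    have h4 := hf ⟨r - 120, by omega⟩
    rwa [show 120 + (r - 120) = r by omega] at h4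
  have h1 : mx g = (u : Matrix chevE8.Idx chevE8.Idx Ω) *
      ((m₀ : Matrix chevE8.Idx chevE8.Idx k).map (algebraMap k Ω) * (t : Matrix chevE8.Idx chevE8.Idx Ω)) *
      (v : Matrix chevE8.Idx chevE8.Idx Ω) := by
    show ((g : GL chevE8.Idx Ω) : Matrix chevE8.Idx chevE8.Idx Ω) = _
    rw [e, Units.val_mul, Units.val_mul, Units.val_mul, GpExc.Field.coe_glMap]
  rw [h1, ha, hb, hc]
  refine Ent.mul (Ent.mul (hpos a fun j => hB (Sum.inl j)) (Ent.mul (fun i j => hk _) ?_))
    (hpos b fun j => hB (Sum.inr (Sum.inr j)))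
  refine ent_word _ fun p hp => ?_
  obtain ⟨i, hi, hp⟩ := List.mem_flatMap.1 hp
  have hci : c i ∈ B := hB (Sum.inr (Sum.inl ⟨i, List.mem_range.1 hi⟩))
  have h1B : (-1 : Ω) ∈ B := neg_mem (one_mem _)
  simp only [ChevalleyDatum.hWord, ChevalleyDatum.nWord, List.mem_append, List.mem_cons, List.not_mem_nil,
    or_false] at hp
  rcases hp with (rfl | rfl | rfl) | (rfl | rfl | rfl)
  · exact hci
  · exact B.neg_mem (B.inv_mem hci)
  · exact hci
  · exact h1B
  · exact B.neg_mem (B.inv_mem h1B)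
  · exact h1B

theorem rk_le {Ω : Type u} [Field Ω] [Algebra k Ω] (γ : Fin 3 → G8 Ω) : rk k (co3 fun i => mx (γ i)) ≤ 744 := by
  choose c hc using fun i => exists_params (k := k) (γ i)
  let w : Fin 3 × (Fin 120 ⊕ Fin 8 ⊕ Fin 120) → Ω := fun t => c t.1 t.2
  have h1 : rk k (co3 fun i => mx (γ i)) ≤ rk k w := by
    refine rk_le_of_algebraic fun t => ?_
    have h2 := hc t.1 (IntermediateField.adjoin k (Set.range w)).toSubfield
      (fun a => (IntermediateField.adjoin k (Set.range w)).algebraMap_mem a)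
      (fun j => IntermediateField.subset_adjoin k _ ⟨(t.1, j), rfl⟩) t.2.1 t.2.2
    open scoped IntermediateField.algebraAdjoinAdjoin in
    have h3 : IsAlgebraic (Algebra.adjoin k (Set.range w))
        (⟨_, h2⟩ : IntermediateField.adjoin k (Set.range w)) := Algebra.IsAlgebraic.isAlgebraic _
    open scoped IntermediateField.algebraAdjoinAdjoin in
    exact h3.algebraMap (A := Ω)
  refine h1.trans ((rk_le_card w).trans ?_)
  simp only [_root_.Nat.card_eq_fintype_card, _root_.Fintype.card_prod, _root_.Fintype.card_fin, _root_.Fintype.card_sum, _root_.Nat.reduceAdd, _root_.Nat.reduceMul, _root_.Nat.cast_ofNat, _root_.Std.le_refl]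

/-- **GEN** -/
theorem gen : GEN.{u} := by
  intro k _ _ Ω Ω' _ _ _ _ γ γ' h h'
  choose w hw using fun i => exists_word e8T.inList (γ i).2
  choose w' hw' using fun i => exists_word e8T.inList (γ' i).2
  let τ : Type := (Σ i : Fin 3, Fin (w i).length) ⊕ (Σ i : Fin 3, Fin (w' i).length)
  let W₁ : Fin 3 → List (ℕ × MvPolynomial τ k) := fun i =>
    List.ofFn fun j : Fin (w i).length => (((w i).get j).1, X (Sum.inl ⟨i, j⟩))
  let W₂ : Fin 3 → List (ℕ × MvPolynomial τ k) := fun i =>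
    List.ofFn fun j : Fin (w' i).length => (((w' i).get j).1, X (Sum.inr ⟨i, j⟩))
  let δ : Fin 3 → Matrix chevE8.Idx chevE8.Idx (MvPolynomial τ k) := fun i => wordR chevE8 _ (W₁ i ++ W₂ i)
  let φ : MvPolynomial τ k →ₐ[k] Ω := aeval (Sum.elim (fun t => ((w t.1).get t.2).2) fun _ => 0)
  let φ' : MvPolynomial τ k →ₐ[k] Ω' := aeval (Sum.elim (fun _ => 0) fun t => ((w' t.1).get t.2).2)
  have e : ∀ i, (δ i).map (φ : MvPolynomial τ k →+* Ω) = mx (γ i) := fun i => by
    have h1 : ((W₁ i).map fun p => (p.1, (φ : MvPolynomial τ k →+* Ω) p.2)) = w i := by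
      rw [List.map_ofFn]
      conv_rhs => rw [← List.ofFn_get (w i)]
      congr 1
      funext j
      show (((w i).get j).1, φ (X (Sum.inl ⟨i, j⟩))) = (w i).get j
      rw [aeval_X]
      rfl
    rw [wordR_map, List.map_append, wordR_append, h1, wordR_zero ((W₂ i).map _), mul_one]
    · exact (hw i).symm
    · intro p hp
      obtain ⟨q, hq, rfl⟩ := List.mem_map.1 hp
      obtain ⟨j, rfl⟩ := List.mem_ofFn.1 hq
      show φ (X (Sum.inr ⟨i, j⟩)) = 0
      rw [aeval_X]
      rfl
  have e' : ∀ i, (δ i).map (φ' : MvPolynomial τ k →+* Ω') = mx (γ' i) := fun i => by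
    have h1 : ((W₂ i).map fun p => (p.1, (φ' : MvPolynomial τ k →+* Ω') p.2)) = w' i := by
      rw [List.map_ofFn]
      conv_rhs => rw [← List.ofFn_get (w' i)]
      congr 1
      funext j
      show (((w' i).get j).1, φ' (X (Sum.inr ⟨i, j⟩))) = (w' i).get j
      rw [aeval_X]
      rfl
    rw [wordR_map, List.map_append, wordR_append, h1, wordR_zero ((W₁ i).map _), one_mul]
    · exact (hw' i).symm
    · intro p hp
      obtain ⟨q, hq, rfl⟩ := List.mem_map.1 hp
      obtain ⟨j, rfl⟩ := List.mem_ofFn.1 hq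
      show φ' (X (Sum.inl ⟨i, j⟩)) = 0
      rw [aeval_X]
      rfl
  have v₁ : van k (co3 δ) ≤ van k (co3 fun i => mx (γ i)) := by
    have := van_le_map φ (co3 δ)
    convert this using 2
    funext t
    show mx (γ t.1) t.2.1 t.2.2 = _
    rw [← e]
    rfl
  have v₂ : van k (co3 δ) ≤ van k (co3 fun i => mx (γ' i)) := by
    have := van_le_map φ' (co3 δ)
    convert this using 2
    funext t
    show mx (γ' t.1) t.2.1 t.2.2 = _
    rw [← e']
    rfl
  have hr : rk k (co3 δ) ≤ 744 := by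
    let Ω'' := FractionRing (MvPolynomial τ k)
    let α : MvPolynomial τ k →ₐ[k] Ω'' := IsScalarTower.toAlgHom k _ _
    let γ'' : Fin 3 → G8 Ω'' := fun i =>
      ⟨wordG e8T.inList ((W₁ i ++ W₂ i).map fun p => (p.1, α p.2)), wordG_mem_group _ _⟩
    have h1 : (fun t => α (co3 δ t)) = co3 fun i => mx (γ'' i) := by
      funext t
      have h2 : mx (γ'' t.1) = (δ t.1).map (α : MvPolynomial τ k →+* Ω'') := by
        rw [wordR_map]
        exact (eq_wordG_iff e8T.inList _ _).1 rfl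
      show _ = mx (γ'' t.1) t.2.1 t.2.2
      rw [h2]
      rfl
    have h3 := rk_le_of_van_le (van_map_le α (IsFractionRing.injective (MvPolynomial τ k) Ω'') (co3 δ))
    rw [h1] at h3
    exact h3.trans (rk_le γ'')
  rw [← van_eq_of_rk_le v₁ (hr.trans h), ← van_eq_of_rk_le v₂ (hr.trans h')]

end Cfsg.Agent.E8A.Reg5.Gen
end

-- part: E8A/Reg5/Par
section
/-!
# The box PAR: a generic point of `G × P₀ × P₁ × P₂` (helper44)

The point is a product of all admissible root elements and a torus element with independent parameters; 718 entries have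
independent linear terms.
-/

set_option autoImplicit false
set_option maxRecDepth 100000

namespace Cfsg.Agent.E8A.Reg5.Par

open Cfsg Cfsg.Lie Matrix MvPolynomial
open Cfsg.Agent.ChevalleyStructure Cfsg.Agent.ChevalleyStructure.JacMain Cfsg.Agent.ChevalleyStructure.Ring
open Cfsg.Agent.ChevalleyStructure.LieAut Cfsg.Agent.ChevalleyStructure.CoxeterGeom
open Cfsg.Agent.Nodes.RGDChev Cfsg.Agent.Tits.Roots
open Cfsg.Agent.KFacts.RgdChevCoord Cfsg.Agent.H129.TorusChar
open Cfsg.Agent.LangThm (van rk encard_le_rk rk_le_of_algebraic rk_le_of_van_le)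
open Cfsg.Agent.H942.E8Tab (e8T)
open Cfsg.Agent.H288.E8L (wt wt_inl wt_inr vec_ne_zero wt_inj adA_wt adA_col)
open Cfsg.Agent.E8A.Bor (IV X_mem_IV mem_IV aeval_inj)
open Cfsg.Agent.E8A.Reg5.Aut (si vec_si)
open Cfsg.Agent.E8A.Frm (invB8)

universe u

section Lin

variable {R : Type*} [CommRing R]

theorem xR_sq (r : Fin chevE8.nroots) {t : R} (ht : t * t = 0) :
    xR chevE8 R r t = 1 + t • adR chevE8 R (Sum.inr r) := by
  obtain ⟨m, hm⟩ := exists_degree_bound chevE8 r
  rw [xR_eq_sum chevE8 r t (m + 2) fun i j => (hm i j).trans_le (Nat.le_add_right _ _), Finset.sum_range_succ',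
    Finset.sum_range_succ', Finset.sum_eq_zero fun i _ => by rw [pow_succ, pow_succ, mul_assoc, ht, mul_zero, zero_smul],
    zero_add, zero_add, pow_one, pow_zero, one_smul, coefE_zero, Matrix.map_one _ (map_zero _) (map_one _), add_comm]
  rfl

theorem word_sq (y : Fin chevE8.nroots → R) (hy : ∀ r s, y r * y s = 0) (l : List (Fin chevE8.nroots)) :
    wordR chevE8 R (l.map fun r => (r.val, y r)) = 1 + (l.map fun r => y r • adR chevE8 R (Sum.inr r)).sum := by
  induction l with
  | nil => rw [List.map_nil, List.map_nil, List.sum_nil, add_zero, wordR_nil]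
  | cons r l ih =>
    have h1 : ∀ l : List (Fin chevE8.nroots), y r • (l.map fun s => y s • adR chevE8 R (Sum.inr s)).sum = 0 := by
      intro l
      induction l with
      | nil => rw [List.map_nil, List.sum_nil, smul_zero]
      | cons s l ih => rw [List.map_cons, List.sum_cons, smul_add, ih, smul_smul, hy, zero_smul, add_zero]
    rw [List.map_cons, wordR_cons, ih, xR_sq r (hy r r), List.map_cons, List.sum_cons, Matrix.add_mul, Matrix.one_mul,
      Matrix.mul_add, Matrix.mul_one, Matrix.smul_mul, ← Matrix.mul_smul, h1, Matrix.mul_zero, add_zero]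
    abel

/-- the product of all root elements -/
noncomputable def wd (y : Fin chevE8.nroots → R) : Matrix chevE8.Idx chevE8.Idx R :=
  wordR chevE8 R ((List.finRange chevE8.nroots).map fun r => (r.val, y r))

theorem wd_map {S : Type*} [CommRing S] (f : R →+* S) (y : Fin chevE8.nroots → R) : (wd y).map f = wd fun r => f (y r) := by
  unfold wd
  rw [wordR_map, List.map_map]
  rfl

theorem wd_mod (I : Ideal R) {y : Fin chevE8.nroots → R} (hy : ∀ r, y r ∈ I) (a b : chevE8.Idx) :
    wd y a b - ((1 : Matrix chevE8.Idx chevE8.Idx R) a b + ∑ r, y r * ((adA chevE8 (Sum.inr r) a b : ℤ) : R)) ∈ I ^ 2 := by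
  rw [← Ideal.Quotient.eq_zero_iff_mem, map_sub, sub_eq_zero]
  have h1 := congrFun (congrFun (wd_map (Ideal.Quotient.mk (I ^ 2)) y) a) b
  rw [Matrix.map_apply] at h1
  rw [h1, wd, word_sq _ (fun r s => by
    rw [← map_mul, Ideal.Quotient.eq_zero_iff_mem, pow_two]
    exact Ideal.mul_mem_mul (hy r) (hy s)), ← Fin.sum_univ_def, Matrix.add_apply, Matrix.sum_apply, map_add, map_sum]
  refine congrArg₂ (· + ·) ?_ ?_
  · rw [Matrix.one_apply, Matrix.one_apply]
    split_ifs
    · exact (map_one _).symm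
    · exact (map_zero _).symm
  · exact Finset.sum_congr rfl fun r _ => by rw [map_mul, map_intCast]; rfl

theorem wd_col (I : Ideal R) {y : Fin chevE8.nroots → R} (hy : ∀ r, y r ∈ I) (r : Fin chevE8.nroots)
    (j : Fin chevE8.rank) : wd y (Sum.inr r) (Sum.inl j) - (-((chevE8.cartan j r : ℤ) : R)) * y r ∈ I ^ 2 := by
  have h1 := wd_mod I hy (Sum.inr r) (Sum.inl j)
  rw [Matrix.one_apply_ne (by simp), zero_add, Finset.sum_eq_single r, adA_col, Int.cast_neg, mul_comm] at h1
  · exact h1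
  · intro s _ hs
    by_cases h0 : adA chevE8 (Sum.inr s) (Sum.inr r) (Sum.inl j) = 0
    · rw [h0, Int.cast_zero, mul_zero]
    · have h2 := adA_wt _ _ _ h0
      rw [wt_inl, add_zero] at h2
      exact absurd (Sum.inr.inj (wt_inj h2 (vec_ne_zero r))).symm hs
  · intro h
    exact absurd (Finset.mem_univ _) h

theorem wd_diag (I : Ideal R) {y : Fin chevE8.nroots → R} (hy : ∀ r, y r ∈ I) (a : chevE8.Idx) : wd y a a - 1 ∈ I ^ 2 := by
  have h1 := wd_mod I hy a a
  rwa [Matrix.one_apply_eq, Finset.sum_eq_zero, add_zero] at h1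
  intro s _
  by_cases h0 : adA chevE8 (Sum.inr s) a a = 0
  · rw [h0, Int.cast_zero, mul_zero]
  · exact absurd (add_eq_right.1 (adA_wt _ _ _ h0).symm) (vec_ne_zero s)

end Lin

section Grp

variable {K : Type u} [Field K]

/-- the product of all root elements, in the group -/
noncomputable def wg (y : Fin chevE8.nroots → K) : G8 K := ((List.finRange chevE8.nroots).map fun r => xr r (y r)).prod

theorem mx_wg (y : Fin chevE8.nroots → K) : mx (wg y) = wd y := by
  unfold wg wd
  generalize List.finRange chevE8.nroots = l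
  induction l with
  | nil => rfl
  | cons r l ih => rw [List.map_cons, List.prod_cons, mx_mul, ih, List.map_cons, wordR_cons]; rfl

variable (K) in
/-- the parabolic subgroups -/
def PP (i : Fin 3) : Subgroup (G8 K) where
  carrier := {g | Sh (lam i) (· ≤ 0) (mx g) ∧ Sh (lam i) (· ≤ 0) (mx g⁻¹)}
  one_mem' := by
    have h : Sh (lam i) (· ≤ 0) (mx (1 : G8 K)) := by
      intro a b h
      by_cases e : a = b
      · rw [e, sub_self]
      · exact absurd (Matrix.one_apply_ne e) h
    exact ⟨h, by rwa [inv_one]⟩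
  mul_mem' := fun {a b} ha hb => ⟨ha.1.mul hb.1 fun _ _ h1 h2 => add_nonpos h1 h2, by
    rw [_root_.mul_inv_rev]
    exact hb.2.mul ha.2 fun _ _ h1 h2 => add_nonpos h1 h2⟩
  inv_mem' := fun {a} ha => ⟨ha.2, by rw [inv_inv]; exact ha.1⟩

theorem sh_xr {i : Fin 3} {r : Fin chevE8.nroots} (h : lam i (Sum.inr r) ≤ 0) (t : K) :
    Sh (lam i) (· ≤ 0) (mx (xr r t)) := by
  intro a b hab
  by_cases e : a = b
  · rw [e, sub_self]
  · obtain ⟨m, -, hm⟩ := xr_sub_entry r t (i := a) (k := b) (by rwa [Matrix.sub_apply, Matrix.one_apply_ne e, sub_zero])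
    have h1 : lam i a = lam i b + (m : ℤ) * lam i (Sum.inr r) := congrFun hm (nd i)
    have h2 := mul_nonpos_of_nonneg_of_nonpos (Int.natCast_nonneg m) h
    show lam i a - lam i b ≤ 0
    omega

theorem sh_TT (i : Fin 3) {t : G8 K} (ht : t ∈ TT chevE8 K) : Sh (lam i) (· ≤ 0) (mx t) := by
  intro a b hab
  by_cases e : a = b
  · rw [e, sub_self]
  · rw [mx_TT ht] at hab
    exact absurd (Matrix.diagonal_apply_ne _ e) hab

theorem wg_mem {i : Fin 3} {y : Fin chevE8.nroots → K} (h : ∀ r, lam i (Sum.inr r) ≤ 0 ∨ y r = 0) : wg y ∈ PP K i := by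
  unfold wg
  refine Subgroup.list_prod_mem _ fun g hg => ?_
  obtain ⟨r, -, rfl⟩ := List.mem_map.1 hg
  rcases h r with h1 | h1
  · exact ⟨sh_xr h1 _, by rw [xr_inv]; exact sh_xr h1 _⟩
  · rw [h1, xr_zero]
    exact one_mem _

end Grp

/-- the admissible directions -/
def ok (t : Option (Fin 3) × chevE8.Idx) : Bool := t.1.elim true fun i => decide (lam i t.2 ≤ 0)

/-- the parameters -/
abbrev Pm : Type := {t : Option (Fin 3) × chevE8.Idx // ok t = true}

theorem card_Pm : Fintype.card Pm = 718 := by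
  rw [Fintype.card_subtype]
  decide +kernel

/-- a point over a large field -/
theorem exists_pt (k : Type u) [Field k] : ∃ (Ω : Type u) (_ : Field Ω) (_ : Algebra k Ω) (g : Option (Fin 3) → G8 Ω),
    (∀ i, g (some i) ∈ PP Ω i) ∧ 718 ≤ rk k (coM fun c => mx (g c)) := by
  let y : Option (Fin 3) → chevE8.Idx → MvPolynomial Pm k := fun c a => if h : ok (c, a) = true then X ⟨(c, a), h⟩ else 0
  have hy : ∀ t : Pm, y t.1.1 t.1.2 = X t := fun t => dif_pos t.2
  have hyI : ∀ c a, y c a ∈ IV Pm k := by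
    intro c a
    by_cases h : ok (c, a) = true
    · rw [hy ⟨(c, a), h⟩]
      exact X_mem_IV _
    · rw [show y c a = 0 from dif_neg h]
      exact zero_mem _
  choose jj hjj using exists_cartan_ne (K := k)
  let W : Option (Fin 3) → Matrix chevE8.Idx chevE8.Idx (MvPolynomial Pm k) := fun c => wd fun r => y c (Sum.inr r)
  let θ : Pm → MvPolynomial Pm k := fun t => Sum.elim
    (fun j => W t.1.1 (Sum.inr (si (ix j))) (Sum.inr (si (ix j))) * (1 + y t.1.1 (Sum.inl j)) - 1)
    (fun r => W t.1.1 (Sum.inr r) (Sum.inl (jj r))) t.1.2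
  have hθ := aeval_inj θ (fun t => Sum.elim (fun _ => 1) (fun r => -((chevE8.cartan (jj r) r : ℤ) : k)) t.1.2)
    (by
      rintro ⟨⟨c, j | r⟩, h⟩
      · exact one_ne_zero
      · exact neg_ne_zero.2 (hjj r))
    (by
      rintro ⟨⟨c, j | r⟩, h⟩
      · rw [← hy]
        have h1 := Ideal.mul_mem_right (1 + y c (Sum.inl j)) _
          (wd_diag (IV Pm k) (fun r => hyI c (Sum.inr r)) (Sum.inr (si (ix j))))
        show W c _ _ * (1 + y c (Sum.inl j)) - 1 - C 1 * y c (Sum.inl j) ∈ _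
        convert h1 using 1
        rw [map_one]
        ring
      · rw [← hy]
        have h1 := wd_col (IV Pm k) (fun r => hyI c (Sum.inr r)) r (jj r)
        show W c _ _ - C (-((chevE8.cartan (jj r) r : ℤ) : k)) * y c (Sum.inr r) ∈ _
        rw [map_neg, map_intCast]
        exact h1)
  let Ω := FractionRing (MvPolynomial Pm k)
  let α : MvPolynomial Pm k →ₐ[k] Ω := IsScalarTower.toAlgHom k _ _
  have hα : Function.Injective α := IsFractionRing.injective (MvPolynomial Pm k) Ω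
  have hz : ∀ c (j : Fin 8), α (1 + y c (Sum.inl (xi j))) ≠ 0 := by
    intro c j h
    have h1 := congrArg constantCoeff (hα (h.trans (map_zero α).symm))
    rw [map_add, map_one, mem_IV.1 (hyI c _), add_zero, map_zero] at h1
    exact one_ne_zero h1
  choose t ht htφ using fun c => exists_cX e8T invB8 one_ne_zero (IsMC.of_prod _ (hz c)) fun i => ⟨_, pow_one _⟩
  have h0 : ∀ c a b, mx (wg (fun r => α (y c (Sum.inr r))) * t c) a b = α (W c a b) * cX e8T (t c) (wt b) := by
    intro c a b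
    rw [mx_mul, mx_TT (ht c), Matrix.mul_diagonal, mx_wg]
    exact congrArg (· * cX e8T (t c) (wt b))
      (congrFun (congrFun (wd_map (α : MvPolynomial Pm k →+* Ω) fun r => y c (Sum.inr r)) a) b).symm
  refine ⟨Ω, inferInstance, inferInstance, fun c => wg (fun r => α (y c (Sum.inr r))) * t c, fun i => ?_, ?_⟩
  · refine (mul_mem (wg_mem fun r => ?_) ⟨sh_TT i (ht _), sh_TT i (inv_mem (ht _))⟩ :)
    by_cases h : ok (some i, Sum.inr r) = true
    · exact Or.inl (of_decide_eq_true h)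
    · right
      rw [show y (some i) (Sum.inr r) = 0 from dif_neg h, map_zero]
  · have h1 : AlgebraicIndependent k (α ∘ θ) := AlgebraicIndependent.map' (x := θ) hθ hα
    have h2 := encard_le_rk (k := k) (v := α ∘ θ) (J := Set.univ) (h1.comp _ Subtype.val_injective)
    rw [Set.encard_univ, ENat.card_eq_coe_fintype_card, card_Pm] at h2
    refine le_trans h2 (rk_le_of_algebraic fun s => ?_)
    obtain ⟨B, hB⟩ : ∃ B, B = Algebra.adjoin k
      (Set.range (coM fun c => mx (wg (fun r => α (y c (Sum.inr r))) * t c))) := ⟨_, rfl⟩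
    have h3 : ∀ c a b, α (W c a b) * cX e8T (t c) (wt b) ∈ B := fun c a b => by
      rw [hB, ← h0]
      exact Algebra.subset_adjoin ⟨(c, a, b), rfl⟩
    rw [← hB]
    have h4 : (α ∘ θ) s ∈ B := by
      obtain ⟨⟨c, j | r⟩, h⟩ := s
      · have h5 := h3 c (Sum.inr (si (ix j))) (Sum.inr (si (ix j)))
        rw [wt_inr, vec_si, htφ, Finset.prod_eq_single (ix j), sr_self, zpow_one, ← map_mul] at h5
        · show α (_ - 1) ∈ B
          rw [map_sub, map_one]
          exact sub_mem h5 (one_mem _)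
        · intro i _ hi
          rw [sr_ne hi, zpow_zero]
        · intro hh
          exact absurd (Finset.mem_univ _) hh
      · have h5 := h3 c (Sum.inr r) (Sum.inl (jj r))
        rw [wt_inl, (isMC_cX e8T (ht c)).zero, mul_one] at h5
        exact h5
    exact isAlgebraic_algebraMap (⟨_, h4⟩ : B)

/-- **PAR** -/
theorem par : PAR.{u} := by
  intro k _ _
  obtain ⟨Ω, _, _, g, hg, hr⟩ := exists_pt k
  let E := IntermediateField.adjoin k (Set.range (coM fun c => mx (g c)))
  let M : Option (Fin 3) → Matrix chevE8.Idx chevE8.Idx E := fun c =>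
    Matrix.of fun a b => ⟨mx (g c) a b, IntermediateField.subset_adjoin _ _ ⟨(c, a, b), rfl⟩⟩
  let f : E →+* Ω := algebraMap E Ω
  have hf : Function.Injective f := f.injective
  have hM : ∀ c, (M c).map f = mx (g c) := fun _ => rfl
  have h1 : ∀ c, M c * (M c)⁻¹ = 1 := by
    intro c
    refine Matrix.mul_nonsing_inv _ (isUnit_iff_ne_zero.2 fun h => ?_)
    have h2 := congrArg Matrix.det (mx_mul_inv (g c))
    rw [Matrix.det_mul, ← hM, ← RingHom.mapMatrix_apply, ← RingHom.map_det, h, map_zero, zero_mul, Matrix.det_one] at h2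
    exact zero_ne_one h2
  have h2 : ∀ c, ((M c)⁻¹).map f = mx (g c)⁻¹ := by
    intro c
    have h3 : mx (g c) * ((M c)⁻¹).map f = 1 := by
      rw [← hM, ← Matrix.map_mul, h1, Matrix.map_one _ (map_zero _) (map_one _)]
    rw [← Matrix.one_mul (((M c)⁻¹).map f), ← mx_inv_mul (g c), Matrix.mul_assoc, h3, Matrix.mul_one]
  refine ⟨E, inferInstance, inferInstance, M, fun c => (M c)⁻¹, h1, fun c x => ?_, fun i a b h => ?_, fun i a b h => ?_,
    ?_, ?_⟩
  · apply Matrix.map_injective hf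
    show Matrix.map _ f = Matrix.map _ f
    rw [one_smul, Matrix.map_mul, Matrix.map_mul, ad_map, ad_map, mulVec_map, hM]
    exact (adm_conj (g c) _).symm
  · exact (hg i).1 a b fun h0 => h (hf (h0.trans (map_zero f).symm))
  · refine (hg i).2 a b fun h0 => h (hf ?_)
    rw [← h2] at h0
    exact h0.trans (map_zero f).symm
  · apply IntermediateField.map_injective E.val
    rw [IntermediateField.adjoin_map, ← Set.range_comp, ← AlgHom.fieldRange_eq_map, IntermediateField.fieldRange_val]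
    rfl
  · exact hr.trans (rk_le_of_van_le (Gen.van_le_map E.val (coM M)))

end Cfsg.Agent.E8A.Reg5.Par
end

-- part: E8A/Reg5/Alg
section
/-!
# The boxes EXT, DER, AMAL, SPEC (helper44)
-/

set_option autoImplicit false

namespace Cfsg.Agent.E8A.Reg5.Alg

open Cfsg Matrix MvPolynomial TensorProduct
open Cfsg.Agent.LangThm (van rk mem_van exists_indep encard_le_rk rk_le_of_algebraic)

universe u

/-- extension of a derivation to the field of fractions -/
theorem exists_der {k P K : Type u} [Field k] [CommRing P] [IsDomain P] [Field K] [Algebra k P] [Algebra k K] [Algebra P K]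
    [IsScalarTower k P K] [IsFractionRing P K] (D : Derivation k P P) :
    ∃ D' : Derivation k K K, ∀ a, D' (algebraMap P K a) = algebraMap P K (D a) := by
  let g0 : P → DualNumber K := fun a =>
    TrivSqZeroExt.inl (algebraMap P K a) + TrivSqZeroExt.inr (algebraMap P K (D a))
  have hg1 : ∀ a, (g0 a).fst = algebraMap P K a := fun a => by
    show (_ + _ : DualNumber K).fst = _
    rw [TrivSqZeroExt.fst_add, TrivSqZeroExt.fst_inl, TrivSqZeroExt.fst_inr, add_zero]
  have hg2 : ∀ a, (g0 a).snd = algebraMap P K (D a) := fun a => by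
    show (_ + _ : DualNumber K).snd = _
    rw [TrivSqZeroExt.snd_add, TrivSqZeroExt.snd_inl, TrivSqZeroExt.snd_inr, zero_add]
  let g : P →+* DualNumber K :=
    { toFun := g0
      map_one' := TrivSqZeroExt.ext (by rw [hg1, map_one]; rfl) (by rw [hg2, D.map_one_eq_zero, map_zero]; rfl)
      map_mul' := fun a b => TrivSqZeroExt.ext (by rw [TrivSqZeroExt.fst_mul, hg1, hg1, hg1, map_mul]) (by
        rw [DualNumber.snd_mul, hg1, hg1, hg2, hg2, hg2, D.leibniz, smul_eq_mul, smul_eq_mul, map_add, map_mul, map_mul,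
          mul_comm (algebraMap P K b)])
      map_zero' := TrivSqZeroExt.ext (by rw [hg1, map_zero]; rfl) (by rw [hg2, map_zero, map_zero]; rfl)
      map_add' := fun a b => TrivSqZeroExt.ext (by rw [hg1, TrivSqZeroExt.fst_add, hg1, hg1, map_add]) (by
        rw [hg2, TrivSqZeroExt.snd_add, hg2, hg2, map_add, map_add]) }
  have hg3 : ∀ a, (g a).fst = algebraMap P K a := hg1
  have hg4 : ∀ a, (g a).snd = algebraMap P K (D a) := hg2
  have hu : ∀ y : nonZeroDivisors P, IsUnit (g y) := by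
    intro y
    rw [TrivSqZeroExt.isUnit_iff_isUnit_fst, hg3]
    exact IsLocalization.map_units K y
  let F : K →+* DualNumber K := IsLocalization.lift hu
  have hF : ∀ a, F (algebraMap P K a) = g a := fun a => IsLocalization.lift_eq hu a
  have hF1 : ∀ z, (F z).fst = z := by
    have h1 : ((TrivSqZeroExt.fstHom K K K).toRingHom.comp F) = RingHom.id K :=
      IsLocalization.ringHom_ext (nonZeroDivisors P) (RingHom.ext fun a => by
        show (F (algebraMap P K a)).fst = algebraMap P K a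
        rw [hF, hg3])
    exact fun z => RingHom.congr_fun h1 z
  have hF2 : ∀ z w, (F (z * w)).snd = z * (F w).snd + w * (F z).snd := by
    intro z w
    rw [map_mul, DualNumber.snd_mul, hF1, hF1, mul_comm (F z).snd]
  refine ⟨Derivation.mk'
    { toFun := fun z => (F z).snd
      map_add' := fun z w => by rw [map_add, TrivSqZeroExt.snd_add]
      map_smul' := fun c z => ?_ } fun z w => hF2 z w, fun a => ?_⟩
  · rw [Algebra.smul_def, hF2, IsScalarTower.algebraMap_apply k P K, hF, hg4, Derivation.map_algebraMap, map_zero,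
      mul_zero, add_zero, RingHom.id_apply, Algebra.smul_def, IsScalarTower.algebraMap_apply k P K]
  · show (F (algebraMap P K a)).snd = _
    rw [hF, hg4]

/-- **EXT** -/
theorem ext : EXT.{u} := by
  intro k Ω _ _ _ T σ _ _ _ x hx
  let K := FractionRing (MvPolynomial σ Ω)
  let b : σ → K := fun s => algebraMap (MvPolynomial σ Ω) K (X s)
  refine ⟨K, inferInstance, inferInstance, IsScalarTower.toAlgHom k Ω K, b, ?_, ?_, fun s => ?_⟩
  · obtain ⟨E, hE⟩ : ∃ E, E = IntermediateField.adjoin k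
        (Set.range (Sum.elim b fun t => IsScalarTower.toAlgHom k Ω K (x t))) := ⟨_, rfl⟩
    have h0 : ∀ t, Sum.elim b (fun t => IsScalarTower.toAlgHom k Ω K (x t)) t ∈ E := fun t => by
      rw [hE]
      exact IntermediateField.subset_adjoin _ _ ⟨t, rfl⟩
    rw [← hE]
    have h1 : ∀ c : Ω, algebraMap Ω K c ∈ E := by
      intro c
      have h2 : IntermediateField.adjoin k (Set.range x) ≤ E.comap (IsScalarTower.toAlgHom k Ω K) := by
        rw [IntermediateField.adjoin_le_iff]
        rintro _ ⟨t, rfl⟩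
        exact h0 (Sum.inr t)
      rw [hx] at h2
      exact h2 (IntermediateField.mem_top (x := c))
    have h2 : ∀ f : MvPolynomial σ Ω, algebraMap (MvPolynomial σ Ω) K f ∈ E := by
      intro f
      induction f using MvPolynomial.induction_on with
      | C c => exact h1 c
      | add f g hf hg =>
        rw [map_add]
        exact add_mem hf hg
      | mul_X f s hf =>
        rw [map_mul]
        exact mul_mem hf (h0 (Sum.inl s))
    rw [eq_top_iff]
    intro z _
    obtain ⟨f, g, -, rfl⟩ := IsFractionRing.div_surjective (MvPolynomial σ Ω) z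
    exact div_mem (h2 f) (h2 g)
  · obtain ⟨J, hJ, -, hc⟩ := exists_indep (k := k) x
    have hb : AlgebraicIndependent Ω b :=
      (MvPolynomial.algebraicIndependent_X σ Ω).map' (f := IsScalarTower.toAlgHom Ω (MvPolynomial σ Ω) K)
        (IsFractionRing.injective (MvPolynomial σ Ω) K)
    have hJ' : AlgebraicIndependent k fun i : J => x i := hJ
    have h1 := hJ'.sumElim_comp hb
    have h2 := encard_le_rk (k := k) (v := Sum.elim b (algebraMap Ω K ∘ fun i : J => x i)) (J := Set.univ)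
      (h1.comp _ Subtype.val_injective)
    rw [Set.encard_univ, ENat.card_sum, ENat.card_eq_coe_fintype_card] at h2
    rw [← hc]
    refine le_trans h2 (Matroid.eRk_mono _ ?_)
    rintro _ ⟨i | i, rfl⟩
    · exact ⟨Sum.inl i, rfl⟩
    · exact ⟨Sum.inr i, rfl⟩
  · obtain ⟨D, hD⟩ := exists_der (K := K) ((pderiv s : Derivation Ω (MvPolynomial σ Ω) _).restrictScalars k)
    refine ⟨D, fun t => ?_⟩
    rw [hD, Derivation.restrictScalars_apply, pderiv_X, Pi.single_apply]
    split_ifs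
    · exact map_one _
    · exact map_zero _

theorem der_zero {k K : Type u} [Field k] [Field K] [Algebra k K] (D : Derivation k K K) {S : Set K}
    (h : ∀ a ∈ S, D a = 0) {z : K} (hz : z ∈ IntermediateField.adjoin k S) : D z = 0 := by
  induction hz using IntermediateField.adjoin_induction with
  | mem a ha => exact h a ha
  | algebraMap c => exact D.map_algebraMap c
  | add a b _ _ ha hb => rw [map_add, ha, hb, add_zero]
  | inv a _ ha => rw [D.leibniz_inv, ha, smul_zero]
  | mul a b _ _ ha hb => rw [D.leibniz, ha, hb, smul_zero, smul_zero, add_zero]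

/-- **DER** -/
theorem der : DER.{u} := by
  intro k K _ _ _ T T' _ x y hx h
  let E := IntermediateField.adjoin k (Set.range y)
  have h1 : Algebra.EssFiniteType k K := IntermediateField.fg_top_iff.1 (by
    rw [← hx]
    exact IntermediateField.fg_adjoin_of_finite (Set.finite_range x))
  have h2 : Algebra.EssFiniteType E K := Algebra.EssFiniteType.of_comp k E K
  have h3 : Subsingleton (KaehlerDifferential E K) := by
    refine (Module.subsingleton_dual_iff K).1 ⟨fun f g => ?_⟩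
    suffices h4 : ∀ f : Module.Dual K (KaehlerDifferential E K), f = 0 by rw [h4 f, h4 g]
    intro f
    apply (KaehlerDifferential.linearMapEquivDerivation E K).injective
    rw [map_zero]
    obtain ⟨D, hD⟩ : ∃ D, D = KaehlerDifferential.linearMapEquivDerivation E K f := ⟨_, rfl⟩
    rw [← hD]
    have h5 := h (D.restrictScalars k) fun t =>
      D.map_algebraMap (⟨y t, IntermediateField.subset_adjoin _ _ ⟨t, rfl⟩⟩ : E)
    ext z
    refine der_zero (D.restrictScalars k) (S := Set.range x) ?_ (by rw [hx]; exact IntermediateField.mem_top)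
    rintro _ ⟨t, rfl⟩
    exact h5 t
  have h4 : Algebra.FormallyUnramified E K := ⟨h3⟩
  have h5 := Algebra.FormallyUnramified.isSeparable E K
  exact rk_le_of_algebraic fun t =>
    IntermediateField.isAlgebraic_adjoin_iff.1 (Algebra.IsAlgebraic.isAlgebraic (R := E) (x t))

theorem exists_amal' (R Ω Ω' : Type u) [CommRing R] [Field Ω] [Field Ω'] [Algebra R Ω] [Algebra R Ω']
    (hg : Function.Injective (algebraMap R Ω)) (hg' : Function.Injective (algebraMap R Ω')) :
    ∃ (K : Type u) (_ : Field K) (f : Ω →+* K) (f' : Ω' →+* K), ∀ a, f (algebraMap R Ω a) = f' (algebraMap R Ω' a) := by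
  have hN := Algebra.TensorProduct.nontrivial_of_algebraMap_injective_of_isDomain R Ω Ω' hg hg'
  obtain ⟨M, hM⟩ := Ideal.exists_maximal (Ω ⊗[R] Ω')
  let _ := Ideal.Quotient.field M
  refine ⟨(Ω ⊗[R] Ω') ⧸ M, inferInstance, (Ideal.Quotient.mk M).comp Algebra.TensorProduct.includeLeftRingHom,
    (Ideal.Quotient.mk M).comp (Algebra.TensorProduct.includeRight (R := R) (A := Ω) (B := Ω')).toRingHom, fun a => ?_⟩
  exact congrArg (Ideal.Quotient.mk M) ((Algebra.TensorProduct.includeRight (R := R) (A := Ω) (B := Ω')).commutes a).symm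

theorem exists_amal {R Ω Ω' : Type u} [CommRing R] [Field Ω] [Field Ω'] (g : R →+* Ω) (g' : R →+* Ω')
    (hg : Function.Injective g) (hg' : Function.Injective g') :
    ∃ (K : Type u) (_ : Field K) (f : Ω →+* K) (f' : Ω' →+* K), ∀ a, f (g a) = f' (g' a) :=
  @exists_amal' R Ω Ω' _ _ _ g.toAlgebra g'.toAlgebra hg hg'

/-- **AMAL** -/
theorem amal : AMAL.{u} := by
  intro k Ω Ω' _ _ _ _ _ T v v' h
  let R := MvPolynomial T k ⧸ van k v
  let g : R →ₐ[k] Ω := Ideal.Quotient.liftₐ _ (aeval v) fun a ha => mem_van.1 ha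
  let g' : R →ₐ[k] Ω' := Ideal.Quotient.liftₐ _ (aeval v') fun a ha => mem_van.1 (h ▸ ha)
  have hg : Function.Injective g := by
    rw [injective_iff_map_eq_zero]
    intro a ha
    obtain ⟨a, rfl⟩ := Ideal.Quotient.mk_surjective a
    exact Ideal.Quotient.eq_zero_iff_mem.2 (mem_van.2 ha)
  have hg' : Function.Injective g' := by
    rw [injective_iff_map_eq_zero]
    intro a ha
    obtain ⟨a, rfl⟩ := Ideal.Quotient.mk_surjective a
    refine Ideal.Quotient.eq_zero_iff_mem.2 ?_
    rw [h]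
    exact mem_van.2 ha
  obtain ⟨K, hK, f, f', hf0⟩ := exists_amal g.toRingHom g'.toRingHom hg hg'
  have hf : ∀ a : R, f (g a) = f' (g' a) := hf0
  let _ : Algebra k K := (f.comp (algebraMap k Ω)).toAlgebra
  refine ⟨K, hK, inferInstance, ⟨f, fun _ => rfl⟩, ⟨f', fun c => ?_⟩, fun t => ?_⟩
  · show f' (algebraMap k Ω' c) = f (algebraMap k Ω c)
    rw [← g.commutes, ← g'.commutes, hf]
  · have h1 := hf (Ideal.Quotient.mk _ (X t))
    have h2 : g (Ideal.Quotient.mk _ (X t)) = v t := aeval_X v t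
    have h3 : g' (Ideal.Quotient.mk _ (X t)) = v' t := aeval_X v' t
    rw [h2, h3] at h1
    exact h1

/-- **SPEC** -/
theorem spec : SPEC.{u} := by
  intro ι _ _ A k K _ _ _ _ T φ φ' x x' h1 h2 h3
  let ψ : MvPolynomial ((ι × ι) ⊕ (ι × ι)) k →ₐ[k] K := aeval (Sum.elim (fun t => x t.1 t.2) fun t => x' t.1 t.2)
  obtain ⟨pt, hpt⟩ := Bor.exists_point (ψ : MvPolynomial ((ι × ι) ⊕ (ι × ι)) k →+* K)
  let e : MvPolynomial ((ι × ι) ⊕ (ι × ι)) k →ₐ[k] k := aeval pt
  have h4 : ∀ M N : Matrix ι ι (MvPolynomial ((ι × ι) ⊕ (ι × ι)) k), M.map ψ = N.map ψ → M.map e = N.map e := by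
    intro M N h
    ext a b
    have h5 : ψ (M a b - N a b) = 0 := by
      rw [map_sub]
      exact sub_eq_zero.2 (congrFun (congrFun h a) b)
    have h6 : e (M a b - N a b) = 0 := by
      rw [← hpt _ h5]
      exact DFunLike.congr_fun (coe_aeval_eq_eval pt) _
    rw [map_sub] at h6
    exact sub_eq_zero.1 h6
  let Y : Matrix ι ι (MvPolynomial ((ι × ι) ⊕ (ι × ι)) k) := Matrix.of fun a b => X (Sum.inl (a, b))
  let Y' : Matrix ι ι (MvPolynomial ((ι × ι) ⊕ (ι × ι)) k) := Matrix.of fun a b => X (Sum.inr (a, b))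
  have hY : Y.map ψ = x := by
    ext a b
    exact aeval_X _ _
  have hY' : Y'.map ψ = x' := by
    ext a b
    exact aeval_X _ _
  have h5 : ∀ (S : Type u) [CommRing S] [Algebra k S] (f : MvPolynomial ((ι × ι) ⊕ (ι × ι)) k →ₐ[k] S) (j : ι),
      (ad A (Y *ᵥ Pi.single j 1) * Y).map f = ad A (Y.map f *ᵥ Pi.single j 1) * Y.map f ∧
      (Y * ad A (Pi.single j 1)).map f = Y.map f * ad A (Pi.single j 1) := by
    intro S _ _ f j
    have e1 : (fun l => f ((Pi.single j 1 : ι → MvPolynomial ((ι × ι) ⊕ (ι × ι)) k) l)) = Pi.single j 1 := by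
      funext l
      rw [Pi.single_apply, Pi.single_apply]
      split_ifs
      · exact map_one f
      · exact map_zero f
    have e2 := ad_map (A := A) (f : MvPolynomial ((ι × ι) ⊕ (ι × ι)) k →+* S) (Y *ᵥ Pi.single j 1)
    have e3 := ad_map (A := A) (f : MvPolynomial ((ι × ι) ⊕ (ι × ι)) k →+* S) (Pi.single j 1)
    rw [mulVec_map] at e2
    rw [amap_mul, amap_mul]
    exact ⟨congrArg (· * Y.map f) (e2.trans (congrArg (fun z => ad A (Y.map f *ᵥ z)) e1)),
      congrArg (Y.map f * ·) (e3.trans (congrArg (ad A) e1))⟩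
  refine ⟨Y.map e, Y'.map e, ?_, tw_of_basis fun j => ?_, fun t => ?_⟩
  · rw [← amap_mul, ← amap_one e]
    refine h4 _ _ ?_
    rw [amap_mul, amap_one, hY, hY', h1]
  · rw [one_smul, ← (h5 k e j).1, ← (h5 k e j).2]
    refine h4 _ _ ?_
    rw [(h5 K ψ j).1, (h5 K ψ j).2, hY, h2, one_smul]
  · have h6 := h4 (fk _ (φ' t) * Y) (Y * fk _ (φ t)) (by rw [amap_mul, amap_mul, fk_map, fk_map, hY, h3])
    rw [amap_mul, amap_mul, fk_map, fk_map] at h6
    exact h6

end Cfsg.Agent.E8A.Reg5.Alg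
end

-- part: E8A/Reg5/IcoEx
section
/-!
# The icosahedral group on the projective line: existence (helper8)
-/

set_option autoImplicit false

namespace Cfsg.Agent.E8A.Reg5.IcoEx

open Matrix Cfsg.Agent.Lib.VonDyck

universe u

variable {k : Type u} [Field k]

theorem val_mul (A B : _root_.Matrix.SpecialLinearGroup (Fin 2) k) : (A * B).1 = A.1 * B.1 := rfl

theorem val_one : (1 : _root_.Matrix.SpecialLinearGroup (Fin 2) k).1 = 1 := rfl

theorem val_neg (A : _root_.Matrix.SpecialLinearGroup (Fin 2) k) : (-A).1 = -A.1 := rfl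

theorem val_pow (A : _root_.Matrix.SpecialLinearGroup (Fin 2) k) (n : ℕ) : (A ^ n).1 = A.1 ^ n := by
  induction n with
  | zero => rw [pow_zero, pow_zero, val_one]
  | succ n ih => rw [pow_succ, pow_succ, val_mul, ih]

/-! ### determinants of pairs of vectors -/

theorem dt_self (v : Fin 2 → k) : dt v v = 0 := by unfold dt; ring

theorem dt_smul_left (c : k) (v w : Fin 2 → k) : dt (c • v) w = c * dt v w := by
  simp only [dt, Pi.smul_apply, smul_eq_mul]; ring

theorem dt_smul_right (c : k) (v w : Fin 2 → k) : dt v (c • w) = c * dt v w := by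
  simp only [dt, Pi.smul_apply, smul_eq_mul]; ring

theorem dt_mulVec (M : _root_.Matrix.SpecialLinearGroup (Fin 2) k) (v w : Fin 2 → k) : dt (M.1 *ᵥ v) (M.1 *ᵥ w) = dt v w := by
  have h := M.2
  rw [det_fin_two] at h
  simp only [dt, mulVec, dotProduct, Fin.sum_univ_two]
  linear_combination (v 0 * w 1 - v 1 * w 0) * h

theorem exists_dt_one {v : Fin 2 → k} (hv : v ≠ 0) : ∃ u, dt v u = 1 := by
  by_cases h0 : v 0 = 0
  · have h1 : v 1 ≠ 0 := fun h1 => hv (by ext i; fin_cases i <;> simp [h0, h1])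
    exact ⟨![-(v 1)⁻¹, 0], by simp [dt, h1]⟩
  · exact ⟨![0, (v 0)⁻¹], by simp [dt, h0]⟩

theorem eq_comb {v u : Fin 2 → k} (h : dt v u = 1) (w : Fin 2 → k) : w = dt w u • v + dt v w • u := by
  unfold dt at h
  ext i
  fin_cases i
  · simp only [dt, Pi.add_apply, Pi.smul_apply, smul_eq_mul, Fin.zero_eta]
    linear_combination (-(w 0)) * h
  · simp only [dt, Pi.add_apply, Pi.smul_apply, smul_eq_mul, Fin.mk_one]
    linear_combination (-(w 1)) * h

theorem dt_eq_zero_iff {v : Fin 2 → k} (hv : v ≠ 0) (w : Fin 2 → k) : dt v w = 0 ↔ ∃ c : k, w = c • v := by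
  constructor
  · intro h
    obtain ⟨u, hu⟩ := exists_dt_one hv
    exact ⟨dt w u, by conv_lhs => rw [eq_comb hu w, h, zero_smul, add_zero]⟩
  · rintro ⟨c, rfl⟩
    rw [dt_smul_right, dt_self, mul_zero]

theorem mulVec_ne_zero (M : _root_.Matrix.SpecialLinearGroup (Fin 2) k) {v : Fin 2 → k} (hv : v ≠ 0) : M.1 *ᵥ v ≠ 0 := by
  obtain ⟨u, hu⟩ := exists_dt_one hv
  intro h
  rw [← dt_mulVec M, h] at hu
  simp only [dt, _root_.Pi.zero_apply, _root_.Fin.isValue, _root_.Matrix.mulVec_fin_two, _root_.Nat.succ_eq_add_one, _root_.Nat.reduceAdd, _root_.Matrix.cons_val_one, _root_.Matrix.cons_val_fin_one, _root_.MulZeroClass.zero_mul, _root_.Matrix.cons_val_zero, _root_.sub_self, _root_.zero_ne_one] at hu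

theorem exists_eigen [IsAlgClosed k] (M : Matrix (Fin 2) (Fin 2) k) : ∃ v : Fin 2 → k, v ≠ 0 ∧ ∃ c : k, M *ᵥ v = c • v := by
  obtain ⟨c, hc⟩ := Module.End.exists_eigenvalue (Matrix.toLin' M)
  obtain ⟨v, hv⟩ := hc.exists_hasEigenvector
  exact ⟨v, hv.2, c, by simpa only [_root_.Matrix.mulVec_fin_two, _root_.Nat.succ_eq_add_one, _root_.Nat.reduceAdd, _root_.Fin.isValue, _root_.Matrix.toLin'_apply] using hv.apply_eq_smul⟩

/-- an element of finite order prime to the characteristic with a fixed vector is trivial -/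
theorem eq_one_of_fix (M : _root_.Matrix.SpecialLinearGroup (Fin 2) k) {v : Fin 2 → k} (hv : v ≠ 0) (h : M.1 *ᵥ v = v) {n : ℕ}
    (hn : (n : k) ≠ 0) (hM : M ^ n = 1) : M = 1 := by
  obtain ⟨u, hu⟩ := exists_dt_one hv
  have h1 : dt v (M.1 *ᵥ u) = 1 := by
    have h0 := dt_mulVec M v u
    rwa [h, hu] at h0
  have h2 := eq_comb hu (M.1 *ᵥ u)
  rw [h1, one_smul] at h2
  set a := dt (M.1 *ᵥ u) u
  have h3 : ∀ j : ℕ, (M ^ j).1 *ᵥ u = ((j : k) * a) • v + u := by
    intro j
    induction j with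
    | zero => rw [pow_zero, val_one]; simp
    | succ j ih =>
      rw [pow_succ', val_mul, ← mulVec_mulVec, ih, mulVec_add, mulVec_smul, h, h2, ← add_assoc,
        ← add_smul]
      congr 2; push_cast; ring
  have h4 := h3 n
  rw [hM, val_one, one_mulVec, right_eq_add, smul_eq_zero] at h4
  have h5 : a = 0 := (mul_eq_zero.1 (h4.resolve_right hv)).resolve_left hn
  rw [h5, zero_smul, zero_add] at h2
  apply Subtype.ext
  rw [← Matrix.toLin'.injective.eq_iff]
  refine LinearMap.ext fun w => ?_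
  rw [Matrix.toLin'_apply, Matrix.toLin'_apply, val_one, one_mulVec, eq_comb hu w, mulVec_add,
    mulVec_smul, mulVec_smul, h, h2]

/-- the second eigenvector -/
theorem exists_second (M : _root_.Matrix.SpecialLinearGroup (Fin 2) k) {v : Fin 2 → k} (hv : v ≠ 0) {η : k} (h : M.1 *ᵥ v = η • v)
    (hη : η ^ 2 ≠ 1) : ∃ w, M.1 *ᵥ w = η⁻¹ • w ∧ dt v w = 1 := by
  obtain ⟨u, hu⟩ := exists_dt_one hv
  have h1 : η * dt v (M.1 *ᵥ u) = 1 := by rw [← dt_smul_left, ← h, dt_mulVec, hu]
  have h0 : η ≠ 0 := left_ne_zero_of_mul_eq_one h1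
  have h2 := eq_comb hu (M.1 *ᵥ u)
  rw [← inv_eq_of_mul_eq_one_right h1] at h2
  set a := dt (M.1 *ᵥ u) u
  have h3 : η⁻¹ - η ≠ 0 := by
    intro h3
    apply hη
    rw [sub_eq_zero] at h3
    rw [pow_two]
    nth_rewrite 1 [← h3]
    exact inv_mul_cancel₀ h0
  refine ⟨(a / (η⁻¹ - η)) • v + u, ?_, ?_⟩
  · rw [mulVec_add, mulVec_smul, h, h2, smul_add, smul_smul, smul_smul, ← add_assoc, ← add_smul]
    congr 2
    field_simp
    ring
  · simp only [dt, Pi.add_apply, Pi.smul_apply, smul_eq_mul] at hu ⊢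
    linear_combination hu

/-! ### the group -/

/-- the abstract properties of the binary icosahedral group -/
structure Bin (k : Type u) [Field k] (Γ : Type) [Group Γ] (π : Γ →* A5) (ρ : Γ →* _root_.Matrix.SpecialLinearGroup (Fin 2) k)
    (z : Γ) : Prop where
  inj : Function.Injective ρ
  surj : Function.Surjective π
  ρ_z : (ρ z).1 = -1
  ker : ∀ γ, π γ = 1 ↔ γ = 1 ∨ γ = z
  perf : ∀ χ : Γ →* kˣ, χ = 1

theorem exists_bin [IsAlgClosed k] : ∃ (Γ : Type) (_ : Group Γ) (_ : Fintype Γ) (π : Γ →* A5)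
    (ρ : Γ →* _root_.Matrix.SpecialLinearGroup (Fin 2) k) (z : Γ), Bin k Γ π ρ z := by
  obtain ⟨ζ, hζ⟩ := IsAlgClosed.exists_root (Polynomial.cyclotomic 5 k) (by
    rw [Polynomial.degree_cyclotomic]; decide)
  have : Fact (Nat.Prime 5) := ⟨by norm_num⟩
  have h : ζ ^ 4 + ζ ^ 3 + ζ ^ 2 + ζ + 1 = 0 := by
    rw [Polynomial.IsRoot.def, Polynomial.cyclotomic_prime] at hζ
    simp only [Finset.sum_range_succ, _root_.Finset.range_one, _root_.Finset.sum_singleton, _root_.pow_zero, _root_.pow_one, _root_.Polynomial.eval_add, _root_.Polynomial.eval_one, _root_.Polynomial.eval_X, _root_.Polynomial.eval_pow] at hζ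
    linear_combination hζ
  have h5 : ζ ^ 5 = 1 := by linear_combination (ζ - 1) * h
  let X : _root_.Matrix.SpecialLinearGroup (Fin 2) k := ⟨!![0, 1; -1, 0], by simp [det_fin_two]⟩
  let Y : _root_.Matrix.SpecialLinearGroup (Fin 2) k := ⟨!![0, ζ; -ζ ^ 4, 1], by simp only [det_fin_two, _root_.Fin.isValue, _root_.Matrix.of_apply, _root_.Matrix.cons_val', _root_.Matrix.cons_val_zero, _root_.Matrix.cons_val_fin_one, _root_.Matrix.cons_val_one, _root_.mul_one, _root_.mul_neg, _root_.sub_neg_eq_add, _root_.zero_add]; linear_combination h5⟩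
  have hX : X ^ 2 = -1 := by
    apply Subtype.ext
    rw [val_pow, val_neg, val_one]
    ext i j
    (revert i j; simp only [X, pow_succ, mul_apply, Fin.sum_univ_two, _root_.Fin.forall_fin_succ, _root_.pow_zero, _root_.one_mul, _root_.Matrix.of_apply, _root_.Matrix.cons_val', _root_.Matrix.cons_val_fin_one, Fin.isValue, _root_.Matrix.cons_val_zero, _root_.Matrix.cons_val_one, _root_.Matrix.neg_apply, _root_.MulZeroClass.mul_zero, _root_.mul_neg, _root_.mul_one, _root_.zero_add, _root_.neg_inj, _root_.Matrix.cons_val_succ, _root_.add_zero, _root_.IsEmpty.forall_iff, _root_.and_true, _root_.Matrix.one_apply_eq, Nat.reduceAdd, _root_.Fin.succ_zero_eq_one, _root_.ne_eq, _root_.zero_ne_one, _root_.not_false_eq_true, _root_.Matrix.one_apply_ne, _root_.neg_zero, _root_.and_self, _root_.Fin.succ_ne_zero, _root_.true_and])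
  have hY : Y ^ 3 = -1 := by
    apply Subtype.ext
    rw [val_pow, val_neg, val_one]
    ext i j
    fin_cases i <;> fin_cases j <;> simp only [Y, pow_succ, mul_apply, Fin.sum_univ_two, _root_.pow_zero, _root_.one_mul, _root_.Fin.zero_eta, _root_.Fin.isValue, _root_.Matrix.cons_mul, _root_.Nat.succ_eq_add_one, _root_.Nat.reduceAdd, _root_.Matrix.vecMul_cons, _root_.Matrix.head_cons, _root_.zero_smul, _root_.Matrix.tail_cons, _root_.Matrix.smul_cons, _root_.smul_eq_mul, _root_.mul_neg, _root_.mul_one, _root_.Matrix.smul_empty, _root_.Matrix.empty_vecMul, _root_.add_zero, _root_.zero_add, _root_.neg_smul, _root_.MulZeroClass.mul_zero, _root_.Matrix.neg_cons, _root_.neg_zero, _root_.Matrix.neg_empty, _root_.one_smul, _root_.Matrix.add_cons, _root_.Matrix.empty_add_empty, _root_.Matrix.empty_mul, _root_.Equiv.symm_apply_apply, _root_.Matrix.of_apply, _root_.Matrix.cons_val', _root_.Matrix.cons_val_fin_one, _root_.Matrix.cons_val_zero, _root_.Matrix.cons_val_one,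 _root_.Matrix.neg_apply, _root_.Matrix.one_apply_eq, _root_.neg_inj, _root_.Fin.mk_one, _root_.neg_mul, _root_.ne_eq, _root_.zero_ne_one, _root_.not_false_eq_true, _root_.Matrix.one_apply_ne, _root_.one_ne_zero, _root_.neg_eq_zero, _root_.mul_eq_zero, _root_.or_self]
    · linear_combination h5
    · linear_combination (-ζ) * h5
    · left; linear_combination (-1 : k) * h5
    · linear_combination (-2) * h5
  have hXY : (X * Y) ^ 5 = -1 := by
    apply Subtype.ext
    rw [val_pow, val_neg, val_one, val_mul]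
    ext i j
    fin_cases i <;> fin_cases j <;> simp [X, Y, pow_succ, mul_apply, Fin.sum_univ_two]
    · linear_combination (ζ ^ 15 + ζ ^ 10 + ζ ^ 5 + 1) * h5
    · linear_combination h + (ζ * (ζ ^ 10 + ζ ^ 5 + 1) + ζ ^ 3 * (ζ ^ 5 + 1) + (ζ ^ 5 + 1) + ζ ^ 2) * h5
    · linear_combination h5
  let Z : Subgroup (_root_.Matrix.SpecialLinearGroup (Fin 2) k) :=
    { carrier := {s | s = 1 ∨ s = -1}
      mul_mem' := by rintro a b (rfl | rfl) (rfl | rfl) <;> simp
      one_mem' := Or.inl rfl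
      inv_mem' := by rintro a (rfl | rfl) <;> simp }
  have hZ : ∀ s, s ∈ Z ↔ s = 1 ∨ s = -1 := fun _ => Iff.rfl
  have : Z.Normal := ⟨by rintro a (rfl | rfl) g <;> simp [hZ]⟩
  have hm : ∀ s : _root_.Matrix.SpecialLinearGroup (Fin 2) k, (QuotientGroup.mk' Z) s = 1 ↔ s = 1 ∨ s = -1 := fun s =>
    QuotientGroup.eq_one_iff s
  obtain ⟨φ, φ1, φ2⟩ := exists_hom_alternatingFive (a := QuotientGroup.mk' Z X) (b := QuotientGroup.mk' Z Y)
    (by rw [← map_pow, hX, hm]; exact Or.inr rfl) (by rw [← map_pow, hY, hm]; exact Or.inr rfl)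
    (by rw [← map_mul, ← map_pow, hXY, hm]; exact Or.inr rfl)
  have hφ : Function.Injective φ := by
    rw [← MonoidHom.ker_eq_bot_iff]
    refine φ.normal_ker.eq_bot_or_eq_top.resolve_right fun h1 => ?_
    have h3 : φ a5 = 1 := by rw [← MonoidHom.mem_ker, h1]; trivial
    rw [φ1, hm] at h3
    rcases h3 with h3 | h3 <;> simpa [X] using congrArg (fun s : _root_.Matrix.SpecialLinearGroup (Fin 2) k => s.1 0 1) h3
  let G : Subgroup (A5 × _root_.Matrix.SpecialLinearGroup (Fin 2) k) :=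
    (φ.comp (MonoidHom.fst _ _)).eqLocus ((QuotientGroup.mk' Z).comp (MonoidHom.snd _ _))
  have hG : ∀ g, g ∈ G ↔ φ g.1 = QuotientGroup.mk' Z g.2 := fun _ => Iff.rfl
  let π : G →* A5 := (MonoidHom.fst _ _).comp G.subtype
  let ρ : G →* _root_.Matrix.SpecialLinearGroup (Fin 2) k := (MonoidHom.snd _ _).comp G.subtype
  let z : G := ⟨(1, -1), by rw [hG, map_one, eq_comm, hm]; exact Or.inr rfl⟩
  let x : G := ⟨(a5, X), φ1⟩
  let y : G := ⟨(b5, Y), φ2⟩
  have hker : ∀ γ, π γ = 1 ↔ γ = 1 ∨ γ = z := by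
    rintro ⟨⟨a, s⟩, hg⟩
    constructor
    · intro h1
      have h3 : a = 1 := h1
      subst h3
      rw [hG, map_one, eq_comm, hm] at hg
      rcases hg with rfl | rfl
      · exact Or.inl rfl
      · exact Or.inr rfl
    · rintro (h1 | h1) <;> rw [h1]
      · exact map_one _
      · rfl
  have hsurj : Function.Surjective π := fun a => by
    obtain ⟨s, hs⟩ := QuotientGroup.mk'_surjective Z (φ a)
    exact ⟨⟨(a, s), hs.symm⟩, rfl⟩
  have hinj : Function.Injective ρ := by
    rintro ⟨⟨a, s⟩, hg⟩ ⟨⟨b, t⟩, hg'⟩ h1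
    have h3 : s = t := h1
    subst h3
    have h4 : a = b := hφ (((hG _).1 hg).trans ((hG _).1 hg').symm)
    subst h4
    rfl
  have hfin : Finite G := by
    have h1 : Finite π.ker := by
      refine Set.Finite.to_subtype (((Set.finite_singleton z).insert 1).subset fun γ hγ => (hker γ).1 hγ)
    exact (MonoidHom.finite_iff_finite_ker_range π).2 ⟨h1, inferInstance⟩
  have hx : x ^ 2 = z := Subtype.ext (Prod.ext a5_sq hX)
  have hy : y ^ 3 = z := Subtype.ext (Prod.ext b5_pow hY)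
  have hxy : (x * y) ^ 5 = z := Subtype.ext (Prod.ext ab5_pow hXY)
  have hz : z ^ 2 = 1 := Subtype.ext (Prod.ext (one_pow 2) (by simp only [z, _root_.SubmonoidClass.mk_pow, _root_.Prod.pow_mk, _root_.one_pow, _root_.even_two, _root_.Even.neg_pow, _root_.OneMemClass.coe_one, _root_.Prod.snd_one]))
  have hperf : ∀ χ : G →* kˣ, χ = 1 := by
    intro χ
    have e1 := congrArg χ hx
    have e2 := congrArg χ hy
    have e3 := congrArg χ hxy
    have e4 := congrArg χ hz
    simp only [map_pow, map_mul, map_one] at e1 e2 e3 e4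
    generalize hA : χ x = A at *
    generalize hB : χ y = B at *
    generalize hC : χ z = C at *
    have f1 : (A * B) ^ 12 = 1 := by
      rw [mul_pow, show A ^ 12 = ((A ^ 2) ^ 2) ^ 3 by group, show B ^ 12 = ((B ^ 3) ^ 2) ^ 2 by group, e1, e2, e4]
      simp
    have f2 : (A * B) ^ 10 = 1 := by rw [show (A * B) ^ 10 = ((A * B) ^ 5) ^ 2 by group, e3, e4]
    have f3 : (A * B) ^ 2 = 1 := by
      rw [show (A * B) ^ 12 = (A * B) ^ 10 * (A * B) ^ 2 by group, f2, one_mul] at f1
      exact f1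
    have f4 : B = 1 := by
      rw [mul_pow, e1, ← e2] at f3
      have f5 : B ^ 6 = 1 := by rw [show B ^ 6 = (B ^ 3) ^ 2 by group, e2, e4]
      rw [show B ^ 6 = B ^ 3 * B ^ 2 * B by group, f3, one_mul] at f5
      exact f5
    have f5 : C = 1 := by rw [← e2, f4, one_pow]
    have f6 : A = 1 := by
      rw [f4, mul_one, f5, show A ^ 5 = (A ^ 2) ^ 2 * A by group, e1, e4, one_mul] at e3
      exact e3
    have f7 : χ.ker.map π = ⊤ := by
      rw [eq_top_iff, ← closure_a5_b5, Subgroup.closure_le]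
      rintro a (rfl | rfl)
      · exact ⟨x, hA.trans f6, rfl⟩
      · exact ⟨y, hB.trans f4, rfl⟩
    refine MonoidHom.ext fun γ => ?_
    obtain ⟨δ, hδ, e⟩ : π γ ∈ χ.ker.map π := by rw [f7]; trivial
    have f8 : π (δ⁻¹ * γ) = 1 := by rw [map_mul, map_inv, e, inv_mul_cancel]
    have f9 : χ (δ⁻¹ * γ) = 1 := by
      rcases (hker _).1 f8 with h1 | h1 <;> rw [h1]
      · exact map_one _
      · exact hC.trans f5
    rwa [map_mul, map_inv, (MonoidHom.mem_ker.1 hδ), inv_one, one_mul] at f9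
  have : Small.{0} G := inferInstance
  let e : Shrink.{0} G ≃* G := Shrink.mulEquiv
  have : Finite (Shrink.{0} G) := Finite.of_equiv _ e.symm.toEquiv
  refine ⟨Shrink.{0} G, inferInstance, Fintype.ofFinite _, π.comp e.toMonoidHom, ρ.comp e.toMonoidHom, e.symm z,
    hinj.comp e.injective, hsurj.comp e.surjective, ?_, fun γ => ?_, fun χ => ?_⟩
  · show (ρ (e (e.symm z))).1 = -1
    rw [e.apply_symm_apply]; rfl
  · show π (e γ) = 1 ↔ _
    rw [hker, e.map_eq_one_iff, e.eq_symm_apply]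
  · have h1 := hperf (χ.comp e.symm.toMonoidHom)
    refine MonoidHom.ext fun γ => ?_
    simpa only [_root_.MonoidHom.one_apply, _root_.MulEquiv.toMonoidHom_eq_coe, _root_.MonoidHom.coe_comp, _root_.MonoidHom.coe_coe, _root_.Function.comp_apply, _root_.MulEquiv.symm_apply_apply] using DFunLike.congr_fun h1 (e γ)

end Cfsg.Agent.E8A.Reg5.IcoEx
end

-- part: E8A/Reg5/IcoFin
section
/-!
# The icosahedral group on the projective line: the orbits (helper8)
-/

set_option autoImplicit false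

namespace Cfsg.Agent.E8A.Reg5.IcoEx

open Matrix Cfsg.Agent.Lib.VonDyck

universe u

variable {k : Type u} [Field k] {Γ : Type} [Group Γ]

/-- the stabilizer of a line -/
def St (ρ : Γ →* _root_.Matrix.SpecialLinearGroup (Fin 2) k) (u : Fin 2 → k) : Subgroup Γ where
  carrier := {γ | ∃ c : kˣ, (ρ γ).1 *ᵥ u = (c : k) • u}
  mul_mem' := by
    rintro a b ⟨c, hc⟩ ⟨d, hd⟩
    exact ⟨c * d, by rw [map_mul, val_mul, ← mulVec_mulVec, hd, mulVec_smul, hc, smul_smul, Units.val_mul, mul_comm]⟩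
  one_mem' := ⟨1, by rw [map_one, val_one, one_mulVec, Units.val_one, one_smul]⟩
  inv_mem' := by
    rintro a ⟨c, hc⟩
    refine ⟨c⁻¹, ?_⟩
    have h : (ρ a⁻¹).1 *ᵥ ((ρ a).1 *ᵥ u) = u := by
      rw [mulVec_mulVec, ← val_mul, ← map_mul, inv_mul_cancel, map_one, val_one, one_mulVec]
    rw [hc, mulVec_smul] at h
    nth_rewrite 2 [← h]
    rw [smul_smul, Units.inv_mul, one_smul]

theorem mem_St {ρ : Γ →* _root_.Matrix.SpecialLinearGroup (Fin 2) k} {u : Fin 2 → k} {γ : Γ} :
    γ ∈ St ρ u ↔ ∃ c : kˣ, (ρ γ).1 *ᵥ u = (c : k) • u := Iff.rfl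

theorem mem_St_of {ρ : Γ →* _root_.Matrix.SpecialLinearGroup (Fin 2) k} {u : Fin 2 → k} (hu : u ≠ 0) {γ : Γ} {c : k}
    (h : (ρ γ).1 *ᵥ u = c • u) : γ ∈ St ρ u := by
  have h0 : c ≠ 0 := by
    rintro rfl
    exact mulVec_ne_zero (ρ γ) hu (by rw [h, zero_smul])
  exact ⟨Units.mk0 c h0, h⟩

theorem rho_inv (ρ : Γ →* _root_.Matrix.SpecialLinearGroup (Fin 2) k) (γ : Γ) (u : Fin 2 → k) :
    (ρ γ⁻¹).1 *ᵥ ((ρ γ).1 *ᵥ u) = u := by
  rw [mulVec_mulVec, ← val_mul, ← map_mul, inv_mul_cancel, map_one, val_one, one_mulVec]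

theorem rho_mul (ρ : Γ →* _root_.Matrix.SpecialLinearGroup (Fin 2) k) (γ δ : Γ) (u : Fin 2 → k) :
    (ρ (γ * δ)).1 *ᵥ u = (ρ γ).1 *ᵥ ((ρ δ).1 *ᵥ u) := by
  rw [mulVec_mulVec, ← val_mul, ← map_mul]

theorem St_smul (ρ : Γ →* _root_.Matrix.SpecialLinearGroup (Fin 2) k) (u : Fin 2 → k) {a : k} (ha : a ≠ 0) :
    St ρ (a • u) = St ρ u := by
  ext γ
  simp only [mem_St, mulVec_smul]
  refine exists_congr fun c => ?_
  rw [smul_comm]
  exact (smul_right_injective _ ha).eq_iff

theorem St_conj (ρ : Γ →* _root_.Matrix.SpecialLinearGroup (Fin 2) k) (u : Fin 2 → k) (δ : Γ) :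
    St ρ u = (St ρ ((ρ δ).1 *ᵥ u)).comap (MulAut.conj δ).toMonoidHom := by
  ext γ
  rw [Subgroup.mem_comap, mem_St, mem_St]
  refine exists_congr fun c => ?_
  show _ ↔ (ρ (δ * γ * δ⁻¹)).1 *ᵥ _ = _
  rw [rho_mul, rho_inv, rho_mul, ← mulVec_smul]
  constructor
  · intro h; rw [h]
  · intro h
    rw [← rho_inv ρ δ ((ρ γ).1 *ᵥ u), h, rho_inv]

theorem index_St_conj (ρ : Γ →* _root_.Matrix.SpecialLinearGroup (Fin 2) k) (u : Fin 2 → k) (δ : Γ) :
    (St ρ ((ρ δ).1 *ᵥ u)).index = (St ρ u).index := by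
  rw [St_conj ρ u δ, Subgroup.index_comap_of_surjective _ (MulAut.conj δ).surjective]

theorem a5_cases : ∀ a : A5, a ^ 2 = 1 ∨ a ^ 3 = 1 ∨ a ^ 5 = 1 := by (set_option synthInstance.maxSize 9000 in open scoped Cfsg.Agent.Lib.FastPerm in decide +kernel)

theorem mm_prime (i : Fin 3) : (mm i).Prime := by
  fin_cases i
  · exact Nat.prime_two
  · exact Nat.prime_three
  · exact Nat.prime_five

theorem mo_inj : Function.Injective mo := by decide

namespace Bin

variable {π : Γ →* A5} {ρ : Γ →* _root_.Matrix.SpecialLinearGroup (Fin 2) k} {z : Γ}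

theorem z_ne (B : Bin k Γ π ρ z) (h2 : (2 : k) ≠ 0) : z ≠ 1 := by
  rintro rfl
  have h := B.ρ_z
  rw [map_one, val_one] at h
  have h1 := congrFun (congrFun h 0) 0
  rw [Matrix.neg_apply, one_apply_eq] at h1
  exact h2 (by linear_combination h1)

theorem π_z (B : Bin k Γ π ρ z) : π z = 1 := (B.ker z).2 (Or.inr rfl)

theorem card (B : Bin k Γ π ρ z) (h2 : (2 : k) ≠ 0) : Nat.card Γ = 120 := by
  have h1 : Nat.card π.ker = 2 := by
    have h : (π.ker : Set Γ) = {1, z} := Set.ext fun γ => B.ker γ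
    show Nat.card (π.ker : Set Γ) = 2
    rw [h, Nat.card_coe_set_eq, Set.ncard_pair (B.z_ne h2).symm]
  rw [← π.ker.index_mul_card, h1, Subgroup.index_ker, MonoidHom.range_eq_top.2 B.surj, Subgroup.card_top,
    card_alternating5]

theorem eq_one (B : Bin k Γ π ρ z) (h2 : (2 : k) ≠ 0) (h : ((120 : ℕ) : k) ≠ 0) {u : Fin 2 → k} (hu : u ≠ 0) {γ : Γ}
    (hγ : (ρ γ).1 *ᵥ u = u) : γ = 1 := by
  apply B.inj
  rw [map_one]
  refine eq_one_of_fix _ hu hγ h ?_
  rw [← map_pow, ← B.card h2, pow_card_eq_one', map_one]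

theorem rho_z (B : Bin k Γ π ρ z) (u : Fin 2 → k) : (ρ z).1 *ᵥ u = (-1 : k) • u := by
  rw [B.ρ_z, neg_mulVec, one_mulVec, neg_one_smul]

theorem sq_iff (B : Bin k Γ π ρ z) (h2 : (2 : k) ≠ 0) (h : ((120 : ℕ) : k) ≠ 0) {u : Fin 2 → k} (hu : u ≠ 0) {γ : Γ}
    {c : k} (hγ : (ρ γ).1 *ᵥ u = c • u) : c ^ 2 = 1 ↔ π γ = 1 := by
  constructor
  · intro hc
    rcases sq_eq_one_iff.1 hc with rfl | rfl
    · rw [B.eq_one h2 h hu (hγ.trans (one_smul _ _)), map_one]
    · have h1 : z * γ = 1 := B.eq_one h2 h hu (by rw [rho_mul, hγ, B.rho_z, smul_smul]; simp)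
      have h3 := congrArg π h1
      rwa [map_mul, B.π_z, one_mul, map_one] at h3
  · intro h1
    rcases (B.ker γ).1 h1 with rfl | rfl
    · rw [map_one, val_one, one_mulVec] at hγ
      have h3 : (1 : k) = c := smul_left_injective k hu (by simpa using hγ)
      rw [← h3, one_pow]
    · rw [B.rho_z] at hγ
      have h3 : (-1 : k) = c := smul_left_injective k hu hγ
      rw [← h3, neg_one_sq]

theorem ker_le (B : Bin k Γ π ρ z) (u : Fin 2 → k) : π.ker ≤ St ρ u := by
  intro γ hγ
  rcases (B.ker γ).1 hγ with rfl | rfl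
  · exact one_mem _
  · exact ⟨-1, by rw [B.rho_z]; simp⟩

theorem cyclic (B : Bin k Γ π ρ z) (h2 : (2 : k) ≠ 0) (h : ((120 : ℕ) : k) ≠ 0) {u : Fin 2 → k} (hu : u ≠ 0) :
    IsCyclic (St ρ u) := by
  have : Finite Γ := Nat.finite_of_card_ne_zero (by rw [B.card h2]; norm_num)
  choose c hc using fun γ : St ρ u => mem_St.1 γ.2
  let ev : St ρ u →* k :=
    { toFun := fun γ => c γ
      map_one' := smul_left_injective k hu (by
        show _ • u = _ • u
        rw [← hc, Subgroup.coe_one, map_one, val_one, one_mulVec, one_smul])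
      map_mul' := fun a b => smul_left_injective k hu (by
        show _ • u = _ • u
        rw [← hc, Subgroup.coe_mul, rho_mul, hc, mulVec_smul, hc, smul_smul, mul_comm]) }
  refine isCyclic_of_injective_ringHom ev ((injective_iff_map_eq_one _).2 fun γ hγ => Subtype.ext ?_)
  have h1 : (c γ : k) = 1 := hγ
  exact B.eq_one h2 h hu (by rw [hc, h1, one_smul])

theorem index_eq (B : Bin k Γ π ρ z) (u : Fin 2 → k) : (St ρ u).index * Nat.card ((St ρ u).map π) = 60 := by
  rw [← card_alternating5, ← ((St ρ u).map π).index_mul_card, Subgroup.index_map, sup_eq_left.2 (B.ker_le u),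
    MonoidHom.range_eq_top.2 B.surj, Subgroup.index_top, mul_one]

theorem index_some (B : Bin k Γ π ρ z) (h2 : (2 : k) ≠ 0) (h : ((120 : ℕ) : k) ≠ 0) {u : Fin 2 → k} (hu : u ≠ 0)
    {g : Γ} (hg : g ∈ St ρ u) {m : ℕ} (hm : m.Prime) (ho : orderOf (π g) = m) : (St ρ u).index * m = 60 := by
  obtain ⟨g0, hg0⟩ := (B.cyclic h2 h hu).exists_generator
  have h1 : St ρ u = Subgroup.zpowers (g0 : Γ) := by
    refine le_antisymm (fun γ hγ => ?_) ((Subgroup.zpowers_le).2 g0.2)
    obtain ⟨n, hn⟩ := hg0 ⟨γ, hγ⟩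
    exact ⟨n, congrArg Subtype.val hn⟩
  have h3 : (St ρ u).map π = Subgroup.zpowers (π g0) := by
    conv_lhs => rw [h1]
    exact MonoidHom.map_zpowers _ _
  have h4 : m ∣ orderOf (π g0) := by
    rw [← ho]
    exact orderOf_dvd_of_mem_zpowers (h3 ▸ Subgroup.mem_map_of_mem π hg)
  have h5 : ∀ q : ℕ, q.Prime → π g0 ^ q = 1 → orderOf (π g0) = m := fun q hq e => by
    have h6 := orderOf_dvd_of_pow_eq_one e
    have h7 : m = q := (Nat.prime_dvd_prime_iff_eq hm hq).1 (h4.trans h6)
    exact Nat.dvd_antisymm (h7 ▸ h6) h4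
  have h6 : orderOf (π g0) = m := by
    rcases a5_cases (π g0) with e | e | e
    · exact h5 _ Nat.prime_two e
    · exact h5 _ Nat.prime_three e
    · exact h5 _ Nat.prime_five e
  rw [← B.index_eq u, h3, Nat.card_zpowers, h6]

theorem exists_free [Infinite k] (B : Bin k Γ π ρ z) (h2 : (2 : k) ≠ 0) (h : ((120 : ℕ) : k) ≠ 0) :
    ∃ u : Fin 2 → k, u ≠ 0 ∧ St ρ u = π.ker := by
  have : Finite Γ := Nat.finite_of_card_ne_zero (by rw [B.card h2]; norm_num)
  have hne : ∀ t : k, (![1, t] : Fin 2 → k) ≠ 0 := fun t e => by simpa using congrFun e 0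
  have h1 : ∀ γ : {γ : Γ // π γ ≠ 1}, Set.Finite {t : k | γ.1 ∈ St ρ ![1, t]} := by
    rintro ⟨γ, hγ⟩
    let M := (ρ γ).1
    let f : Polynomial k := Polynomial.C (M 1 0) + Polynomial.C (M 1 1 - M 0 0) * Polynomial.X -
      Polynomial.C (M 0 1) * Polynomial.X ^ 2
    have hf : ∀ t, f.eval t = dt ![1, t] (M *ᵥ ![1, t]) := fun t => by
      simp only [f, dt, mulVec, dotProduct, Fin.sum_univ_two, _root_.Fin.isValue, _root_.map_sub, _root_.Polynomial.eval_sub, _root_.Polynomial.eval_add, _root_.Polynomial.eval_C, _root_.Polynomial.eval_mul, _root_.Polynomial.eval_X, _root_.Polynomial.eval_pow, _root_.Matrix.cons_val_zero, _root_.mul_one, _root_.Matrix.cons_val_one, _root_.Matrix.cons_val_fin_one, _root_.one_mul]; ring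
    have h0 : f ≠ 0 := by
      intro e
      have e0 := hf 0
      have e1 := hf 1
      have e2 := hf (-1)
      rw [e] at e0 e1 e2
      simp only [dt, mulVec, dotProduct, Fin.sum_univ_two, _root_.Polynomial.eval_zero, _root_.Fin.isValue, _root_.Matrix.cons_val_zero, _root_.mul_one, _root_.Matrix.cons_val_one, _root_.Matrix.cons_val_fin_one, _root_.MulZeroClass.mul_zero, _root_.add_zero, _root_.one_mul, _root_.MulZeroClass.zero_mul, _root_.sub_zero, _root_.mul_neg, _root_.neg_mul, _root_.neg_add_rev, _root_.neg_neg] at e0 e1 e2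
      have e3 : M 0 1 = 0 := (mul_eq_zero.1 (show 2 * M 0 1 = 0 by linear_combination e1 + e2 - 2 * e0)).resolve_left h2
      have e4 : M 1 1 = M 0 0 := by linear_combination e0 - e1 + e3
      have e5 : M.det = 1 := (ρ γ).2
      rw [det_fin_two, e3, e4] at e5
      refine hγ ((B.sq_iff h2 h (hne 0) (c := M 0 0) ?_).1 (by linear_combination e5))
      ext i
      (revert i; simp only [M, mulVec, dotProduct, Fin.sum_univ_two, _root_.Fin.forall_fin_succ, Fin.isValue, _root_.Matrix.cons_val_zero, _root_.mul_one, _root_.Matrix.cons_val_one, _root_.Matrix.cons_val_fin_one, _root_.MulZeroClass.mul_zero, _root_.add_zero, _root_.Pi.smul_apply, _root_.smul_eq_mul, _root_.Matrix.cons_val_succ, _root_.Fin.succ_zero_eq_one, _root_.IsEmpty.forall_iff, _root_.and_true, _root_.true_and]) <;> (repeat' with_reducible apply And.intro)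
      exact e0.symm
    refine (Polynomial.finite_setOfPred_isRoot h0).subset fun t ht => ?_
    obtain ⟨c, hc⟩ := mem_St.1 ht
    show f.eval t = 0
    rw [hf, hc, dt_smul_right, dt_self, mul_zero]
  obtain ⟨t, ht⟩ := (Set.finite_iUnion h1).infinite_compl.nonempty
  refine ⟨![1, t], hne t, le_antisymm (fun γ hγ => ?_) (B.ker_le _)⟩
  by_contra h3
  exact ht (Set.mem_iUnion.2 ⟨⟨γ, h3⟩, hγ⟩)

end Bin

theorem ico : ICO.{u} := by
  intro k _ _ p _ hp
  have hp' : p.Prime := (CharP.char_is_prime_or_zero k p).resolve_right (by omega)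
  have hn : ∀ n : ℕ, n ∣ 120 → (n : k) ≠ 0 := fun n hn e => by
    have h1 : p ∣ 2 * 2 * 2 * 3 * 5 := ((CharP.cast_eq_zero_iff k p n).1 e).trans hn
    simp only [hp'.dvd_mul] at h1
    rcases h1 with (((h1 | h1) | h1) | h1) | h1 <;> have := Nat.le_of_dvd (by norm_num) h1 <;> omega
  have h2 : (2 : k) ≠ 0 := by simpa only [_root_.ne_eq, _root_.Nat.cast_ofNat] using hn 2 (by norm_num)
  have h : ((120 : ℕ) : k) ≠ 0 := hn 120 dvd_rfl
  obtain ⟨Γ, _, _, π, ρ, z, B⟩ := exists_bin (k := k)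
  let a : Fin 3 → A5 := ![a5, b5, a5 * b5]
  have ha : ∀ i, orderOf (a i) = mm i := fun i => by
    have : Fact (mm i).Prime := ⟨mm_prime i⟩
    refine orderOf_eq_prime ?_ ?_ <;> revert i <;> decide +kernel
  choose g hg using fun i => B.surj (a i)
  choose u0 hu0 c0 hc0 using fun i => exists_eigen (ρ (g i)).1
  obtain ⟨u1, hu1, hs1⟩ := B.exists_free h2 h
  let u : Option (Fin 3) → Fin 2 → k := fun c => c.elim u1 u0
  have hu : ∀ c, u c ≠ 0 := by rintro (_ | i); exacts [hu1, hu0 i]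
  have hidx : ∀ c, (St ρ (u c)).index * mo c = 60 := by
    rintro (_ | i)
    · show (St ρ u1).index * 1 = 60
      rw [hs1, Subgroup.index_ker, MonoidHom.range_eq_top.2 B.surj, Subgroup.card_top, card_alternating5]
    · exact B.index_some h2 h (hu0 i) (mem_St_of (hu0 i) (hc0 i)) (mm_prime i) (by rw [hg, ha]; rfl)
  let P : Type := Σ c : Option (Fin 3), Γ ⧸ St ρ (u c)
  have : Finite P := inferInstance
  let v : P → Fin 2 → k := fun x => (ρ x.2.out).1 *ᵥ u x.1
  have hv : ∀ x, v x ≠ 0 := fun x => mulVec_ne_zero _ (hu _)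
  let mv : Γ → P → P := fun γ x => ⟨x.1, γ • x.2⟩
  have hsc : ∀ γ x, ∃ c : kˣ, (ρ γ).1 *ᵥ v x = (c : k) • v (mv γ x) := by
    rintro γ ⟨c, q⟩
    have h1 : ((γ • q).out)⁻¹ * (γ * q.out) ∈ St ρ (u c) := by
      rw [← QuotientGroup.eq, QuotientGroup.out_eq', ← smul_eq_mul, ← MulAction.Quotient.smul_mk,
        QuotientGroup.out_eq']
    obtain ⟨d, hd⟩ := h1
    refine ⟨d, ?_⟩
    show (ρ γ).1 *ᵥ ((ρ q.out).1 *ᵥ u c) = (d : k) • ((ρ (γ • q).out).1 *ᵥ u c)
    rw [← mulVec_smul, ← hd, ← rho_mul, ← rho_mul, mul_inv_cancel_left]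
  choose sc hsc using hsc
  let b : Option (Fin 3) → P := fun c => ⟨c, ((1 : Γ) : Γ ⧸ St ρ (u c))⟩
  have hb : ∀ c γ, mv γ (b c) = b c ↔ γ ∈ St ρ (u c) := fun c γ => by
    show (⟨c, γ • ((1 : Γ) : Γ ⧸ St ρ (u c))⟩ : P) = ⟨c, _⟩ ↔ _
    rw [Sigma.mk.inj_iff, heq_eq_eq, MulAction.Quotient.smul_mk, eq_comm (b := ((1 : Γ) : Γ ⧸ St ρ (u c))),
      QuotientGroup.eq]
    simp
  have hgv : ∀ i, (ρ (g i)).1 *ᵥ v (b (some i)) = (sc (g i) (b (some i)) : k) • v (b (some i)) := fun i => by
    rw [hsc, (hb (some i) (g i)).2 (mem_St_of (hu0 i) (hc0 i) :)]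
  have hpow : ∀ i n, (ρ (g i ^ n)).1 *ᵥ v (b (some i)) = (sc (g i) (b (some i)) : k) ^ n • v (b (some i)) := by
    intro i n
    induction n with
    | zero => rw [pow_zero, pow_zero, map_one, val_one, one_mulVec, one_smul]
    | succ n ih => rw [pow_succ, pow_succ, rho_mul, hgv, mulVec_smul, ih, smul_smul, mul_comm]
  have hprim : ∀ i, IsPrimitiveRoot ((sc (g i) (b (some i)) : k) ^ 2) (mm i) := fun i => by
    have h1 : ∀ n, ((sc (g i) (b (some i)) : k) ^ 2) ^ n = 1 ↔ mm i ∣ n := fun n => by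
      rw [← pow_mul, mul_comm, pow_mul, B.sq_iff h2 h (hv _) (hpow i n), map_pow, hg, ← ha,
        orderOf_dvd_iff_pow_eq_one]
    exact ⟨(h1 _).2 dvd_rfl, fun n hn => (h1 n).1 hn⟩
  choose w hw1 hw2 using fun i => exists_second (ρ (g i)) (hv _) (hgv i) ((hprim i).ne_one (mm_prime i).one_lt)
  let _ : Fintype P := Fintype.ofFinite P
  refine ⟨Γ, P, inferInstance, inferInstance, inferInstance, π, ⟨{
    ρ := ρ
    surj := B.surj
    card := by rw [← Nat.card_eq_fintype_card, B.card h2]; exact h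
    perf := B.perf
    cl := fun x => x.1
    v := v
    indep := ?_
    cnt := fun c => ?_
    mv := mv
    sc := fun γ x => sc γ x
    sc_ne := fun γ x => (sc γ x).ne_zero
    mv_cl := fun _ _ => rfl
    mv_inj := ?_
    mv_v := hsc
    b := b
    b_cl := fun _ => rfl
    trans := ?_
    g := g
    η := fun i => sc (g i) (b (some i))
    w := w
    g_v := hgv
    g_w := hw1
    dt_vw := hw2
    prim := hprim
    ord := fun i => by rw [hg, ha]
    z := z
    z_ne := B.z_ne h2
    ρ_z := B.ρ_z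
    π_z := B.π_z
    free := fun γ hγ => (B.ker γ).1 (by
      have h1 : γ ∈ St ρ u1 := (hb none γ).1 hγ
      rwa [hs1] at h1) }⟩⟩
  · rintro ⟨c, q⟩ ⟨c', q'⟩ hne e
    obtain ⟨d, hd⟩ := (dt_eq_zero_iff (hv _) _).1 e
    have hd0 : d ≠ 0 := by
      rintro rfl
      exact hv _ (hd.trans (zero_smul _ _))
    have h1 : (ρ (q.out⁻¹ * q'.out)).1 *ᵥ u c' = d • u c := by
      rw [rho_mul]
      show (ρ q.out⁻¹).1 *ᵥ v ⟨c', q'⟩ = _
      rw [hd, mulVec_smul]
      show d • ((ρ q.out⁻¹).1 *ᵥ ((ρ q.out).1 *ᵥ u c)) = _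
      rw [rho_inv]
    have h3 : (St ρ (u c)).index = (St ρ (u c')).index := by
      rw [← index_St_conj ρ (u c') (q.out⁻¹ * q'.out), h1, St_smul ρ _ hd0]
    have h4 : c = c' := by
      have e1 := hidx c
      have e2 := hidx c'
      rw [← h3, ← e1] at e2
      refine mo_inj (Nat.eq_of_mul_eq_mul_left (Nat.pos_of_ne_zero fun e0 => ?_) e2).symm
      rw [e0] at e1
      omega
    subst h4
    apply hne
    have h5 : q = q' := by
      rw [← QuotientGroup.out_eq' q, ← QuotientGroup.out_eq' q', QuotientGroup.eq]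
      exact mem_St_of (hu c) h1
    rw [h5]
  · rw [← Fintype.card_subtype, ← Nat.card_eq_fintype_card, Nat.card_congr (Equiv.sigmaSubtype c)]
    exact hidx c
  · rintro γ ⟨c, q⟩ ⟨c', q'⟩ e
    obtain ⟨rfl, e1⟩ := Sigma.mk.inj_iff.1 e
    exact congrArg (Sigma.mk c) (MulAction.injective γ (eq_of_heq e1))
  · rintro ⟨c, q⟩
    refine ⟨q.out, ?_⟩
    show (⟨c, q.out • ((1 : Γ) : Γ ⧸ St ρ (u c))⟩ : P) = ⟨c, q⟩
    rw [MulAction.Quotient.smul_mk, smul_eq_mul, mul_one, QuotientGroup.out_eq']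

end Cfsg.Agent.E8A.Reg5.IcoEx
end

-- part: E8A/Reg5/N3
section
/-!
# The box N3: the algebra of type `E₈` has no grading with three terms (helper44)
-/

set_option autoImplicit false
set_option linter.unusedSectionVars false
set_option maxRecDepth 100000

namespace Cfsg.Agent.E8A.Reg5.Aut

open Cfsg Cfsg.Lie CoxeterSystem Matrix
open Cfsg.Agent.ChevalleyStructure Cfsg.Agent.ChevalleyStructure.JacMain
open Cfsg.Agent.ChevalleyStructure.CoxeterGeom Cfsg.Agent.ChevalleyStructure.CoxeterGeomTypes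
open Cfsg.Agent.Tits.Roots Cfsg.Agent.Nodes.Reps Cfsg.Agent.Nodes.BNOf Cfsg.Agent.Nodes.RGDChev
open Cfsg.Agent.H942.E8Tab (e8T)
open Cfsg.Agent.E8A.Frm (B0 fm8 finW8 hom_ext)
open Cfsg.Agent.H288.E8L (wt wt_inl wt_inr rt_vec vec_ne_zero exists_idx wt_inj)

universe u

/-- induction over the roots, second form -/
theorem root_ind2 {P : Q8 → Prop} (h0 : ∀ i, P (sr i)) (hn : ∀ a, Rt a → P a → P (-a))
    (hadd : ∀ i a, Rt a → Rt (a + sr i) → P a → P (a + sr i))
    (hsub : ∀ i a, Rt a → Rt (a - sr i) → P a → P (a - sr i)) {a : Q8} (ha : Rt a) : P a := by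
  refine root_ind h0 (fun i a ha ih => ?_) ha
  have h7 := ha.act (cs8.simple i)
  rw [rep_simple_eq] at h7 ⊢
  rcases pairing_cases ha i with e | e | e | e | e
  · have e2 : pairing (cartanOf chevE8 8) i a = 2 := by rw [← B0_sr, ← e, fm8.self ha]
    have e3 : a - (2 : ℤ) • sr i = -a := by rw [← e, two_smul]; abel
    rw [e2, e3]
    exact hn a ha ih
  · have e1 : sr i = -a := by rw [e, neg_neg]
    have e2 : pairing (cartanOf chevE8 8) i a = -2 := by
      rw [← B0_sr, e1, map_neg, LinearMap.neg_apply, fm8.self ha]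
    have e3 : a - (-2 : ℤ) • sr i = -a := by rw [e1, neg_smul, two_smul]; abel
    rw [e2, e3]
    exact hn a ha ih
  · rw [e, zero_smul, sub_zero]
    exact ih
  · rw [e, one_smul] at h7 ⊢
    exact hsub i a ha h7 ih
  · rw [e, neg_smul, one_smul, sub_neg_eq_add] at h7 ⊢
    exact hadd i a ha h7 ih

/-- half the sum of the positive roots -/
def rho8 : Q8 := ![46, 68, 91, 135, 110, 84, 57, 29]

theorem pairing_rho8 : ∀ i, pairing (cartanOf chevE8 8) i rho8 = 1 := by decide +kernel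

theorem high8 : ∀ i, 2 ≤ _root_.Cfsg.Agent.Nodes.RGDChev.vec chevE8 8 239 i := by decide +kernel

/-- there is no minuscule weight -/
theorem no_minuscule (f : Q8 →+ ℤ) (h : ∀ a, Rt a → f a ≤ 1) (x : Q8) : f x = 0 := by
  have := finW8
  obtain ⟨w, hw⟩ := Finite.exists_max fun w : W8 => f (rp8 w rho8)
  have h1 : ∀ i, 0 ≤ f (rp8 w (sr i)) := by
    intro i
    have h2 : f (rp8 (w * cs8.simple i) rho8) ≤ f (rp8 w rho8) := hw (w * cs8.simple i)
    have h3 : rp8 (w * cs8.simple i) rho8 = rp8 w rho8 - rp8 w (sr i) := by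
      have h4 : rp8 (cs8.simple i) rho8 = rho8 - sr i := by rw [rep_simple_eq, pairing_rho8, one_smul]
      rw [← map_sub, ← h4]
      exact act8_mul w (cs8.simple i) rho8
    rw [h3, map_sub] at h2
    omega
  have h2 := h _ ((rt_vec ⟨239, by decide⟩).act w)
  have h3 : ∀ y : Q8, f (rp8 w y) = ∑ i, y i * f (rp8 w (sr i)) := by
    intro y
    conv_lhs => rw [H129.TorusChar.IsMC.eq_sum_sr y]
    rw [map_sum, map_sum]
    exact Finset.sum_congr rfl fun i _ => by rw [map_smul, map_zsmul, smul_eq_mul]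
  have h4 : ∀ i, f (rp8 w (sr i)) = 0 := by
    intro i
    have h5 : _root_.Cfsg.Agent.Nodes.RGDChev.vec chevE8 8 239 i * f (rp8 w (sr i)) ≤ ∑ i, _root_.Cfsg.Agent.Nodes.RGDChev.vec chevE8 8 239 i * f (rp8 w (sr i)) :=
      Finset.single_le_sum (f := fun i => _root_.Cfsg.Agent.Nodes.RGDChev.vec chevE8 8 239 i * f (rp8 w (sr i)))
        (fun j _ => mul_nonneg (by have := high8 j; omega) (h1 j)) (Finset.mem_univ i)
    rw [← h3] at h5
    have h6 := h5.trans h2
    have h7 := high8 i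
    have h8 := h1 i
    by_contra hc
    linarith only [h2, h5, mul_le_mul h7 (show (1 : ℤ) ≤ f (rp8 w (sr i)) by omega) (by norm_num) (by omega)]
  rw [← rep_apply_inv cs8 e8T.isCartan w x, h3]
  exact Finset.sum_eq_zero fun i _ => by rw [h4, mul_zero]

theorem add_eq_zero_of_cube {K : Type u} [Field K] (p : ℕ) [CharP K p] (hp : 7 ≤ p) (d : Q8 →+ K)
    (h : ∀ a, Rt a → d a * d a * d a = d a) (x : Q8) : d x = 0 := by
  have h1 : ∀ i, ∃ z : ℤ, |z| ≤ 1 ∧ (z : K) = d (sr i) := by
    intro i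
    have h2 : d (sr i) * ((d (sr i) - 1) * (d (sr i) + 1)) = 0 := by
      linear_combination h _ (rt_sr i)
    rcases mul_eq_zero.1 h2 with h3 | h3
    · exact ⟨0, by norm_num, by rw [h3, Int.cast_zero]⟩
    · rcases mul_eq_zero.1 h3 with h4 | h4
      · exact ⟨1, by norm_num, by rw [sub_eq_zero.1 h4, Int.cast_one]⟩
      · exact ⟨-1, by norm_num, by rw [eq_neg_of_add_eq_zero_left h4, Int.cast_neg, Int.cast_one]⟩
  choose z hz1 hz using h1
  let f : Q8 →+ ℤ := AddMonoidHom.mk' (fun x : Q8 => ∑ i, x i * z i) fun y z => by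
    rw [← Finset.sum_add_distrib]
    exact Finset.sum_congr rfl fun i _ => by rw [Pi.add_apply, add_mul]
  have hf : ∀ j, f (sr j) = z j := by
    intro j
    show ∑ i, (sr j : Q8) i * z i = _
    rw [Finset.sum_eq_single j]
    · rw [sr_self, one_mul]
    · intro i _ hi
      rw [sr_ne hi, zero_mul]
    · intro hj
      exact absurd (Finset.mem_univ j) hj
  have h2 : ∀ a, ((f a : ℤ) : K) = d a := fun a =>
    DFunLike.congr_fun (additive_ext (f := (Int.castAddHom K).comp f) (g := d) fun i => by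
      show ((f (sr i) : ℤ) : K) = _
      rw [hf, hz]) a
  have h6 : (6 : K) ≠ 0 := by
    intro h6
    have h7 := Nat.le_of_dvd (by norm_num) ((CharP.cast_eq_zero_iff K p 6).1 (by exact_mod_cast h6))
    omega
  have h3 : ∀ a, Rt a → |f a| ≤ 2 → |f a| ≤ 1 := by
    intro a ha h4
    have h5 := h a ha
    rw [← h2] at h5
    rw [abs_le] at h4 ⊢
    by_contra hc
    have h7 : f a = 2 ∨ f a = -2 := by omega
    rcases h7 with h7 | h7
    · rw [h7] at h5
      push_cast at h5
      exact h6 (by linear_combination h5)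
    · rw [h7] at h5
      push_cast at h5
      exact h6 (by linear_combination -h5)
  have h4 : ∀ a, Rt a → |f a| ≤ 1 := fun a ha => root_ind2 (P := fun a => |f a| ≤ 1)
    (fun i => by
      show |f (sr i)| ≤ 1
      rw [hf]
      exact hz1 i)
    (fun a _ ih => by
      show |f (-a)| ≤ 1
      rwa [map_neg, abs_neg])
    (fun i a _ ha ih => h3 _ ha (by
      have h5 := hz1 i
      rw [map_add, hf]
      rw [abs_le] at h5 ih ⊢
      omega))
    (fun i a _ ha ih => h3 _ ha (by
      have h5 := hz1 i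
      rw [map_sub, hf]
      rw [abs_le] at h5 ih ⊢
      omega)) ha
  rw [← h2, no_minuscule f (fun a ha => (abs_le.1 (h4 a ha)).2), Int.cast_zero]

theorem cube_diag {K : Type u} [Field K] {I : Type} [Fintype I] [DecidableEq I] {d : I → K} {N : Matrix I I K}
    (hN : IsNilpotent N) (hc : Commute (diagonal d) N)
    (h : (diagonal d + N) * (diagonal d + N) * (diagonal d + N) = diagonal d + N) (i : I) : d i * d i * d i = d i := by
  obtain ⟨D, hD⟩ : ∃ D, D = diagonal d := ⟨_, rfl⟩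
  rw [← hD] at h hc
  have e1 : N * D = D * N := hc.eq.symm
  have e2 : ∀ Z, N * (D * Z) = D * (N * Z) := fun Z => by rw [← Matrix.mul_assoc, e1, Matrix.mul_assoc]
  have h1 : D * D * D - D = (1 - (D * D + D * D + D * D + D * N + D * N + D * N + N * N)) * N := by
    have h2 : D * D * D - D = D * D * D - D - ((D + N) * (D + N) * (D + N) - (D + N)) := by rw [h, sub_self, sub_zero]
    rw [h2]
    simp only [Matrix.add_mul, Matrix.mul_add, Matrix.sub_mul, Matrix.one_mul, Matrix.mul_assoc, e1, e2]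
    abel
  have h2 : Commute (1 - (D * D + D * D + D * D + D * N + D * N + D * N + N * N)) N := by
    have h3 := hc.mul_left hc
    have h4 := hc.mul_left (Commute.refl N)
    have h5 := (Commute.refl N).mul_left (Commute.refl N)
    exact (Commute.one_left N).sub_left
      ((((((h3.add_left h3).add_left h3).add_left h4).add_left h4).add_left h4).add_left h5)
  obtain ⟨m, hm⟩ := h2.isNilpotent_mul_left hN
  rw [← h1, hD, Matrix.diagonal_mul_diagonal, Matrix.diagonal_mul_diagonal, Matrix.diagonal_sub,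
    Matrix.diagonal_pow] at hm
  have h3 := congrFun (congrFun hm i) i
  rw [Matrix.diagonal_apply_eq, Matrix.zero_apply, Pi.pow_apply] at h3
  exact sub_eq_zero.1 (pow_eq_zero_iff'.1 h3).1

/-- **N3** -/
theorem n3 : N3.{u} := by
  intro K _ p _ hp h hh
  have : CharP (Kb K) p := charP_of_injective_algebraMap (algebraMap K (Kb K)).injective p
  obtain ⟨x0, hx0⟩ : ∃ x0, x0 = mp (algebraMap K (Kb K)) h := ⟨_, rfl⟩
  have h1 : adm x0 * adm x0 * adm x0 = adm x0 := by
    rw [hx0, adm_mp, ← Matrix.map_mul, ← Matrix.map_mul, hh]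
  obtain ⟨g1, hg1⟩ := Bor.borel _ x0
  obtain ⟨g2, hx⟩ := jord _ _ hg1
  rw [← act_mul] at hx
  obtain ⟨g, hg⟩ : ∃ g, g = g2 * g1 := ⟨_, rfl⟩
  rw [← hg] at hx
  have h2 : adm (act g x0) * adm (act g x0) * adm (act g x0) = adm (act g x0) := by
    have h3 : adm (act g x0) * adm (act g x0) * adm (act g x0) * mx g = adm (act g x0) * mx g := by
      rw [Matrix.mul_assoc, ← adm_conj, ← Matrix.mul_assoc, Matrix.mul_assoc (adm (act g x0)), ← adm_conj,
        ← Matrix.mul_assoc, ← adm_conj, Matrix.mul_assoc, Matrix.mul_assoc, ← Matrix.mul_assoc (adm x0), h1]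
    calc _ = adm (act g x0) * adm (act g x0) * adm (act g x0) * mx g * mx g⁻¹ := by
          rw [Matrix.mul_assoc _ (mx g), mx_mul_inv, Matrix.mul_one]
      _ = _ := by rw [h3, Matrix.mul_assoc, mx_mul_inv, Matrix.mul_one]
  obtain ⟨x, hxe⟩ : ∃ x, x = act g x0 := ⟨_, rfl⟩
  rw [← hxe] at hx h2
  have h3 := cube_diag (nilp_adm (sub_tp_mem hx.1)) hx.commute (by rw [← adm_split]; exact h2)
  have h4 : tp x = 0 := eq_zero_of_rl (inT_tp x) fun r => by
    rw [← rl_vec]
    refine add_eq_zero_of_cube p hp _ (fun a ha => ?_) _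
    obtain ⟨s, rfl⟩ := exists_idx ha
    exact h3 (Sum.inr s)
  have h5 := nilp_adm (sub_tp_mem hx.1)
  rw [h4, sub_zero] at h5
  have h6 : IsUnit (1 - adm x * adm x) := ((Commute.refl (adm x)).isNilpotent_mul_left h5).isUnit_one_sub
  have h7 : (1 - adm x * adm x) * adm x = 0 := by rw [Matrix.sub_mul, Matrix.one_mul, h2, sub_self]
  have h8 := eq_zero_of_adm (h6.mul_right_eq_zero.1 h7)
  rw [hxe] at h8
  apply mp_injective (algebraMap K (Kb K))
  rw [← hx0, act_eq_zero h8, mp_zero]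

end Cfsg.Agent.E8A.Reg5.Aut
end

-- part: E8A/Reg5/Cls
section
/-!
# The box CLS (helper93)
-/

set_option autoImplicit false
set_option maxRecDepth 100000

namespace Cfsg.Agent.E8A.Reg5.Cls

open Cfsg Cfsg.Lie Matrix Module
open Cfsg.Agent.H288.E8L (Q8 wt)
open Cfsg.Agent.FP3 (dfx fixSp comSp mem_fixSp a1_scott sub_mem_comSp)
open Cfsg.Agent.Lib.VonDyck (a5 b5 closure_a5_b5 card_alternating5 a5_sq b5_pow ab5_pow)

universe u

/-- the three generators -/
def gn : Fin 3 → A5 := ![a5, b5, a5 * b5]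

/-- the least dimensions -/
def mn : Fin 3 → ℕ := ![120, 80, 48]

theorem gn_pow : ∀ i, gn i ^ mm i = 1 := by decide +kernel

theorem conj_gn : ∀ (i : Fin 3) (a : A5), a ^ mm i = 1 → a ≠ 1 →
    ∃ g : A5, a * g = g * gn i ∨ a ^ 2 * g = g * gn i := by (set_option synthInstance.maxSize 9000 in open scoped Cfsg.Agent.Lib.FastPerm in decide +kernel)

theorem tb_mn : ∀ i : Fin 3, ∀ x ∈ tb (mm i), mn i ≤ x.2 ∧
    (x.2 ≤ mn i → (fun k : Fin 8 => ((x.1.getD k 0 : ℕ) : ℤ)) = Pi.single (nd i) 1) := by decide +kernel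

theorem a5_perfect : commutator A5 = ⊤ := by
  refine (IsSimpleGroup.eq_bot_or_eq_top_of_normal (commutator A5) inferInstance).resolve_left fun h0 => ?_
  rw [commutator_eq_bot_iff_center_eq_top] at h0
  have h1 : a5 * b5 = b5 * a5 := Subgroup.mem_center_iff.1 (h0 ▸ Subgroup.mem_top b5) a5
  revert h1
  decide

theorem com_top_of {K V G : Type*} [Field K] [AddCommGroup V] [Module K V] [Group G] [Finite G]
    (hG : (Nat.card G : K) ≠ 0) (ρ : Representation K G V) (h : ∀ v, (∀ a, ρ a v = v) → v = 0) :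
    ⨆ a, comSp (ρ a) = ⊤ := by
  have := Fintype.ofFinite G
  rw [eq_top_iff]
  intro v _
  have h1 : ∑ a, ρ a v = 0 := by
    refine h _ fun b => ?_
    rw [map_sum]
    simp only [← FP3.rep_mul_apply]
    exact Equiv.sum_comp (Equiv.mulLeft b) fun a => ρ a v
  have h2 : ∑ a, (ρ a v - v) ∈ ⨆ a, comSp (ρ a) :=
    Submodule.sum_mem _ fun a _ => Submodule.mem_iSup_of_mem a (sub_mem_comSp _ _)
  rw [Finset.sum_sub_distrib, h1, zero_sub, Finset.sum_const, Finset.card_univ, ← Nat.card_eq_fintype_card,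
    ← Nat.cast_smul_eq_nsmul K] at h2
  have h3 := Submodule.smul_mem _ (-(Nat.card G : K)⁻¹) h2
  rwa [smul_neg, neg_smul, neg_neg, smul_smul, inv_mul_cancel₀ hG, one_smul] at h3

theorem dfx_le_sq {K V : Type*} [Field K] [AddCommGroup V] [Module K V] [FiniteDimensional K V] (u : Module.End K V) :
    dfx u ≤ dfx (u ^ 2) := by
  refine Submodule.finrank_mono fun w hw => ?_
  rw [mem_fixSp] at hw ⊢
  rw [pow_two, Module.End.mul_apply, hw, hw]

theorem cls : CLS.{u} := by
  intro F _ _ p _ hp φ hφ i a ζ ha hζ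
  have hpp : p.Prime := (CharP.char_is_prime_or_zero F p).resolve_right (by omega)
  have := Fact.mk hpp
  have hK : CharP (Kb F) p := charP_of_injective_algebraMap (algebraMap F (Kb F)).injective p
  have hcop : ∀ m : ℕ, 0 < m → m < 7 → m.Coprime p := fun m h0 h7 =>
    (hpp.coprime_iff_not_dvd.2 (Nat.not_dvd_of_pos_of_lt h0 (by omega))).symm
  have hmm : ∀ j, mm j ∈ [2, 3, 5] ∧ 0 < mm j ∧ mm j < 7 ∧ mm j ≠ 1 := by decide
  let ρ : Representation (Kb F) A5 (L8 (Kb F)) := (LK (Kb F)).comp φ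
  have h60 : ((Nat.card A5 : ℕ) : Kb F) ≠ 0 := by
    rw [card_alternating5, Ne, CharP.cast_eq_zero_iff (Kb F) p, ← hpp.coprime_iff_not_dvd]
    exact ((((hcop 3 (by norm_num) (by norm_num)).mul_left (hcop 4 (by norm_num) (by norm_num))).mul_left
      (hcop 5 (by norm_num) (by norm_num)))).symm
  have h1 := a1_scott a5_perfect closure_a5_b5 ρ hφ (com_top_of h60 ρ hφ) isUnit_one fun s => by
    rw [mul_one, one_mul]
  rw [mul_one, mul_one] at h1
  have h4 : finrank (Kb F) (L8 (Kb F)) = 248 := by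
    rw [Module.finrank_fintype_fun_eq_card, Fintype.card_sum, Fintype.card_fin, Fintype.card_fin]
    rfl
  have h2 : ∀ j, mn j ≤ dfx (ρ (gn j)) := by
    intro j
    obtain ⟨ξ, hξ⟩ := exists_prim (F := F) p (hcop _ (hmm j).2.1 (hmm j).2.2.1)
    obtain ⟨x, hx, -, hd⟩ := exists_tb p (hmm j).1 (hcop _ (hmm j).2.1 (hmm j).2.2.1) hξ (g := φ (gn j))
      (by rw [← map_pow, gn_pow, map_one])
    exact (tb_mn j x hx).1.trans hd.ge
  have h3 : dfx (ρ (gn i)) ≤ mn i := by
    have e0 : 120 ≤ dfx (ρ a5) := h2 0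
    have e1 : 80 ≤ dfx (ρ b5) := h2 1
    have e2 : 48 ≤ dfx (ρ (a5 * b5)) := h2 2
    fin_cases i
    · change dfx (ρ a5) ≤ 120
      omega
    · change dfx (ρ b5) ≤ 80
      omega
    · change dfx (ρ (a5 * b5)) ≤ 48
      omega
  have hpow : a ^ mm i = 1 := by rw [← ha, pow_orderOf_eq_one]
  have h5 : dfx (ρ a) ≤ dfx (ρ (gn i)) := by
    have h6 : ∀ b g : A5, b * g = g * gn i → dfx (ρ b) ≤ dfx (ρ (gn i)) := by
      intro b g h
      refine dfx_le_of_semi (e := ρ g⁻¹) (act_injective (φ g⁻¹)) ?_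
      rw [← map_mul, ← map_mul]
      congr 1
      rw [eq_inv_mul_iff_mul_eq, ← mul_assoc, ← h, mul_inv_cancel_right]
    obtain ⟨g, h | h⟩ := conj_gn i a hpow (fun h => (hmm i).2.2.2 (by rw [← ha, h, orderOf_one]))
    · exact h6 _ g h
    · exact (dfx_le_sq (ρ a)).trans (by rw [← map_pow]; exact h6 _ g h)
  obtain ⟨x, hx, ⟨c, hc⟩, hd⟩ := exists_tb p (hmm i).1 (hcop _ (hmm i).2.1 (hmm i).2.2.1) hζ (g := φ a)
    (by rw [← map_pow, hpow, map_one])
  refine ⟨c, ?_⟩
  rw [hc, (tb_mn i x hx).2 (hd.ge.trans (h5.trans h3)), dz]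
  congr 2
  funext j
  congr 1
  rw [ex, Finset.sum_eq_single (nd i) (fun k _ hk => by rw [Pi.single_eq_of_ne hk, mul_zero])
    (fun h => absurd (Finset.mem_univ _) h), Pi.single_eq_same, mul_one, lam]

end Cfsg.Agent.E8A.Reg5.Cls
end

-- part: E8A/Reg5/Uniq
section
/-!
# `A₅` without fixed vectors on the adjoint module of `E₈`, characteristic at least 7: the result (helper42)
-/

set_option autoImplicit false

namespace Cfsg.Agent.E8A.Reg5

universe u

/-- **UNIQ** -/
theorem uniq : UNIQ.{u} :=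
  Fin.fin triv Aut.inst Par.par Alg.ext Alg.der Alg.amal Alg.spec IcoEx.ico Aut.aut Aut.n3 Cls.cls Gen.gen

/-- **REG5** -/
theorem reg5 : REG5.{u} := Rho.reg5_of uniq

end Cfsg.Agent.E8A.Reg5
end

private theorem dce_a1314456d708 : _root_.True := by
  try have : _root_.True := by simp only [_root_.Cfsg.Agent.E8A.Reg5.lam.eq_1]
  try have : _root_.True := by simp only [_root_.Cfsg.Agent.E8A.Reg5.Par.wd.eq_1]
  try have : _root_.True := by simp only [_root_.Cfsg.Agent.E8A.Reg5.Fin.uu.congr_simp]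
  try have : _root_.True := by simp only [_root_.Cfsg.Agent.E8A.Reg5.dt.eq_1]
  exact _root_.True.intro
end
end
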